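import Cfsg.Agent.Held.SideWords
import Mathlib
import Cfsg.Agent.Held.LetterVals
set_option linter.all false

-- part: Held/EmbSt
section
/-!
# The Steinberg relators hold for an embedding of the codes
-/

set_option autoImplicit false

namespace Cfsg.Agent.Held.EmbSt

open Cfsg.Agent.SporadicRecognition.CosetCert Cfsg.Agent.Held.Config Cfsg.Agent.Held.Letters
  Cfsg.Agent.Held.Code

/-- codes of the letters -/
def cx (n : ℕ) : ℕ :=
  [X 0 1, X 0 2, X 0 3, X 0 4, X 1 2, X 1 3, X 1 4, X 2 3, X 2 4, X 3 4, X 2 1, X 3 2].getD n e1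

/-- code of a word -/
def evC (r : List ℕ) : ℕ := r.foldr (fun l a => mu (cx l) a) e1

theorem cx_of_ge {n : ℕ} (h : 12 ≤ n) : cx n = e1 := by
  unfold cx
  rw [List.getD_eq_getElem?_getD, List.getElem?_eq_none (by simpa using h)]
  rfl

theorem C_cx (n : ℕ) : C (cx n) := by
  rcases Nat.lt_or_ge n 12 with h | h
  · have key : ∀ n < 12, isC (cx n) (cx n) = true := by decide +kernel
    exact C_of_isC (key n h)
  · rw [cx_of_ge h]; exact C_e1

theorem C_evC (r : List ℕ) : C (evC r) := by
  induction r with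
  | nil => exact C_e1
  | cons l r ih => exact (C_cx l).mul ih

section
variable {G : Type*} [Group G] {z : G} {ph : ℕ → G}

theorem ph_e1 (h : Emb z ph) : ph e1 = 1 := by
  have h1 := h.mul C_e1 C_e1
  rw [mu_e1 (by decide)] at h1
  exact mul_eq_left.mp h1.symm

theorem gx_ph (h : Emb z ph) (n : ℕ) : gx (fun i j => ph (X i j)) n = ph (cx n) := by
  rcases Nat.lt_or_ge n 12 with hn | hn
  · interval_cases n <;> rfl
  · rw [cx_of_ge hn, gx_of_ge _ hn, ph_e1 h]

theorem ev_ph (h : Emb z ph) (r : List ℕ) : ev (gx (fun i j => ph (X i j))) r = ph (evC r) := by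
  induction r with
  | nil => exact (ph_e1 h).symm
  | cons l r ih =>
    rw [ev_cons, ih, gx_ph h, ← h.mul (C_cx l) (C_evC r)]
    rfl

theorem relsP_codes : ∀ r ∈ relsP, evC r = e1 := by decide +kernel

theorem cx_sq (n : ℕ) : mu (cx n) (cx n) = e1 := by
  rcases Nat.lt_or_ge n 12 with h | h
  · have key : ∀ n < 12, mu (cx n) (cx n) = e1 := by decide +kernel
    exact key n h
  · rw [cx_of_ge h]; decide +kernel

/-- the root elements of an embedding satisfy the Steinberg relations -/
theorem st_of_emb (h : Emb z ph) : St (fun i j => ph (X i j)) where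
  sq := by
    intro n
    rw [gx_ph h, ← h.mul (C_cx n) (C_cx n), cx_sq, ph_e1 h]
  rel := by
    intro r hr
    rw [ev_ph h, relsP_codes r hr, ph_e1 h]

end

end Cfsg.Agent.Held.EmbSt
end

-- part: HeldType/Code
section
/-!
# 5 x 5 matrices over `ZMod 2` coded as natural numbers

The entry `(i, j)` of the matrix coded by `a` is the bit `5 * i + j` of `a`.
-/

set_option autoImplicit false

namespace Cfsg.Agent.HeldType.Code

/-- product of two codes (kernel-fast: only `Nat` primitives) -/
def mul (a b : ℕ) : ℕ :=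
  Nat.xor (Nat.mul (Nat.land a 1082401) (Nat.land b 31))
  (Nat.xor (Nat.mul (Nat.land (Nat.shiftRight a 1) 1082401) (Nat.land (Nat.shiftRight b 5) 31))
  (Nat.xor (Nat.mul (Nat.land (Nat.shiftRight a 2) 1082401) (Nat.land (Nat.shiftRight b 10) 31))
  (Nat.xor (Nat.mul (Nat.land (Nat.shiftRight a 3) 1082401) (Nat.land (Nat.shiftRight b 15) 31))
    (Nat.mul (Nat.land (Nat.shiftRight a 4) 1082401) (Nat.land (Nat.shiftRight b 20) 31)))))

/-- the matrix with code `a` -/
def decode (a : ℕ) : Matrix (Fin 5) (Fin 5) (ZMod 2) :=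
  fun i j => if a.testBit (5 * i.val + j.val) then 1 else 0

theorem decode_xor (a b : ℕ) : decode (a ^^^ b) = decode a + decode b := by
  ext i j
  simp only [decode, Nat.testBit_xor, Matrix.add_apply]
  cases a.testBit (5 * i.val + j.val) <;> cases b.testBit (5 * i.val + j.val) <;> decide

theorem land_spread (x : ℕ) : ∃ b0 b1 b2 b3 b4 : Bool,
    x.testBit 0 = b0 ∧ x.testBit 5 = b1 ∧ x.testBit 10 = b2 ∧ x.testBit 15 = b3 ∧
    x.testBit 20 = b4 ∧
    x &&& 1082401 = b0.toNat + b1.toNat * 2 ^ 5 + b2.toNat * 2 ^ 10 + b3.toNat * 2 ^ 15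
      + b4.toNat * 2 ^ 20 := by
  refine ⟨_, _, _, _, _, rfl, rfl, rfl, rfl, rfl, ?_⟩
  have h : x &&& 1082401 = (x % 2 ^ 21) &&& 1082401 := by
    have e : (1082401 : ℕ) = 1082401 % 2 ^ 21 := by norm_num
    apply Nat.eq_of_testBit_eq
    intro i
    simp only [Nat.testBit_and, Nat.testBit_mod_two_pow]
    by_cases hi : i < 21
    · simp [hi]
    · have : Nat.testBit 1082401 i = false := by
        apply Nat.testBit_lt_two_pow
        calc 1082401 < 2 ^ 21 := by norm_num
          _ ≤ 2 ^ i := Nat.pow_le_pow_right (by norm_num) (by omega)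
      simp [this]
  apply Nat.eq_of_testBit_eq
  intro i
  rw [Nat.testBit_and]
  by_cases hi : i < 21
  · generalize h0 : x.testBit 0 = b0
    generalize h1 : x.testBit 5 = b1
    generalize h2 : x.testBit 10 = b2
    generalize h3 : x.testBit 15 = b3
    generalize h4 : x.testBit 20 = b4
    interval_cases i <;> (try simp only [h0, h1, h2, h3, h4]) <;>
      first
      | (cases b0 <;> cases b1 <;> cases b2 <;> cases b3 <;> cases b4 <;> decide)
      | (generalize x.testBit _ = c
         cases c <;> cases b0 <;> cases b1 <;> cases b2 <;> cases b3 <;> cases b4 <;> decide)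
  · have h5 : Nat.testBit 1082401 i = false := by
      apply Nat.testBit_lt_two_pow
      calc 1082401 < 2 ^ 21 := by norm_num
        _ ≤ 2 ^ i := Nat.pow_le_pow_right (by norm_num) (by omega)
    have h6 : Nat.testBit ((x.testBit 0).toNat + (x.testBit 5).toNat * 2 ^ 5
      + (x.testBit 10).toNat * 2 ^ 10 + (x.testBit 15).toNat * 2 ^ 15
      + (x.testBit 20).toNat * 2 ^ 20) i = false := by
      apply Nat.testBit_lt_two_pow
      have a0 := Bool.toNat_le (x.testBit 0)
      have a1 := Bool.toNat_le (x.testBit 5)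
      have a2 := Bool.toNat_le (x.testBit 10)
      have a3 := Bool.toNat_le (x.testBit 15)
      have a4 := Bool.toNat_le (x.testBit 20)
      calc _ < 2 ^ 21 := by omega
        _ ≤ 2 ^ i := Nat.pow_le_pow_right (by norm_num) (by omega)
    rw [h5, h6]
    simp

/-- all 32 * 32 outer products, checked in the kernel -/
theorem outer_check : ∀ b0 b1 b2 b3 b4 : Bool, ∀ r : Fin 32, ∀ i k : Fin 5,
    Nat.testBit ((b0.toNat + b1.toNat * 2 ^ 5 + b2.toNat * 2 ^ 10 + b3.toNat * 2 ^ 15
      + b4.toNat * 2 ^ 20) * r.val) (5 * i.val + k.val) =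
    ((match i with | 0 => b0 | 1 => b1 | 2 => b2 | 3 => b3 | 4 => b4) && r.val.testBit k.val) := by
  decide +kernel

theorem testBit_outer (x y : ℕ) (i k : Fin 5) :
    Nat.testBit (Nat.mul (Nat.land x 1082401) (Nat.land y 31)) (5 * i.val + k.val) =
      (x.testBit (5 * i.val) && y.testBit k.val) := by
  obtain ⟨b0, b1, b2, b3, b4, h0, h1, h2, h3, h4, hx⟩ := land_spread x
  have hy : Nat.land y 31 < 32 := by
    have := Nat.and_le_right (n := y) (m := 31)
    exact Nat.lt_of_le_of_lt this (by norm_num)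
  have h := outer_check b0 b1 b2 b3 b4 ⟨Nat.land y 31, hy⟩ i k
  have e1 : Nat.mul (Nat.land x 1082401) (Nat.land y 31) =
      (b0.toNat + b1.toNat * 2 ^ 5 + b2.toNat * 2 ^ 10 + b3.toNat * 2 ^ 15
      + b4.toNat * 2 ^ 20) * Nat.land y 31 := by
    rw [← hx]; rfl
  rw [e1]
  simp only at h
  rw [h]
  have e2 : (Nat.land y 31).testBit k.val = y.testBit k.val := by
    show (y &&& 31).testBit k.val = _
    rw [Nat.testBit_and]
    have : Nat.testBit 31 k.val = true := by
      clear h
      revert k; decide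
    rw [this]; simp
  rw [e2]
  congr 1
  fin_cases i <;> simp [h0, h1, h2, h3, h4]

theorem decode_outer (x y : ℕ) (i k : Fin 5) :
    decode (Nat.mul (Nat.land x 1082401) (Nat.land y 31)) i k =
      (if x.testBit (5 * i.val) then 1 else 0) * (if y.testBit k.val then 1 else 0) := by
  unfold decode
  rw [testBit_outer]
  cases x.testBit (5 * i.val) <;> cases y.testBit k.val <;> decide

/-- the coding is multiplicative -/
theorem decode_mul (a b : ℕ) : decode (mul a b) = decode a * decode b := by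
  ext i k
  unfold mul
  change decode (_ ^^^ (_ ^^^ (_ ^^^ (_ ^^^ _)))) i k = _
  rw [decode_xor, decode_xor, decode_xor, decode_xor]
  simp only [Matrix.add_apply]
  rw [decode_outer, decode_outer, decode_outer, decode_outer, decode_outer]
  rw [Matrix.mul_apply, Fin.sum_univ_five]
  simp only [decode]
  have hs : ∀ (c n m : ℕ), (Nat.shiftRight c n).testBit m = c.testBit (n + m) := by
    intro c n m
    exact Nat.testBit_shiftRight c
  simp only [hs]
  have e : ∀ n m : ℕ, n + 5 * m = 5 * m + n := fun n m => by omega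
  simp only [e]
  simp only [Fin.val_zero, Fin.val_one, Fin.val_two, Nat.mul_zero, Nat.zero_add, Nat.mul_one]
  have f3 : ((3 : Fin 5) : ℕ) = 3 := rfl
  have f4 : ((4 : Fin 5) : ℕ) = 4 := rfl
  simp only [f3, f4, add_zero]
  norm_num
  ring

theorem mul_lt (a b : ℕ) : mul a b < 2 ^ 25 := by
  have h : ∀ x y : ℕ, Nat.mul (Nat.land x 1082401) (Nat.land y 31) < 2 ^ 25 := by
    intro x y
    have h1 : Nat.land x 1082401 ≤ 1082401 := Nat.and_le_right
    have h2 : Nat.land y 31 ≤ 31 := Nat.and_le_right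
    calc Nat.mul (Nat.land x 1082401) (Nat.land y 31) ≤ 1082401 * 31 := Nat.mul_le_mul h1 h2
      _ < 2 ^ 25 := by norm_num
  unfold mul
  exact Nat.xor_lt_two_pow (h _ _) (Nat.xor_lt_two_pow (h _ _) (Nat.xor_lt_two_pow (h _ _)
    (Nat.xor_lt_two_pow (h _ _) (h _ _))))

theorem decode_inj {a b : ℕ} (ha : a < 2 ^ 25) (hb : b < 2 ^ 25) (h : decode a = decode b) :
    a = b := by
  apply Nat.eq_of_testBit_eq
  intro n
  by_cases hn : n < 25
  · have hi : n / 5 < 5 := by omega
    have hj : n % 5 < 5 := Nat.mod_lt _ (by norm_num)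
    have h1 := congrFun (congrFun h ⟨n / 5, hi⟩) ⟨n % 5, hj⟩
    simp only [decode] at h1
    have e : 5 * (n / 5) + n % 5 = n := Nat.div_add_mod n 5
    rw [e] at h1
    cases ha' : a.testBit n <;> cases hb' : b.testBit n <;> simp_all
  · have h25 : 2 ^ 25 ≤ 2 ^ n := Nat.pow_le_pow_right (by norm_num) (by omega)
    rw [Nat.testBit_lt_two_pow (lt_of_lt_of_le ha h25),
      Nat.testBit_lt_two_pow (lt_of_lt_of_le hb h25)]

/-- code of the identity -/
def one : ℕ := 17043521
/-- code of `1 + E₀₄` -/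
def zc : ℕ := 17043537
/-- code of `1 + E₀₁` -/
def sc : ℕ := 17043523
/-- code of the permutation matrix exchanging `1` and `4` -/
def pc : ℕ := 2363905

theorem decode_one : decode one = 1 := by
  ext i j
  fin_cases i <;> fin_cases j <;> rfl

theorem decode_sc : decode sc = Matrix.transvection 0 1 (1 : ZMod 2) := by
  ext i j
  fin_cases i <;> fin_cases j <;> decide

theorem pc_sq : mul pc pc = one := by decide
theorem pc_conj : mul (mul pc sc) pc = zc := by decide

/-- the determinant of the middle block -/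
def det3 (a : ℕ) : Bool :=
  (a.testBit 6 && ((a.testBit 12 && a.testBit 18) ^^ (a.testBit 13 && a.testBit 17))) ^^
  ((a.testBit 7 && ((a.testBit 11 && a.testBit 18) ^^ (a.testBit 13 && a.testBit 16))) ^^
  (a.testBit 8 && ((a.testBit 11 && a.testBit 17) ^^ (a.testBit 12 && a.testBit 16))))

/-- Boolean test: `a` is the code of an element of the centraliser of `1 + E₀₄` in `SL₅(2)` -/
def good (a : ℕ) : Bool :=
  Nat.blt a 33554432 && Nat.beq (Nat.land a 32539681) 16777217 && det3 a

theorem det_block (A : Matrix (Fin 5) (Fin 5) (ZMod 2))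
    (h1 : A 1 0 = 0) (h2 : A 2 0 = 0) (h3 : A 3 0 = 0) (h4 : A 4 0 = 0)
    (r1 : A 4 1 = 0) (r2 : A 4 2 = 0) (r3 : A 4 3 = 0) :
    A.det = A 0 0 * A 4 4 * (A 1 1 * A 2 2 * A 3 3 - A 1 1 * A 2 3 * A 3 2
      - A 1 2 * A 2 1 * A 3 3 + A 1 2 * A 2 3 * A 3 1 + A 1 3 * A 2 1 * A 3 2
      - A 1 3 * A 2 2 * A 3 1) := by
  rw [Matrix.det_succ_column_zero, Fin.sum_univ_five]
  simp only [h1, h2, h3, h4, mul_zero, zero_mul, add_zero]
  rw [Matrix.det_succ_row _ (Fin.last 3), Fin.sum_univ_four]
  have e0 : (A.submatrix (Fin.succAbove 0) Fin.succ) (Fin.last 3) 0 = 0 := r1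
  have e1 : (A.submatrix (Fin.succAbove 0) Fin.succ) (Fin.last 3) 1 = 0 := r2
  have e2 : (A.submatrix (Fin.succAbove 0) Fin.succ) (Fin.last 3) 2 = 0 := r3
  have e3 : (A.submatrix (Fin.succAbove 0) Fin.succ) (Fin.last 3) 3 = A 4 4 := rfl
  simp only [e0, e1, e2, e3, mul_zero, zero_mul, zero_add]
  rw [Matrix.det_fin_three]
  have f : ∀ i j : Fin 3, ((A.submatrix (Fin.succAbove 0) Fin.succ).submatrix
      (Fin.last 3).succAbove (Fin.succAbove 3)) i j =
      A ⟨i.val + 1, by omega⟩ ⟨j.val + 1, by omega⟩ := by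
    intro i j
    fin_cases i <;> fin_cases j <;> rfl
  rw [f, f, f, f, f, f, f, f, f]
  have g : ((Fin.last 3 : Fin 4) : ℕ) = 3 := rfl
  have g' : ((3 : Fin 4) : ℕ) = 3 := rfl
  have g0 : ((0 : Fin 5) : ℕ) = 0 := rfl
  rw [g, g', g0]
  have s1 : ((-1 : ZMod 2)) ^ 0 = 1 := by decide
  have s2 : ((-1 : ZMod 2)) ^ (3 + 3) = 1 := by decide
  rw [s1, s2]
  have q1 : (⟨((0 : Fin 3) : ℕ) + 1, by omega⟩ : Fin 5) = 1 := rfl
  have q2 : (⟨((1 : Fin 3) : ℕ) + 1, by omega⟩ : Fin 5) = 2 := rfl
  have q3 : (⟨((2 : Fin 3) : ℕ) + 1, by omega⟩ : Fin 5) = 3 := rfl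
  rw [q1, q2, q3]
  ring

theorem det3_iff (a : ℕ) : (decode a 1 1 * decode a 2 2 * decode a 3 3
      - decode a 1 1 * decode a 2 3 * decode a 3 2
      - decode a 1 2 * decode a 2 1 * decode a 3 3 + decode a 1 2 * decode a 2 3 * decode a 3 1
      + decode a 1 3 * decode a 2 1 * decode a 3 2
      - decode a 1 3 * decode a 2 2 * decode a 3 1 = 1) ↔ det3 a = true := by
  have e : ∀ i j : Fin 5, decode a i j = if a.testBit (5 * i.val + j.val) then 1 else 0 :=
    fun _ _ => rfl
  simp only [e]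
  have f1 : ((1 : Fin 5) : ℕ) = 1 := rfl
  have f2 : ((2 : Fin 5) : ℕ) = 2 := rfl
  have f3 : ((3 : Fin 5) : ℕ) = 3 := rfl
  simp only [f1, f2, f3, det3, Nat.reduceMul, Nat.reduceAdd]
  generalize a.testBit 6 = b6
  generalize a.testBit 7 = b7
  generalize a.testBit 8 = b8
  generalize a.testBit 11 = b11
  generalize a.testBit 12 = b12
  generalize a.testBit 13 = b13
  generalize a.testBit 16 = b16
  generalize a.testBit 17 = b17
  generalize a.testBit 18 = b18
  revert b6 b7 b8 b11 b12 b13 b16 b17 b18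
  decide +kernel

theorem land_mask (a : ℕ) : Nat.land a 32539681 = 16777217 ↔
    (a.testBit 0 = true ∧ a.testBit 5 = false ∧ a.testBit 10 = false ∧ a.testBit 15 = false ∧
      a.testBit 20 = false ∧ a.testBit 21 = false ∧ a.testBit 22 = false ∧
      a.testBit 23 = false ∧ a.testBit 24 = true) := by
  constructor
  · intro h
    have h' : a &&& 32539681 = 16777217 := h
    have k : ∀ n, (a.testBit n && Nat.testBit 32539681 n) = Nat.testBit 16777217 n := by
      intro n
      rw [← Nat.testBit_and, h']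
    have t : ∀ n, Nat.testBit 32539681 n = true → a.testBit n = Nat.testBit 16777217 n := by
      intro n hn
      have := k n
      rw [hn, Bool.and_true] at this
      exact this
    exact ⟨t 0 (by decide), t 5 (by decide), t 10 (by decide), t 15 (by decide),
      t 20 (by decide), t 21 (by decide), t 22 (by decide), t 23 (by decide), t 24 (by decide)⟩
  · rintro ⟨h0, h5, h10, h15, h20, h21, h22, h23, h24⟩
    show a &&& 32539681 = 16777217
    apply Nat.eq_of_testBit_eq
    intro n
    rw [Nat.testBit_and]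
    by_cases hn : n < 25
    · interval_cases n <;>
      first
      | (simp only [h0, h5, h10, h15, h20, h21, h22, h23, h24]; decide)
      | (generalize a.testBit _ = c
         cases c <;> decide)
    · have h25 : 2 ^ 25 ≤ 2 ^ n := Nat.pow_le_pow_right (by norm_num) (by omega)
      rw [Nat.testBit_lt_two_pow (lt_of_lt_of_le (by norm_num : 32539681 < 2 ^ 25) h25),
        Nat.testBit_lt_two_pow (lt_of_lt_of_le (by norm_num : 16777217 < 2 ^ 25) h25)]
      simp

theorem dec_zero {a : ℕ} {i j : Fin 5} (h : a.testBit (5 * i.val + j.val) = false) :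
    decode a i j = 0 := by
  unfold decode; rw [h]; rfl

theorem dec_one {a : ℕ} {i j : Fin 5} (h : a.testBit (5 * i.val + j.val) = true) :
    decode a i j = 1 := by
  unfold decode; rw [h]; rfl

theorem dec_zero_iff {a : ℕ} {i j : Fin 5} :
    decode a i j = 0 ↔ a.testBit (5 * i.val + j.val) = false := by
  unfold decode
  cases a.testBit (5 * i.val + j.val) <;> simp

theorem dec_one_iff {a : ℕ} {i j : Fin 5} :
    decode a i j = 1 ↔ a.testBit (5 * i.val + j.val) = true := by
  unfold decode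
  cases a.testBit (5 * i.val + j.val) <;> simp

theorem decode_zc : decode zc = Matrix.transvection 0 4 (1 : ZMod 2) := by
  ext i j
  fin_cases i <;> fin_cases j <;> decide

theorem comm_iff (A : Matrix (Fin 5) (Fin 5) (ZMod 2)) :
    decode zc * A = A * decode zc ↔
      (A 1 0 = 0 ∧ A 2 0 = 0 ∧ A 3 0 = 0 ∧ A 4 0 = 0 ∧ A 4 1 = 0 ∧ A 4 2 = 0 ∧ A 4 3 = 0 ∧
        A 0 0 = A 4 4) := by
  rw [decode_zc]
  have hl : ∀ i j : Fin 5, (Matrix.transvection 0 4 (1 : ZMod 2) * A : Matrix _ _ _) i j =
      A i j + if i = 0 then A 4 j else 0 := by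
    intro i j
    by_cases hi : i = 0
    · subst hi
      rw [Matrix.transvection_mul_apply_same]; simp
    · rw [Matrix.transvection_mul_apply_of_ne _ _ _ _ hi]; simp [hi]
  have hr : ∀ i j : Fin 5, (A * Matrix.transvection 0 4 (1 : ZMod 2) : Matrix _ _ _) i j =
      A i j + if j = 4 then A i 0 else 0 := by
    intro i j
    by_cases hj : j = 4
    · subst hj
      rw [Matrix.mul_transvection_apply_same]; simp
    · rw [Matrix.mul_transvection_apply_of_ne _ _ _ _ hj]; simp [hj]
  constructor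
  · intro h
    have k : ∀ i j, (if i = 0 then A 4 j else 0) = (if j = 4 then A i 0 else (0 : ZMod 2)) := by
      intro i j
      have := congrFun (congrFun h i) j
      rw [hl, hr] at this
      exact add_left_cancel this
    refine ⟨?_, ?_, ?_, ?_, ?_, ?_, ?_, ?_⟩
    · simpa using (k 1 4).symm
    · simpa using (k 2 4).symm
    · simpa using (k 3 4).symm
    · simpa using (k 4 4).symm
    · simpa using k 0 1
    · simpa using k 0 2
    · simpa using k 0 3
    · simpa using (k 0 4).symm
  · rintro ⟨h1, h2, h3, h4, r1, r2, r3, h0⟩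
    ext i j
    rw [hl, hr]
    congr 1
    fin_cases i <;> fin_cases j <;> simp [h1, h2, h3, h4, r1, r2, r3, h0]

theorem good_iff (a : ℕ) : good a = true ↔
    (a < 2 ^ 25 ∧ decode zc * decode a = decode a * decode zc ∧ (decode a).det = 1) := by
  unfold good
  rw [Bool.and_eq_true, Bool.and_eq_true, Nat.blt_eq, Nat.beq_eq, land_mask, comm_iff, and_assoc]
  constructor
  · rintro ⟨hlt, ⟨h0, h5, h10, h15, h20, h21, h22, h23, h24⟩, hd⟩
    have a1 : decode a 1 0 = 0 := dec_zero h5
    have a2 : decode a 2 0 = 0 := dec_zero h10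
    have a3 : decode a 3 0 = 0 := dec_zero h15
    have a4 : decode a 4 0 = 0 := dec_zero h20
    have b1 : decode a 4 1 = 0 := dec_zero h21
    have b2 : decode a 4 2 = 0 := dec_zero h22
    have b3 : decode a 4 3 = 0 := dec_zero h23
    have c0 : decode a 0 0 = 1 := dec_one h0
    have c4 : decode a 4 4 = 1 := dec_one h24
    refine ⟨by norm_num; exact hlt, ⟨a1, a2, a3, a4, b1, b2, b3, by rw [c0, c4]⟩, ?_⟩
    rw [det_block _ a1 a2 a3 a4 b1 b2 b3, c0, c4, one_mul, one_mul]
    exact (det3_iff a).2 hd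
  · rintro ⟨hlt, ⟨a1, a2, a3, a4, b1, b2, b3, h0⟩, hd⟩
    rw [det_block _ a1 a2 a3 a4 b1 b2 b3] at hd
    have c0 : decode a 0 0 ≠ 0 := by
      intro h
      rw [h, zero_mul, zero_mul] at hd
      exact zero_ne_one hd
    have c0' : decode a 0 0 = 1 := by
      rcases (by decide : ∀ x : ZMod 2, x = 0 ∨ x = 1) (decode a 0 0) with h | h
      · exact absurd h c0
      · exact h
    have c4 : decode a 4 4 = 1 := by rw [← h0, c0']
    rw [c0', c4, one_mul, one_mul] at hd
    refine ⟨by norm_num at hlt; exact hlt, ⟨dec_one_iff.1 c0', dec_zero_iff.1 a1, dec_zero_iff.1 a2,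
      dec_zero_iff.1 a3, dec_zero_iff.1 a4, dec_zero_iff.1 b1, dec_zero_iff.1 b2,
      dec_zero_iff.1 b3, dec_one_iff.1 c4⟩, (det3_iff a).1 hd⟩

theorem good_mul {a b : ℕ} (ha : good a = true) (hb : good b = true) : good (mul a b) = true := by
  rw [good_iff] at *
  obtain ⟨_, ha1, ha2⟩ := ha
  obtain ⟨_, hb1, hb2⟩ := hb
  refine ⟨mul_lt _ _, ?_, ?_⟩
  · rw [decode_mul, ← mul_assoc, ha1, mul_assoc, hb1, mul_assoc]
  · rw [decode_mul, Matrix.det_mul, ha2, hb2, one_mul]

/-- the 168 middle blocks -/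
def mids : List ℕ := [
69888, 69952, 70016, 70080, 71936, 72000, 72064, 72128, 73856, 73920, 74112, 74176, 75904,
75968, 76160, 76224, 77952, 78016, 78080, 78144, 80000, 80064, 80128, 80192, 133376, 133440,
133504, 133568, 137472, 137536, 137600, 137664, 139328, 139456, 139584, 139712, 141376, 141504,
141568, 141696, 143424, 143552, 143680, 143808, 145472, 145600, 145664, 145792, 198912, 198976,
199040, 199104, 200960, 201024, 201088, 201152, 204864, 204928, 205120, 205184, 206912, 206976,
207104, 207296, 208960, 209024, 209152, 209344, 211008, 211072, 211264, 211328, 264320, 264384,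
264576, 264640, 266304, 266432, 266560, 266688, 268352, 268416, 268608, 268672, 272512, 272576,
272768, 272832, 274496, 274624, 274752, 274880, 276544, 276608, 276800, 276864, 329856, 329920,
330112, 330176, 331840, 331968, 332032, 332160, 333888, 333952, 334080, 334272, 336000, 336064,
336256, 336320, 340032, 340096, 340224, 340416, 342080, 342208, 342272, 342400, 395392, 395456,
395520, 395584, 397376, 397504, 397632, 397760, 399424, 399488, 399616, 399808, 401472, 401600,
401728, 401856, 403520, 403584, 403712, 403904, 407680, 407744, 407808, 407872, 460928, 460992,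
461056, 461120, 462912, 463040, 463104, 463232, 464960, 465024, 465216, 465280, 467008, 467072,
467264, 467328, 469056, 469184, 469248, 469376, 471168, 471232, 471296, 471360]

/-- check a Boolean property on all 21504 codes of the centraliser -/
def allC (P : ℕ → Bool) : Bool :=
  mids.all fun m => (List.range 16).all fun r => (List.range 8).all fun c =>
    P (16777217 + 2 * r + m + 512 * (c % 2) + 16384 * (c / 2 % 2) + 524288 * (c / 4))

theorem mids_complete : ∀ u v w : Fin 8,
    det3 (64 * u.val + 2048 * v.val + 65536 * w.val) = true →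
      mids.contains (64 * u.val + 2048 * v.val + 65536 * w.val) = true := by
  decide +kernel

theorem det3_mod {a : ℕ} : det3 a =
    det3 (64 * (a / 64 % 8) + 2048 * (a / 2048 % 8) + 65536 * (a / 65536 % 8)) := by
  have key : ∀ n, n ∈ [6, 7, 8, 11, 12, 13, 16, 17, 18] →
      a.testBit n = Nat.testBit (64 * (a / 64 % 8) + 2048 * (a / 2048 % 8)
        + 65536 * (a / 65536 % 8)) n := by
    intro n hn
    simp only [List.mem_cons, List.not_mem_nil, or_false] at hn
    rcases hn with rfl | rfl | rfl | rfl | rfl | rfl | rfl | rfl | rfl <;>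
    · rw [Nat.testBit_eq_decide_div_mod_eq, Nat.testBit_eq_decide_div_mod_eq]
      congr 1
      apply propext
      norm_num
      omega
  unfold det3
  rw [← key 6 (by simp), ← key 7 (by simp), ← key 8 (by simp), ← key 11 (by simp),
    ← key 12 (by simp), ← key 13 (by simp), ← key 16 (by simp), ← key 17 (by simp),
    ← key 18 (by simp)]

theorem step (a n m k : ℕ) (hk : n * m = k) : a / n = m * (a / k) + a / n % m := by
  subst hk
  rw [← Nat.div_div_eq_div_mul]
  exact (Nat.div_add_mod _ _).symm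

theorem recon (a : ℕ) (hlt : a < 33554432) (h0 : a % 2 = 1) (h5 : a / 32 % 2 = 0)
   (h10 : a / 1024 % 2 = 0) (h15 : a / 32768 % 2 = 0) (h20 : a / 1048576 % 2 = 0)
   (h21 : a / 2097152 % 2 = 0) (h22 : a / 4194304 % 2 = 0) (h23 : a / 8388608 % 2 = 0)
   (h24 : a / 16777216 % 2 = 1) : 
   16777217 + 2 * (a / 2 % 16) + (64 * (a / 64 % 8) + 2048 * (a / 2048 % 8)
      + 65536 * (a / 65536 % 8)) + 512 * ((a / 512 % 2 + 2 * (a / 16384 % 2)
      + 4 * (a / 524288 % 2)) % 2) + 16384 * ((a / 512 % 2 + 2 * (a / 16384 % 2)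
      + 4 * (a / 524288 % 2)) / 2 % 2) + 524288 * ((a / 512 % 2 + 2 * (a / 16384 % 2)
      + 4 * (a / 524288 % 2)) / 4) = a := by
  have s0 := (Nat.div_add_mod a 2)
  have s1 := step a 2 16 32 rfl
  have s2 := step a 32 2 64 rfl
  have s3 := step a 64 8 512 rfl
  have s4 := step a 512 2 1024 rfl
  have s5 := step a 1024 2 2048 rfl
  have s6 := step a 2048 8 16384 rfl
  have s7 := step a 16384 2 32768 rfl
  have s8 := step a 32768 2 65536 rfl
  have s9 := step a 65536 8 524288 rfl
  have s10 := step a 524288 2 1048576 rfl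
  have s11 := step a 1048576 2 2097152 rfl
  have s12 := step a 2097152 2 4194304 rfl
  have s13 := step a 4194304 2 8388608 rfl
  have s14 := step a 8388608 2 16777216 rfl
  have s15 : a / 16777216 = 1 := by
    have : a / 16777216 < 2 := by
      rw [Nat.div_lt_iff_lt_mul (by norm_num)]; exact hlt
    revert this h24
    generalize a / 16777216 = t
    intro h1 h2
    omega
  have b1 : a / 512 % 2 < 2 := Nat.mod_lt _ (by norm_num)
  have b2 : a / 16384 % 2 < 2 := Nat.mod_lt _ (by norm_num)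
  have b3 : a / 524288 % 2 < 2 := Nat.mod_lt _ (by norm_num)
  generalize a / 2 % 16 = r0 at *
  generalize a / 64 % 8 = r1 at *
  generalize a / 2048 % 8 = r2 at *
  generalize a / 65536 % 8 = r3 at *
  generalize a / 512 % 2 = c1 at *
  generalize a / 16384 % 2 = c2 at *
  generalize a / 524288 % 2 = c3 at *
  rw [h0] at s0
  rw [h5] at s2
  rw [h10] at s5
  rw [h15] at s8
  rw [h20] at s11
  rw [h21] at s12
  rw [h22] at s13
  rw [h23] at s14
  rw [s15] at s14
  have e1 : (c1 + 2 * c2 + 4 * c3) % 2 = c1 := by omega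
  have e2 : (c1 + 2 * c2 + 4 * c3) / 2 % 2 = c2 := by omega
  have e3 : (c1 + 2 * c2 + 4 * c3) / 4 = c3 := by omega
  rw [e1, e2, e3]
  clear e1 e2 e3 h24 s15 hlt b1 b2 b3 h0 h5 h10 h15 h20 h21 h22 h23
  linarith

/-- the enumeration is complete -/
theorem of_allC {P : ℕ → Bool} (h : allC P = true) {a : ℕ} (ha : good a = true) :
    P a = true := by
  unfold good at ha
  rw [Bool.and_eq_true, Bool.and_eq_true, Nat.blt_eq, Nat.beq_eq, land_mask] at ha
  obtain ⟨⟨hlt, h0, h5, h10, h15, h20, h21, h22, h23, h24⟩, hd⟩ := ha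
  rw [det3_mod] at hd
  have hm := mids_complete ⟨a / 64 % 8, Nat.mod_lt _ (by norm_num)⟩
    ⟨a / 2048 % 8, Nat.mod_lt _ (by norm_num)⟩ ⟨a / 65536 % 8, Nat.mod_lt _ (by norm_num)⟩ hd
  unfold allC at h
  rw [List.all_eq_true] at h
  have h1 := h _ (by simpa using hm)
  rw [List.all_eq_true] at h1
  have h2 := h1 (a / 2 % 16) (by rw [List.mem_range]; omega)
  rw [List.all_eq_true] at h2
  have h3 := h2 (a / 512 % 2 + 2 * (a / 16384 % 2) + 4 * (a / 524288 % 2))
    (by rw [List.mem_range]; omega)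
  rw [Nat.testBit_eq_decide_div_mod_eq, decide_eq_true_eq] at h0 h24
  rw [Nat.testBit_eq_decide_div_mod_eq, decide_eq_false_iff_not] at h5 h10 h15 h20 h21 h22 h23
  norm_num at h0 h5 h10 h15 h20 h21 h22 h23 h24
  have e := recon a hlt h0 h5 h10 h15 h20 h21 h22 h23 h24
  rw [← e]
  exact h3

end Cfsg.Agent.HeldType.Code
end

-- part: Held/GenC
section
/-!
# The root elements generate the centraliser
-/

set_option autoImplicit false

namespace Cfsg.Agent.Held.GenC

open Cfsg.Agent.SporadicRecognition.CosetCert Cfsg.Agent.Held.Config Cfsg.Agent.Held.Letters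
  Cfsg.Agent.Held.Code Cfsg.Agent.Held.EmbSt Cfsg.Agent.Lib.F2Mat

theorem decode_eq (a : ℕ) : HeldType.Code.decode a = toMat 5 a := by
  ext i j
  rw [toMat_apply]
  unfold HeldType.Code.decode
  cases a.testBit (5 * i.val + j.val) <;> rfl

theorem good_of_C {a : ℕ} (h : C a) : HeldType.Code.good a = true := by
  rw [HeldType.Code.good_iff]
  obtain ⟨h1, h2, b, _, h4, _⟩ := h
  refine ⟨h1, ?_, ?_⟩
  · rw [decode_eq, decode_eq, ← toMat_mul, ← toMat_mul]
    exact congrArg (toMat 5) h2.symm
  · rw [decode_eq]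
    have h6 : (toMat 5 a).det * (toMat 5 b).det = 1 := by
      rw [← Matrix.det_mul, ← toMat_mul, show Lib.F2Mat.mul 5 a b = e1 from h4, ← one_eq_e1,
        toMat_one, Matrix.det_one]
    generalize (toMat 5 a).det = c at h6
    generalize (toMat 5 b).det = d at h6
    revert h6; revert c d; decide

/-- words for the middle blocks -/
def midsW : List (List ℕ) := [
  [4,7,10,4,11,7,10,4], [4,10,11,7,10,4,7], [7,10,4,11,7,10,4], [10,11,7,10,4,7],
  [4,11,7,10,4,11,7], [11,10,4,11,7,4], [10,4,11,7,10,4], [11,7,10,4,11,7], [7,11,7,4,10,4],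
  [7,11,7,10,4], [7,4,11,7,10,4], [4,7,11,7,10,4], [11,7,4,10,4], [11,7,10,4], [4,11,7,10,4],
  [11,7,10,4,7], [11,7,10,4,11,10], [10,11,7,10,4], [4,11,7,10,4,11,10], [4,10,11,7,10,4],
  [10,11,7,4,10,4], [11,7,10,4,11], [4,11,7,10,4,11], [11,7,10,4,7,11], [4,10,4,7,11,7],
  [10,4,7,11,7], [4,10,4,11,7], [10,4,11,7], [4,7,10,4,11,7], [10,4,11,7,4], [4,10,4,11,7,4],
  [7,10,4,11,7], [7,11,7], [7,11,7,4], [4,7,11,7], [7,4,11,7], [7,10,11,7], [10,11,7,4],
  [4,7,10,11,7], [4,10,11,7,4], [11,7], [11,7,4], [4,11,7,4], [4,11,7], [10,11,7],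
  [7,10,11,7,4], [4,7,10,11,7,4], [4,10,11,7], [10,4,11,7,10,11], [10,4,7,11,7,10],
  [10,4,11,7,10], [11,10,4,11,7], [4,7,10,4,11,7,10], [10,4,11,7,4,10], [7,10,4,11,7,10],
  [7,11,10,4,11,7], [7,11,7,10], [7,11,7,4,10], [4,7,11,7,10], [7,4,11,7,10], [11,7,10,11],
  [10,11,7,4,10], [4,11,7,10,11], [4,10,11,7,4,10], [10,11,7,10], [7,10,11,7,4,10],
  [7,4,11,7,10,11], [4,10,11,7,10], [11,7,10], [11,7,4,10], [4,11,7,4,10], [4,11,7,10],
  [4,10,4], [10,4], [4,10,4,7], [10,4,7], [], [4], [4,7,4,7], [7,4,7], [10], [4,10], [10,4,7,4],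
  [7,4,7,10], [7,4,10,4], [7,10,4], [4,7,10,4], [7,10,4,7], [7], [7,4], [4,7,4], [4,7], [7,10],
  [7,4,10], [4,7,4,10], [4,7,10], [4,11,10,4], [11,10,4], [4,11,10,4,7], [11,10,4,7],
  [10,11,10,11], [10,11,10,4], [4,7,4,11,10,11,7], [7,4,11,10,11,7], [11,10,11], [4,11,10,11],
  [11,7,4,7,10,11], [7,4,7,11,10,11], [7,4,11,10,4], [7,11,10,4], [4,7,4,11,10,4],
  [4,7,11,10,4], [7,11,10,11], [7,4,11,10,11], [4,7,4,11,10,11], [4,7,11,10,11], [11,10,11,7],
  [7,10,11,10,4], [4,7,10,11,10,4], [4,11,10,11,7], [4,10,4,11], [10,4,11], [4,10,4,7,11],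
  [10,4,7,11], [11], [4,11], [7,4,7,11], [11,7,4,7], [10,11], [4,10,11], [7,4,7,10,11],
  [10,4,7,4,11], [7,11], [7,4,11], [4,7,11], [4,7,4,11], [7,10,11], [7,4,10,11], [4,7,10,11],
  [4,7,4,10,11], [7,4,10,4,11], [7,10,4,11], [4,7,10,4,11], [7,10,4,7,11], [10,4,11,10],
  [11,10,4,11], [4,10,4,7,11,10], [10,4,7,11,10], [10,11,10], [4,10,11,10], [7,4,7,10,11,10],
  [10,4,7,4,11,10], [11,10], [4,11,10], [7,4,7,11,10], [11,7,4,7,10], [7,11,10], [7,4,11,10],
  [4,7,11,10], [4,7,4,11,10], [7,10,11,10], [7,4,10,11,10], [4,7,10,11,10], [4,7,4,10,11,10],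
  [7,10,4,11,10], [7,11,10,4,11], [4,7,10,4,11,10], [4,7,11,10,4,11]]

theorem mids_words : HeldType.Code.mids.map (fun m => 16777217 + m) = midsW.map evC := by
  decide +kernel

/-- column part -/
def colC (c : ℕ) : ℕ := 17043521 + 512 * (c % 2) + 16384 * (c / 2 % 2) + 524288 * (c / 4)

/-- words for the column parts -/
def colW : List (List ℕ) := [[], [6], [8], [6, 8], [9], [6, 9], [8, 9], [6, 8, 9]]

/-- words for the row parts -/
def rowW : List (List ℕ) := [[], [0], [1], [0, 1], [2], [0, 2], [1, 2], [0, 1, 2],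
  [3], [0, 3], [1, 3], [0, 1, 3], [2, 3], [0, 2, 3], [1, 2, 3], [0, 1, 2, 3]]

theorem col_words : ∀ c < 8, evC (colW.getD c []) = colC c := by decide +kernel

theorem row_words : ∀ r < 16, evC (rowW.getD r []) = 17043521 + 2 * r := by decide +kernel

/-- the decomposition -/
def decomp (m r c : ℕ) : Bool :=
  Nat.beq (mu (mu (colC c) (16777217 + m)) (17043521 + 2 * r))
    (16777217 + 2 * r + m + 512 * (c % 2) + 16384 * (c / 2 % 2) + 524288 * (c / 4))

theorem decomp_mp {m r c : ℕ} (h : decomp m r c = true) :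
    16777217 + 2 * r + m + 512 * (c % 2) + 16384 * (c / 2 % 2) + 524288 * (c / 4) =
      mu (mu (colC c) (16777217 + m)) (17043521 + 2 * r) := (Nat.eq_of_beq_eq_true h).symm

theorem decomp_all : (HeldType.Code.mids.all fun m => (List.range 16).all fun r =>
    (List.range 8).all fun c => decomp m r c) = true := by
  decide +kernel

/-- the code with given parts -/
def parts (m r c : ℕ) : ℕ :=
  16777217 + 2 * r + m + 512 * (c % 2) + 16384 * (c / 2 % 2) + 524288 * (c / 4)

/-- `a` has parts -/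
def Q (a : ℕ) : Prop := ∃ m ∈ HeldType.Code.mids, ∃ r < 16, ∃ c < 8, a = parts m r c

theorem Q_parts {m r c : ℕ} (hm : m ∈ HeldType.Code.mids) (hr : r < 16) (hc : c < 8) :
    Q (parts m r c) := ⟨m, hm, r, hr, c, hc, rfl⟩

theorem all_congr {α : Type*} (l : List α) (p q : α → Bool) (h : ∀ x, p x = q x) :
    l.all p = l.all q := by
  have : p = q := funext h
  rw [this]

theorem allC_eq (P : ℕ → Bool) : HeldType.Code.allC P =
    HeldType.Code.mids.all fun m => (List.range 16).all fun r => (List.range 8).all fun c =>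
      P (parts m r c) := rfl

theorem exists_parts {a : ℕ} (h : C a) : Q a := by
  classical
  have key : HeldType.Code.allC (fun a => decide (Q a)) = true := by
    rw [allC_eq, List.all_eq_true]
    intro m hm
    rw [List.all_eq_true]
    intro r hr
    rw [List.all_eq_true]
    intro c hc
    rw [List.mem_range] at hr hc
    exact decide_eq_true (Q_parts hm hr hc)
  exact of_decide_eq_true (HeldType.Code.of_allC key (good_of_C h))

/-- Every code is a product of letters. -/
theorem exists_word {a : ℕ} (h : C a) : ∃ w1 w2 w3 : List ℕ,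
    a = mu (mu (evC w1) (evC w2)) (evC w3) := by
  obtain ⟨m, hm, r, hr, c, hc, e⟩ := exists_parts h
  have h1 : 16777217 + m ∈ midsW.map evC := by
    rw [← mids_words]; exact List.mem_map.mpr ⟨m, hm, rfl⟩
  obtain ⟨w2, _, h2⟩ := List.mem_map.mp h1
  refine ⟨colW.getD c [], w2, rowW.getD r [], ?_⟩
  rw [col_words c hc, h2, row_words r hr, e]
  unfold parts
  have h3 := List.all_eq_true.mp (List.all_eq_true.mp (List.all_eq_true.mp decomp_all m hm) r
    (List.mem_range.mpr hr)) c (List.mem_range.mpr hc)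
  exact decomp_mp h3

section
variable {G : Type*} [Group G] {z : G} {ph : ℕ → G}

theorem ph_evC_mem (h : Emb z ph) (w : List ℕ) :
    ph (evC w) ∈ Subgroup.closure (gx (fun i j => ph (X i j)) '' {n | n < 12}) := by
  rw [← ev_ph h]
  refine ev_mem _ _ _ fun l _ => ?_
  rcases Nat.lt_or_ge l 12 with hl | hl
  · exact Subgroup.subset_closure ⟨l, hl, rfl⟩
  · rw [gx_of_ge _ hl]; exact one_mem _

theorem ph_mem (h : Emb z ph) {a : ℕ} (ha : C a) :
    ph a ∈ Subgroup.closure (gx (fun i j => ph (X i j)) '' {n | n < 12}) := by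
  obtain ⟨w1, w2, w3, rfl⟩ := exists_word ha
  rw [h.mul ((C_evC w1).mul (C_evC w2)) (C_evC w3), h.mul (C_evC w1) (C_evC w2)]
  exact mul_mem (mul_mem (ph_evC_mem h w1) (ph_evC_mem h w2)) (ph_evC_mem h w3)

/-- **Generation**: the root elements generate the centraliser of `z`. -/
theorem closure_gx (h : Emb z ph) :
    Subgroup.closure (gx (fun i j => ph (X i j)) '' {n | n < 12}) =
      Subgroup.centralizer ({z} : Set G) := by
  apply le_antisymm
  · rw [Subgroup.closure_le]
    rintro _ ⟨n, _, rfl⟩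
    rw [gx_ph h]
    show ph (cx n) ∈ Subgroup.centralizer ({z} : Set G)
    rw [Subgroup.mem_centralizer_singleton_iff]
    exact h.comm (C_cx n)
  · intro g hg
    rw [Subgroup.mem_centralizer_singleton_iff] at hg
    obtain ⟨a, ha, rfl⟩ := h.surj g hg
    exact ph_mem h ha

theorem closure_gy (h : Emb z ph) (y1 y2 : G) :
    Subgroup.closure (gy (fun i j => ph (X i j)) y1 y2 '' {n | n < 16}) =
      Subgroup.centralizer ({z} : Set G) ⊔ Subgroup.closure {y1, y2} := by
  apply le_antisymm
  · rw [Subgroup.closure_le]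
    rintro _ ⟨n, hn, rfl⟩
    have hn' : n < 16 := hn
    rcases Nat.lt_or_ge n 12 with h1 | h1
    · rw [gy_of_lt _ _ _ h1]
      refine Subgroup.mem_sup_left ?_
      rw [← closure_gx h]
      exact Subgroup.subset_closure ⟨n, h1, rfl⟩
    · have m1 : y1 ∈ Subgroup.closure {y1, y2} := Subgroup.subset_closure (by simp)
      have m2 : y2 ∈ Subgroup.closure {y1, y2} := Subgroup.subset_closure (by simp)
      refine Subgroup.mem_sup_right ?_
      interval_cases n
      · exact m1
      · exact inv_mem m1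
      · exact m2
      · exact inv_mem m2
  · refine sup_le ?_ ?_
    · rw [← closure_gx h]
      refine Subgroup.closure_mono ?_
      rintro _ ⟨n, hn, rfl⟩
      have hn' : n < 12 := hn
      exact ⟨n, by show n < 16; omega, gy_of_lt _ _ _ hn'⟩
    · rw [Subgroup.closure_le]
      rintro _ (rfl | rfl)
      · exact Subgroup.subset_closure ⟨12, by show 12 < 16; norm_num, rfl⟩
      · exact Subgroup.subset_closure ⟨14, by show 14 < 16; norm_num, rfl⟩

end

end Cfsg.Agent.Held.GenC
end
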