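import Mathlib
import Cfsg.Prelude.Def_Involutions
import Cfsg.Agent.TwoFusion.StronglyEmbeddedBasic
set_option linter.all false

/-!
# Maximal 2-subgroups in `H ∩ H^g`

Let `H` be a subgroup of a finite group `G`, and let `R` be a 2-subgroup which is contained in
`H ∩ gHg⁻¹` for some `g ∉ H` and maximal with this property. Then `N_H(R)/R` is strongly embedded
in `N_G(R)/R` (if some 2-elements of `N_H(R)` and `N_{gHg⁻¹}(R)` lie outside `R`), so the involutions
of `N_H(R)/R` are conjugate in `N_G(R)/R`.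
-/

set_option autoImplicit false

namespace Cfsg.Agent.Held.MaxStab

open Cfsg Subgroup

variable {G : Type*} [Group G] [Finite G]

/-- `R` is a 2-subgroup of `H ∩ gHg⁻¹`, `g ∉ H`, maximal with this property. -/
structure IsMaxStab (H R : Subgroup G) (g : G) : Prop where
  two : IsPGroup 2 R
  notMem : g ∉ H
  le : R ≤ H
  le' : ∀ x ∈ R, g⁻¹ * x * g ∈ H
  max : ∀ (R' : Subgroup G) (g' : G), IsPGroup 2 R' → g' ∉ H → R' ≤ H →
    (∀ x ∈ R', g'⁻¹ * x * g' ∈ H) → R ≤ R' → R' = R

omit [Finite G] in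
/-- A subgroup normalized by an element `x` with `x ^ 2` in it, together with `x`. -/
theorem isPGroup_adjoin (R : Subgroup G) (hR : IsPGroup 2 R) (x : G)
    (hx : x ∈ normalizer (R : Set G)) (hxx : x * x ∈ R) :
    IsPGroup 2 (R ⊔ zpowers x : Subgroup G) := by
  have h1 : IsPGroup 2 (zpowers x) := by
    intro y
    obtain ⟨k, hk⟩ := Subgroup.mem_zpowers_iff.1 y.2
    obtain ⟨m, hm⟩ := hR ⟨x * x, hxx⟩
    refine ⟨m + 1, ?_⟩
    apply Subtype.ext
    show (y : G) ^ 2 ^ (m + 1) = 1
    rw [← hk, ← zpow_natCast, ← zpow_mul, mul_comm, zpow_mul, zpow_natCast]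
    have h2 : (x * x) ^ 2 ^ m = 1 := congrArg Subtype.val hm
    rw [pow_succ', pow_mul, pow_two, h2, one_zpow]
  exact hR.to_sup_of_normal_left' h1 (by
    rw [zpowers_le]; exact hx)

/-- **Key lemma**: fusion of involutions of `N_H(R)/R`. -/
theorem exists_conj {H R : Subgroup G} {g : G} (h : IsMaxStab H R g)
    (b : G) (hb : g⁻¹ * b * g ∈ H) (hbN : b ∈ normalizer (R : Set G)) (hbR : b ∉ R)
    (hbb : b * b ∈ R)
    (a : G) (ha : a ∈ H) (haN : a ∈ normalizer (R : Set G)) (haR : a ∉ R) (haa : a * a ∈ R)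
    (x : G) (hxN : x ∈ normalizer (R : Set G)) (hxR : x ∉ R) (hxx : x * x ∈ R) :
    ∃ n : G, ∃ r ∈ R, n * a * n⁻¹ = x * r := by
  let N : Subgroup G := normalizer (R : Set G)
  have hRN : R ≤ N := Subgroup.le_normalizer
  let R' : Subgroup N := R.subgroupOf N
  have hR'n : R'.Normal := Subgroup.normal_in_normalizer
  let q : N →* N ⧸ R' := QuotientGroup.mk' R'
  let K : Subgroup (N ⧸ R') := (H.subgroupOf N).map q
  have hmemK : ∀ n : N, q n ∈ K ↔ (n : G) ∈ H := by
    intro n
    constructor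
    · rintro ⟨m, hm, hmn⟩
      have h1 : (m : N)⁻¹ * n ∈ R' := QuotientGroup.eq.1 hmn
      have h2 : ((m : N) : G)⁻¹ * n ∈ R := h1
      have h3 : (n : G) = m * ((m : G)⁻¹ * n) := by group
      rw [h3]
      exact H.mul_mem hm (h.le h2)
    · intro hn
      exact ⟨n, hn, rfl⟩
  have hord : ∀ n : N, (n : G) ∉ R → (n : G) * n ∈ R → orderOf (q n) = 2 := by
    intro n h1 h2
    apply orderOf_eq_prime
    · rw [← map_pow]
      show ((n ^ 2 : N) : N ⧸ R') = 1
      rw [QuotientGroup.eq_one_iff]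
      show ((n ^ 2 : N) : G) ∈ R
      rw [pow_two]; exact h2
    · intro h3
      apply h1
      have h4 : ((n : N) : N ⧸ R') = 1 := h3
      rw [QuotientGroup.eq_one_iff] at h4
      exact h4
  have hSE : IsStronglyEmbedded K := by
    refine ⟨?_, ?_, ?_⟩
    · intro htop
      have h1 : q ⟨b, hbN⟩ ∈ K := by rw [htop]; trivial
      have hbH : b ∈ H := (hmemK ⟨b, hbN⟩).1 h1
      have h2 := h.max (R ⊔ zpowers b) g (isPGroup_adjoin R h.two b hbN hbb) h.notMem
        (sup_le h.le (by rw [zpowers_le]; exact hbH)) (by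
          have h3 : (R ⊔ zpowers b) ≤ H.map (MulAut.conj g).toMonoidHom := by
            apply sup_le
            · intro x hx
              exact ⟨g⁻¹ * x * g, h.le' x hx, by
                show g * (g⁻¹ * x * g) * g⁻¹ = x
                group⟩
            · rw [zpowers_le]
              exact ⟨g⁻¹ * b * g, hb, by
                show g * (g⁻¹ * b * g) * g⁻¹ = b
                group⟩
          intro x hx
          obtain ⟨y, hy, hyx⟩ := h3 hx
          have h4 : g⁻¹ * x * g = y := by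
            rw [← hyx]
            show g⁻¹ * (g * y * g⁻¹) * g = y
            group
          rw [h4]; exact hy) le_sup_left
      apply hbR
      rw [← h2]
      exact (le_sup_right : zpowers b ≤ _) (mem_zpowers b)
    · have h1 : orderOf (⟨q ⟨a, haN⟩, (hmemK ⟨a, haN⟩).2 ha⟩ : K) = 2 := by
        rw [Subgroup.orderOf_mk]
        exact hord ⟨a, haN⟩ haR haa
      rw [even_iff_two_dvd, ← h1]
      exact orderOf_dvd_natCard _
    · intro y hy
      obtain ⟨n, rfl⟩ := QuotientGroup.mk'_surjective R' y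
      rw [← Nat.not_even_iff_odd, even_iff_two_dvd]
      intro hdvd
      have f2 : Fact (Nat.Prime 2) := ⟨Nat.prime_two⟩
      obtain ⟨w, hw⟩ := exists_prime_orderOf_dvd_card' 2 hdvd
      obtain ⟨m, hm⟩ := QuotientGroup.mk'_surjective R' (w : N ⧸ R')
      have hw1 : orderOf (w : N ⧸ R') = 2 := by rw [← hw]; exact Subgroup.orderOf_coe w
      have hmK : q m ∈ K := by
        show QuotientGroup.mk' R' m ∈ K
        rw [hm]; exact w.2.1
      have hmH : (m : G) ∈ H := (hmemK m).1 hmK
      have hmR : (m : G) ∉ R := by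
        intro h1
        have h2 : QuotientGroup.mk' R' m = 1 := (QuotientGroup.eq_one_iff (N := R') m).2 h1
        rw [← hm, h2, orderOf_one] at hw1
        exact absurd hw1 (by norm_num)
      have hmm : (m : G) * m ∈ R := by
        have h1 : (w : N ⧸ R') ^ 2 = 1 := by rw [← hw1]; exact pow_orderOf_eq_one _
        rw [← hm, ← map_pow] at h1
        have h2 : (m ^ 2 : N) ∈ R' := (QuotientGroup.eq_one_iff (N := R') (m ^ 2)).1 h1
        have h3 : ((m ^ 2 : N) : G) ∈ R := h2
        rwa [pow_two] at h3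
      have hnH : (n : G) ∉ H := by
        intro h1
        exact hy ((hmemK n).2 h1)
      -- m lies in n H n⁻¹
      have hmn : (n : G)⁻¹ * m * n ∈ H := by
        obtain ⟨v, hv, hvw⟩ := w.2.2
        have h1 : (QuotientGroup.mk' R' n) * v * (QuotientGroup.mk' R' n)⁻¹ = QuotientGroup.mk' R' m := by
          rw [hm]; exact hvw
        have h2 : v = q (n⁻¹ * m * n) := by
          show v = QuotientGroup.mk' R' (n⁻¹ * m * n)
          rw [map_mul, map_mul, ← h1, map_inv]; group
        rw [h2] at hv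
        exact (hmemK (n⁻¹ * m * n)).1 hv
      have h2 := h.max (R ⊔ zpowers (m : G)) n (isPGroup_adjoin R h.two m m.2 hmm) hnH
        (sup_le h.le (by rw [zpowers_le]; exact hmH)) (by
          have h3 : (R ⊔ zpowers (m : G)) ≤ H.map (MulAut.conj (n : G)).toMonoidHom := by
            apply sup_le
            · intro x hx
              have hx' : (n : G)⁻¹ * x * n ∈ R := by
                have h5 := (Subgroup.mem_normalizer_iff.1 (N.inv_mem n.2) x).1 hx
                simpa using h5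
              exact ⟨(n : G)⁻¹ * x * n, h.le hx', by
                show (n : G) * ((n : G)⁻¹ * x * n) * (n : G)⁻¹ = x
                group⟩
            · rw [zpowers_le]
              exact ⟨(n : G)⁻¹ * m * n, hmn, by
                show (n : G) * ((n : G)⁻¹ * m * n) * (n : G)⁻¹ = m
                group⟩
          intro x hx
          obtain ⟨y, hy, hyx⟩ := h3 hx
          have h4 : (n : G)⁻¹ * x * n = y := by
            rw [← hyx]
            show (n : G)⁻¹ * ((n : G) * y * (n : G)⁻¹) * n = y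
            group
          rw [h4]; exact hy) le_sup_left
      apply hmR
      rw [← h2]
      exact (le_sup_right : zpowers (m : G) ≤ _) (mem_zpowers (m : G))
  have hconj := TwoFusion.StronglyEmbeddedBasic.isConj_of_involutions hSE (q ⟨a, haN⟩)
    (q ⟨x, hxN⟩) (hord ⟨a, haN⟩ haR haa) (hord ⟨x, hxN⟩ hxR hxx)
  rw [isConj_iff] at hconj
  obtain ⟨c, hc⟩ := hconj
  obtain ⟨n, rfl⟩ := QuotientGroup.mk'_surjective R' c
  refine ⟨n, x⁻¹ * (n * a * (n : G)⁻¹), ?_, by group⟩
  have h1 : q ⟨x, hxN⟩ = q (n * ⟨a, haN⟩ * n⁻¹) := by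
    rw [map_mul, map_mul, map_inv]; exact hc.symm
  have h2 : (⟨x, hxN⟩ : N)⁻¹ * (n * ⟨a, haN⟩ * n⁻¹) ∈ R' := QuotientGroup.eq.1 h1
  exact h2

/-- Existence of a maximal stabiliser. -/
theorem exists_isMaxStab (H : Subgroup G) (hH : H ≠ ⊤) : ∃ (R : Subgroup G) (g : G), IsMaxStab H R g := by
  obtain ⟨g₀, hg₀⟩ : ∃ g, g ∉ H := by
    by_contra hcon
    push Not at hcon
    exact hH (eq_top_iff.2 fun x _ => hcon x)
  let P : Set (Subgroup G) := {R | IsPGroup 2 R ∧ ∃ g : G, g ∉ H ∧ R ≤ H ∧ ∀ x ∈ R, g⁻¹ * x * g ∈ H}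
  have hP : P.Nonempty := by
    refine ⟨⊥, IsPGroup.of_bot, g₀, hg₀, bot_le, ?_⟩
    intro x hx
    rw [Subgroup.mem_bot.1 hx]
    simp
  obtain ⟨R, ⟨hR2, g, hg, hRH, hRg⟩, hmax⟩ := (Set.toFinite P).exists_maximal hP
  exact ⟨R, g, hR2, hg, hRH, hRg, fun R' g' h1 h2 h3 h4 h5 =>
    le_antisymm (hmax ⟨h1, g', h2, h3, h4⟩ h5) h5⟩

end Cfsg.Agent.Held.MaxStab
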