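import Mathlib
import Cfsg.Agent.Co2Type.Quad
import Cfsg.Agent.Transfer.Extraspecial
import Cfsg.Agent.FastGrp
import Cfsg.Agent.Prune
set_option linter.all false
prune_inst 0x7f00000000000000000000000000000000000000000000000000000000000000000000000000000000000000000000000000000000000000000000000000000000000000000000000000000000000000003fffffffffffffffffffffffffffbeffbdffffffff
open scoped Cfsg.Agent.FastGrp

/-!
# From the hypotheses of S1659 to `Large`
-/

set_option autoImplicit false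

namespace Cfsg.Agent.Held.Ext

open Cfsg.Agent.Co2Type.Quad
open scoped commutatorElement

theorem comm_aux {G : Type*} [Group G] {x y t : G} (htt : t * t = 1)
    (h : y⁻¹ * x⁻¹ * y⁻¹⁻¹ * x⁻¹⁻¹ = t) : x * y = y * x * t := by
  have h1 : y * x = x * y * t := by rw [← h]; group
  rw [h1, mul_assoc, htt, mul_one]

/-- a normal extraspecial 2-subgroup of `C(t)` containing its centraliser is `Large` -/
theorem large_of_hyp {G : Type*} [Group G] [Finite G] (t : G) (ht : orderOf t = 2)
    (Q : Subgroup (Subgroup.centralizer ({t} : Set G))) [Q.Normal] (hQ : Cfsg.IsExtraspecial 2 Q)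
    (hcent : Subgroup.centralizer (Q : Set (Subgroup.centralizer ({t} : Set G))) ≤ Q) :
    Large (Q.map (Subgroup.centralizer ({t} : Set G)).subtype) t := by
  classical
  let C := Subgroup.centralizer ({t} : Set G)
  have htt : t * t = 1 := by rw [← pow_two, ← ht]; exact pow_orderOf_eq_one t
  have ht1 : t ≠ 1 := by
    intro h; rw [h, orderOf_one] at ht; exact absurd ht (by norm_num)
  have htC : t ∈ C := Subgroup.mem_centralizer_singleton_iff.2 rfl
  have hcomm : ∀ c : C, (c : G) * t = t * c := fun c => Subgroup.mem_centralizer_singleton_iff.1 c.2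
  -- t ∈ Q
  have htQ : (⟨t, htC⟩ : C) ∈ Q := by
    apply hcent
    rw [Subgroup.mem_centralizer_iff]
    intro x _
    exact Subtype.ext (hcomm x)
  have hZ : ∀ x : Q, x ∈ Subgroup.center Q → (x : C) = 1 ∨ (x : C) = ⟨t, htC⟩ := by
    intro x hx
    have hcard2 := hQ.2
    have htz : (⟨⟨t, htC⟩, htQ⟩ : Q) ∈ Subgroup.center Q := by
      rw [Subgroup.mem_center_iff]
      intro y
      exact Subtype.ext (Subtype.ext (hcomm (y : C)))
    obtain ⟨a, b, hab, huniv⟩ := Nat.card_eq_two_iff.1 hcard2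
    have h1 : (⟨⟨⟨t, htC⟩, htQ⟩, htz⟩ : Subgroup.center Q) ≠ 1 := by
      intro h
      apply ht1
      exact congrArg (fun y : Subgroup.center Q => (((y : Q) : C) : G)) h
    have key : ∀ y : Subgroup.center Q, y = 1 ∨ y = ⟨⟨⟨t, htC⟩, htQ⟩, htz⟩ := by
      intro y
      have ha : ∀ w : Subgroup.center Q, w = a ∨ w = b := by
        intro w
        have : w ∈ ({a, b} : Set (Subgroup.center Q)) := by rw [huniv]; trivial
        simpa using this
      rcases ha y with hy | hy <;> rcases ha 1 with h2 | h2 <;>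
        rcases ha ⟨⟨⟨t, htC⟩, htQ⟩, htz⟩ with h3 | h3
      · exact absurd (h3.trans h2.symm) h1
      · left; exact hy.trans h2.symm
      · right; exact hy.trans h3.symm
      · exact absurd (h3.trans h2.symm) h1
      · exact absurd (h3.trans h2.symm) h1
      · right; exact hy.trans h3.symm
      · left; exact hy.trans h2.symm
      · exact absurd (h3.trans h2.symm) h1
    rcases key ⟨x, hx⟩ with h | h
    · left; exact congrArg (fun y : Subgroup.center Q => ((y : Q) : C)) h
    · right; exact congrArg (fun y : Subgroup.center Q => ((y : Q) : C)) h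
  refine ⟨⟨⟨t, htC⟩, htQ, rfl⟩, ht1, htt, ?_, ?_, ?_, ?_, ?_, ?_⟩
  · rintro _ ⟨x, _, rfl⟩
    exact hcomm x
  · rintro g hg _ ⟨x, hx, rfl⟩
    have hgC : g ∈ C := Subgroup.mem_centralizer_singleton_iff.2 hg
    exact ⟨⟨g, hgC⟩ * x * ⟨g, hgC⟩⁻¹, (inferInstance : Q.Normal).conj_mem x hx _, rfl⟩
  · rintro _ ⟨x, hx, rfl⟩
    have h1 : (⟨x, hx⟩ : Q) ^ 2 ∈ Subgroup.center Q :=
      Cfsg.Agent.Transfer.Extraspecial.pow_mem_center hQ ⟨x, hx⟩
    rcases hZ _ h1 with h | h
    · left
      have := congrArg (fun y : C => (y : G)) h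
      rw [← pow_two]
      exact this
    · right
      have := congrArg (fun y : C => (y : G)) h
      rw [← pow_two]
      exact this
  · rintro _ ⟨x, hx, rfl⟩ _ ⟨y, hy, rfl⟩
    have h1 : ⁅(⟨y, hy⟩ : Q)⁻¹, (⟨x, hx⟩ : Q)⁻¹⁆ ∈ Subgroup.center Q :=
      Cfsg.Agent.Transfer.Extraspecial.comm_mem_center hQ _ _
    rcases hZ _ h1 with h | h
    · left
      have h2 := congrArg (fun y : C => (y : G)) h
      have h3 : (y : G)⁻¹ * (x : G)⁻¹ * ((y : G)⁻¹)⁻¹ * ((x : G)⁻¹)⁻¹ = 1 := h2
      have h4 : (x : G) * y = (x * y : G) * ((y : G)⁻¹ * (x : G)⁻¹ * ((y : G)⁻¹)⁻¹ * ((x : G)⁻¹)⁻¹) := by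
        rw [h3, mul_one]
      calc (x : G) * y = (x * y : G) * ((y : G)⁻¹ * (x : G)⁻¹ * ((y : G)⁻¹)⁻¹ * ((x : G)⁻¹)⁻¹) := h4
        _ = y * x := by group
    · right
      have h2 := congrArg (fun y : C => (y : G)) h
      have h3 : (y : G)⁻¹ * (x : G)⁻¹ * ((y : G)⁻¹)⁻¹ * ((x : G)⁻¹)⁻¹ = t := h2
      exact comm_aux htt h3
  · rintro _ ⟨x, hx, rfl⟩ hc
    have h1 : (⟨x, hx⟩ : Q) ∈ Subgroup.center Q := by
      rw [Subgroup.mem_center_iff]
      intro y
      apply Subtype.ext
      apply Subtype.ext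
      exact (hc _ ⟨(y : C), y.2, rfl⟩).symm
    rcases hZ _ h1 with h | h
    · left; exact congrArg (fun y : C => (y : G)) h
    · right; exact congrArg (fun y : C => (y : G)) h
  · intro g hg hc
    have hgC : g ∈ C := Subgroup.mem_centralizer_singleton_iff.2 hg
    refine ⟨⟨g, hgC⟩, hcent ?_, rfl⟩
    refine SetLike.mem_coe.2 (Subgroup.mem_centralizer_iff.2 ?_)
    intro y hy
    apply Subtype.ext
    exact (hc _ ⟨y, hy, rfl⟩).symm

end Cfsg.Agent.Held.Ext
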