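import Cfsg.Agent.Lib.F2Mat
set_option linter.all false

/-!
# Codes for the centraliser of a transvection in `SL(5, 2)`

Elements of `SL(5,2)` are coded by natural numbers `< 2 ^ 25` (bit `5 * i + j` is the entry `(i, j)`).
`C a` says that `a` codes an element commuting with the transvection `zz = 1 + E_{04}`.
`Emb z ph` : `ph` transports codes to the centraliser of the involution `z` of a group `G`.
-/

set_option autoImplicit false

namespace Cfsg.Agent.Held.Code

open Cfsg.Agent.Lib.F2Mat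

/-- `SL(5, 2)` -/
abbrev SL := Matrix.SpecialLinearGroup (Fin 5) (ZMod 2)

/-- product of codes -/
abbrev mu (a b : ℕ) : ℕ := Lib.F2Mat.mul 5 a b

/-- code of the identity -/
abbrev e1 : ℕ := 17043521

theorem one_eq_e1 : Lib.F2Mat.one 5 = e1 := by decide +kernel

/-- code of the transvection `1 + E_{ij}` (0-based) -/
def X (i j : ℕ) : ℕ := Nat.add 17043521 (Nat.pow 2 (Nat.add (Nat.mul 5 i) j))

/-- code of the central transvection -/
abbrev zc : ℕ := 17043537

theorem zc_eq : X 0 4 = zc := by decide +kernel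

/-- code of a matrix -/
def codeM (M : Matrix (Fin 5) (Fin 5) (ZMod 2)) : ℕ :=
  blk 1 (fun p => if h : p < 25 then
    (decide (M ⟨p / 5, by omega⟩ ⟨p % 5, by omega⟩ = 1)).toNat else 0) 25

theorem codeM_lt (M : Matrix (Fin 5) (Fin 5) (ZMod 2)) : codeM M < 2 ^ 25 := by
  have h := blk_lt (n := 1) (a := fun p => if h : p < 25 then
    (decide (M ⟨p / 5, by omega⟩ ⟨p % 5, by omega⟩ = 1)).toNat else 0) 25 (by
      intro i hi
      simp only [hi, dif_pos]
      exact lt_of_le_of_lt (Bool.toNat_le _) (by norm_num))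
  exact h

theorem testBit_codeM (M : Matrix (Fin 5) (Fin 5) (ZMod 2)) (i j : Fin 5) :
    (codeM M).testBit (5 * i + j) = decide (M i j = 1) := by
  have hi := i.2
  have hj := j.2
  have hp : 5 * (i : ℕ) + j < 25 := by omega
  have h := testBit_blk (n := 1) (a := fun p => if h : p < 25 then
    (decide (M ⟨p / 5, by omega⟩ ⟨p % 5, by omega⟩ = 1)).toNat else 0) 25 (by
      intro i hi
      simp only [hi, dif_pos]
      exact lt_of_le_of_lt (Bool.toNat_le _) (by norm_num)) (i := 5 * i + j) (j := 0) hp (by norm_num)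
  have e1 : 1 * (5 * (i : ℕ) + j) + 0 = 5 * i + j := by ring
  rw [e1] at h
  unfold codeM
  rw [h]
  simp only [hp, dif_pos]
  have e2 : (⟨(5 * (i : ℕ) + j) / 5, by omega⟩ : Fin 5) = i := by
    apply Fin.ext; show (5 * (i : ℕ) + j) / 5 = i; omega
  have e3 : (⟨(5 * (i : ℕ) + j) % 5, by omega⟩ : Fin 5) = j := by
    apply Fin.ext; show (5 * (i : ℕ) + j) % 5 = j; omega
  rw [e2, e3]
  cases decide (M i j = 1) <;> rfl

theorem toMat_codeM (M : Matrix (Fin 5) (Fin 5) (ZMod 2)) : toMat 5 (codeM M) = M := by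
  ext i j
  rw [toMat_apply, testBit_codeM]
  generalize M i j = c
  revert c
  decide

/-- `a` codes an element of `SL(5,2)` commuting with `zz`. -/
def C (a : ℕ) : Prop := a < 2 ^ 25 ∧ mu a zc = mu zc a ∧ ∃ b, b < 2 ^ 25 ∧ mu a b = e1 ∧ mu b a = e1

theorem mu_lt (a b : ℕ) : mu a b < 2 ^ 25 := mul_lt (n := 5) (by norm_num) a b

theorem mu_assoc (a b c : ℕ) : mu (mu a b) c = mu a (mu b c) := by
  apply toMat_inj (n := 5) (mu_lt _ _) (mu_lt _ _)
  rw [toMat_mul, toMat_mul, toMat_mul, toMat_mul, mul_assoc]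

theorem mu_e1 {a : ℕ} (h : a < 2 ^ 25) : mu a e1 = a := by
  apply toMat_inj (n := 5) (mu_lt _ _) h
  rw [toMat_mul, ← one_eq_e1, toMat_one, mul_one]

theorem e1_mu {a : ℕ} (h : a < 2 ^ 25) : mu e1 a = a := by
  apply toMat_inj (n := 5) (mu_lt _ _) h
  rw [toMat_mul, ← one_eq_e1, toMat_one, one_mul]

theorem C.mul {a b : ℕ} (ha : C a) (hb : C b) : C (mu a b) := by
  obtain ⟨_, ha2, a', ha3, ha4, ha5⟩ := ha
  obtain ⟨hb1, hb2, b', hb3, hb4, hb5⟩ := hb
  refine ⟨mu_lt _ _, ?_, mu b' a', mu_lt _ _, ?_, ?_⟩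
  · rw [mu_assoc, hb2, ← mu_assoc, ha2, mu_assoc]
  · rw [mu_assoc, ← mu_assoc b, hb4, e1_mu ha3, ha4]
  · rw [mu_assoc, ← mu_assoc a', ha5, e1_mu hb1, hb5]

theorem C_e1 : C e1 := ⟨by decide, by decide +kernel, e1, by decide, by decide +kernel,
  by decide +kernel⟩

theorem C.exists_inv {a : ℕ} (ha : C a) : ∃ b, C b ∧ mu a b = e1 ∧ mu b a = e1 := by
  obtain ⟨ha1, ha2, b, hb, h1, h2⟩ := ha
  refine ⟨b, ⟨hb, ?_, a, ha1, h2, h1⟩, h1, h2⟩
  have : mu b (mu (mu a zc) b) = mu b (mu (mu zc a) b) := by rw [ha2]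
  have hz : zc < 2 ^ 25 := by decide
  rw [mu_assoc, ← mu_assoc b a, h2, e1_mu (mu_lt _ _), mu_assoc, h1, mu_e1 hz] at this
  exact this.symm

/-- Boolean certificate for `C a` with inverse `b`. -/
def isC (a b : ℕ) : Bool :=
  (Nat.ble (Nat.succ a) 33554432) && (Nat.ble (Nat.succ b) 33554432) &&
    (Nat.beq (mu a zc) (mu zc a)) && (Nat.beq (mu a b) e1) && (Nat.beq (mu b a) e1)

theorem C_of_isC {a b : ℕ} (h : isC a b = true) : C a := by
  unfold isC at h
  simp only [Bool.and_eq_true, Nat.ble_eq] at h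
  obtain ⟨⟨⟨⟨h1, h2⟩, h3⟩, h4⟩, h5⟩ := h
  exact ⟨h1, Nat.eq_of_beq_eq_true h3, b, h2, Nat.eq_of_beq_eq_true h4,
    Nat.eq_of_beq_eq_true h5⟩

/-- the element of `SL(5,2)` coded by `a` -/
noncomputable def toS (a : ℕ) (h : C a) : SL :=
  ⟨toMat 5 a, by
    obtain ⟨_, _, b, _, h4, _⟩ := h
    have h6 : (toMat 5 a).det * (toMat 5 b).det = 1 := by
      rw [← Matrix.det_mul, ← toMat_mul]
      have : mu a b = e1 := h4
      rw [show Lib.F2Mat.mul 5 a b = e1 from this, ← one_eq_e1, toMat_one, Matrix.det_one]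
    generalize (toMat 5 a).det = c at h6
    generalize (toMat 5 b).det = d at h6
    revert h6; revert c d; decide⟩

theorem toS_coe (a : ℕ) (h : C a) : ((toS a h : SL) : Matrix (Fin 5) (Fin 5) (ZMod 2)) = toMat 5 a :=
  rfl

/-- the transvection `1 + E_{04}` -/
def zz : SL := ⟨Matrix.transvection 0 4 1, by
  rw [Matrix.det_transvection_of_ne _ _ (by decide)]⟩

theorem toMat_zc : toMat 5 zc = Matrix.transvection 0 4 1 := by
  ext i j
  rw [toMat_apply]
  fin_cases i <;> fin_cases j <;> decide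

/-- `ph` transports the codes onto the centraliser of `z`. -/
structure Emb {G : Type*} [Group G] (z : G) (ph : ℕ → G) : Prop where
  mul : ∀ {a b : ℕ}, C a → C b → ph (mu a b) = ph a * ph b
  inj : ∀ {a b : ℕ}, C a → C b → ph a = ph b → a = b
  z_eq : ph zc = z
  comm : ∀ {a : ℕ}, C a → ph a * z = z * ph a
  surj : ∀ g : G, g * z = z * g → ∃ a, C a ∧ ph a = g

theorem exists_code (m : SL) (hm : m * zz = zz * m) : ∃ a, ∃ h : C a, toS a h = m := by
  have key : ∀ x : SL, ∀ y : SL, x * y = 1 → mu (codeM x.1) (codeM y.1) = e1 := by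
    intro x y hxy
    apply toMat_inj (n := 5) (mu_lt _ _) (by decide)
    rw [toMat_mul, toMat_codeM, toMat_codeM, ← one_eq_e1, toMat_one]
    exact congrArg Subtype.val hxy
  have hC : C (codeM m.1) := by
    refine ⟨codeM_lt _, ?_, codeM (m⁻¹).1, codeM_lt _, key _ _ (mul_inv_cancel m),
      key _ _ (inv_mul_cancel m)⟩
    apply toMat_inj (n := 5) (mu_lt _ _) (mu_lt _ _)
    rw [toMat_mul, toMat_mul, toMat_codeM, toMat_zc]
    exact congrArg Subtype.val hm
  refine ⟨codeM m.1, hC, ?_⟩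
  apply Subtype.ext
  exact toMat_codeM _

/-- every isomorphism between the centraliser of `zz` and the centraliser of `z` gives `Emb`. -/
theorem exists_emb {G : Type*} [Group G] (z : G)
    (i : Subgroup.centralizer ({zz} : Set SL) →* G) (hi : Function.Injective i)
    (hr : i.range = Subgroup.centralizer ({z} : Set G))
    (hz : ∀ h : zz ∈ Subgroup.centralizer ({zz} : Set SL), i ⟨zz, h⟩ = z) :
    ∃ ph : ℕ → G, Emb z ph ∧ ∀ (m : SL) (hm : m ∈ Subgroup.centralizer ({zz} : Set SL)) (a : ℕ),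
      C a → toMat 5 a = m.1 → ph a = i ⟨m, hm⟩ := by
  classical
  have hmem : ∀ a (h : C a), toS a h ∈ Subgroup.centralizer ({zz} : Set SL) := by
    intro a h
    rw [Subgroup.mem_centralizer_singleton_iff]
    apply Subtype.ext
    have h2 : Lib.F2Mat.mul 5 a zc = Lib.F2Mat.mul 5 zc a := h.2.1
    have h3 : toMat 5 a * Matrix.transvection 0 4 1 = Matrix.transvection 0 4 1 * toMat 5 a := by
      rw [← toMat_zc, ← toMat_mul, ← toMat_mul, h2]
    first
      | exact h3
      | exact h3.symm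
  refine ⟨fun a => if h : C a then i ⟨toS a h, hmem a h⟩ else 1, ⟨?_, ?_, ?_, ?_, ?_⟩, ?_⟩
  · intro a b ha hb
    simp only [ha, hb, ha.mul hb, dif_pos]
    rw [← map_mul]
    congr 1
    apply Subtype.ext
    apply Subtype.ext
    exact toMat_mul 5 a b
  · intro a b ha hb h
    simp only [ha, hb, dif_pos] at h
    have h1 := hi h
    have h2 : toMat 5 a = toMat 5 b := congrArg (fun x => x.1.1) h1
    exact toMat_inj (n := 5) ha.1 hb.1 h2
  · have hc : C zc := C_of_isC (b := zc) (by decide +kernel)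
    simp only [hc, dif_pos]
    have h1 : toS zc hc = zz := Subtype.ext toMat_zc
    have h2 : zz ∈ Subgroup.centralizer ({zz} : Set SL) := by
      rw [Subgroup.mem_centralizer_singleton_iff]
    have h3 : (⟨toS zc hc, hmem zc hc⟩ : Subgroup.centralizer ({zz} : Set SL)) = ⟨zz, h2⟩ :=
      Subtype.ext h1
    rw [h3, hz h2]
  · intro a ha
    simp only [ha, dif_pos]
    have h1 : i ⟨toS a ha, hmem a ha⟩ ∈ Subgroup.centralizer ({z} : Set G) := by
      rw [← hr]; exact ⟨_, rfl⟩
    rw [Subgroup.mem_centralizer_singleton_iff] at h1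
    first
      | exact h1
      | exact h1.symm
  · intro g hg
    have h1 : g ∈ Subgroup.centralizer ({z} : Set G) := by
      rw [Subgroup.mem_centralizer_singleton_iff]
      first
        | exact hg
        | exact hg.symm
    rw [← hr] at h1
    obtain ⟨⟨m, hm⟩, rfl⟩ := h1
    have hm' := hm
    rw [Subgroup.mem_centralizer_singleton_iff] at hm'
    obtain ⟨a, ha, h2⟩ := exists_code m (by first | exact hm' | exact hm'.symm)
    refine ⟨a, ha, ?_⟩
    simp only [ha, dif_pos]
    congr 1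
    exact Subtype.ext h2
  · intro m hm a ha h2
    simp only [ha, dif_pos]
    congr 1
    apply Subtype.ext
    apply Subtype.ext
    exact h2

end Cfsg.Agent.Held.Code
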