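import Cfsg.Agent.HeldHe.AChk3_mg_m3
import Mathlib
import Cfsg.Agent.SporadicRecognition.HeldHyp
import Cfsg.Agent.Held.Code
import Cfsg.Agent.Held.Config
import Cfsg.Prelude.Def_Involutions
import Cfsg.Agent.Held.MaxStab
import Cfsg.Agent.TwoFusion.StronglyEmbeddedBasic
import Cfsg.Agent.S1225
import Cfsg.Agent.Held.PresCard
import Cfsg.Agent.SporadicRecognition.CosetCert
import Cfsg.Agent.Held.LetterVals
import Cfsg.Agent.SporadicA.M24Trans
import Cfsg.Agent.SporadicA.GolayWalk
import Cfsg.Agent.S0365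
import Cfsg.Agent.SporadicRecognition.HypFast
import Cfsg.Agent.SporadicRecognition.CertFast
import Cfsg.Agent.Held.GenC
import Cfsg.Agent.LieClassical.SLGen
import Cfsg.Agent.S0242
import Cfsg.Agent.S0249
import Cfsg.Agent.FastGrp
import Cfsg.Agent.Prune
set_option linter.all false

section
prune_inst 0x7ffcbcfbaff8addfffff7e7fffffdffdfbfdffffffdff9fbffe9ebff9fdf4b6bebc5fb8fffec18ffcef6e2b430f87b53f9fffeffea6bdc7ffffd5ff45ffbff9fffffbd8c51feb8b41ffc6ffffbf07fce7f3fffffffffffffffffffffffffffffffffffffffff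

-- part: Held/Ac_mg
section
prune_inst 0x2010040061220000000000000000000000000000002000000000000200090100000200003e0000000000000000000020001000004000000000000000000400000000000000400000000000000002000000000000000000000000000000000000000000000
set_option linter.all false
open scoped Cfsg.Agent.FastGrp

/-- unrolled product of codes of `5 × 5` matrices -/
private def mu5 (A B : ℕ) : ℕ :=
  Cfsg.Agent.Lib.F2Mat.force A fun A => Cfsg.Agent.Lib.F2Mat.force B fun B =>
  Nat.xor (Nat.xor (Nat.xor (Nat.xor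
    (Nat.mul (Nat.land A (nat_lit 1082401)) (Nat.mod B (nat_lit 32)))
    (Nat.mul (Nat.land (Nat.shiftRight A (nat_lit 1)) (nat_lit 1082401))
      (Nat.mod (Nat.shiftRight B (nat_lit 5)) (nat_lit 32))))
    (Nat.mul (Nat.land (Nat.shiftRight A (nat_lit 2)) (nat_lit 1082401))
      (Nat.mod (Nat.shiftRight B (nat_lit 10)) (nat_lit 32))))
    (Nat.mul (Nat.land (Nat.shiftRight A (nat_lit 3)) (nat_lit 1082401))
      (Nat.mod (Nat.shiftRight B (nat_lit 15)) (nat_lit 32))))
    (Nat.mul (Nat.land (Nat.shiftRight A (nat_lit 4)) (nat_lit 1082401))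
      (Nat.mod (Nat.shiftRight B (nat_lit 20)) (nat_lit 32)))

private theorem mul5_eq : Cfsg.Agent.Lib.F2Mat.mul 5 = mu5 := by
  funext A B
  have hm : Cfsg.Agent.Lib.F2Mat.msk 5 = 1082401 := by decide +kernel
  rw [Cfsg.Agent.Lib.F2Mat.mul_eq, hm]
  delta mu5
  rw [Cfsg.Agent.Lib.F2Mat.force_eq, Cfsg.Agent.Lib.F2Mat.force_eq]
  have h0 : ∀ t : ℕ, Nat.xor 0 t = t := fun t => Nat.zero_xor t
  show Nat.xor (Nat.xor (Nat.xor (Nat.xor (Nat.xor 0 _) _) _) _) _ = _
  rw [h0]
  rfl

private theorem mu_eq5 : Cfsg.Agent.Held.Code.mu = mu5 := mul5_eq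

-- part: Held/Ac
section
/-!
# Calculus of conjugation on codes; the normaliser of `V2`
-/

set_option autoImplicit false

namespace Cfsg.Agent.Held.Code

open Cfsg.Agent.Lib.F2Mat

variable {G : Type*} [Group G] {z : G} {ph : ℕ → G}

/-- `Ac ph y a b` : `y⁻¹ * ph a * y = ph b`. -/
structure Ac (ph : ℕ → G) (y : G) (a b : ℕ) : Prop where
  l : C a
  r : C b
  e : ph a * y = y * ph b

/-! ### elements of `C` in `G` -/

theorem Emb.one (E : Emb z ph) : ph e1 = 1 := by
  have h : ph (mu e1 e1) = ph e1 * ph e1 := E.mul C_e1 C_e1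
  rw [mu_e1 (by decide)] at h
  exact (mul_eq_left.mp h.symm)

theorem Emb.eq_iff (E : Emb z ph) {a b : ℕ} (ha : C a) (hb : C b) : ph a = ph b ↔ a = b :=
  ⟨E.inj ha hb, fun h => by rw [h]⟩

theorem Emb.inv_eq (E : Emb z ph) {a b : ℕ} (ha : C a) (hb : C b) (h : mu a b = e1) :
    (ph a)⁻¹ = ph b := by
  apply inv_eq_of_mul_eq_one_right
  rw [← E.mul ha hb, h, E.one]

theorem Emb.eq_one (E : Emb z ph) {a : ℕ} (ha : C a) (h : ph a = 1) : a = e1 :=
  E.inj ha C_e1 (by rw [h, E.one])

theorem Emb.comm_iff (E : Emb z ph) {a b : ℕ} (ha : C a) (hb : C b) :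
    ph a * ph b = ph b * ph a ↔ mu a b = mu b a := by
  rw [← E.mul ha hb, ← E.mul hb ha, E.eq_iff (ha.mul hb) (hb.mul ha)]

/-! ### `Ac` -/

theorem Ac.one (E : Emb z ph) (y : G) : Ac ph y e1 e1 := ⟨C_e1, C_e1, by rw [E.one]; simp⟩

theorem Ac.mul (E : Emb z ph) {y : G} {a b a' b' : ℕ} (h : Ac ph y a b) (h' : Ac ph y a' b') :
    Ac ph y (mu a a') (mu b b') :=
  ⟨h.l.mul h'.l, h.r.mul h'.r, by
    rw [E.mul h.l h'.l, E.mul h.r h'.r, mul_assoc, h'.e, ← mul_assoc, h.e, mul_assoc]⟩

theorem Ac.comp {x y : G} {a b c : ℕ} (h : Ac ph x a b) (h' : Ac ph y b c) :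
    Ac ph (x * y) a c :=
  ⟨h.l, h'.r, by rw [← mul_assoc, h.e, mul_assoc, h'.e, mul_assoc]⟩

theorem Ac.inv {y : G} {a b : ℕ} (h : Ac ph y a b) : Ac ph y⁻¹ b a :=
  ⟨h.r, h.l, by
    have := h.e
    rw [eq_inv_mul_iff_mul_eq, ← mul_assoc, ← this, mul_assoc, mul_inv_cancel, mul_one]⟩

theorem Ac.uniq (E : Emb z ph) {y : G} {a b b' : ℕ} (h : Ac ph y a b) (h' : Ac ph y a b') :
    b = b' :=
  E.inj h.r h'.r (mul_left_cancel (h.e.symm.trans h'.e))

theorem Ac.inj (E : Emb z ph) {y : G} {a a' b : ℕ} (h : Ac ph y a b) (h' : Ac ph y a' b) :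
    a = a' :=
  E.inj h.l h'.l (mul_right_cancel (h.e.trans h'.e.symm))

theorem Ac.of_ph (E : Emb z ph) {a b c : ℕ} (ha : C a) (hb : C b) (hc : C c)
    (h : mu a c = mu c b) : Ac ph (ph c) a b :=
  ⟨ha, hb, by rw [← E.mul ha hc, ← E.mul hc hb, h]⟩

theorem Ac.one_right {a : ℕ} (ha : C a) : Ac ph (1 : G) a a := ⟨ha, ha, by simp⟩

theorem Ac.congr {y : G} {a b a' b' : ℕ} (h : Ac ph y a b) (ha : a = a') (hb : b = b') :
    Ac ph y a' b' := by subst ha; subst hb; exact h

theorem Ac.congr_right {x y : G} {a b : ℕ} (h : Ac ph x a b) (e : x = y) : Ac ph y a b := by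
  subst e; exact h


theorem C_zc : C zc := C_of_isC (b := zc) (by decide +kernel)

/-- an element fixing the code of `z` is coded -/
theorem Emb.of_fix (E : Emb z ph) {y : G} (h : Ac ph y zc zc) : ∃ c, C c ∧ ph c = y := by
  apply E.surj
  have := h.e
  rw [E.z_eq] at this
  exact this.symm

/-! ### Booleans -/

/-- bounded existential quantifier -/
def anyb (N : ℕ) (P : ℕ → Bool) : Bool :=
  Nat.rec false (fun n ih => cond (P n) true ih) N

theorem of_anyb {N : ℕ} {P : ℕ → Bool} (h : anyb N P = true) : ∃ n < N, P n = true := by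
  induction N with
  | zero => exact absurd h Bool.false_ne_true
  | succ N ih =>
    have h' : cond (P N) true (anyb N P) = true := h
    rcases hp : P N with _ | _
    · rw [hp] at h'
      obtain ⟨n, hn, hn'⟩ := ih h'
      exact ⟨n, Nat.lt_succ_of_lt hn, hn'⟩
    · exact ⟨N, Nat.lt_succ_self N, hp⟩

theorem beq_true {a b : ℕ} (h : Nat.beq a b = true) : a = b := Nat.eq_of_beq_eq_true h

theorem beq_of_eq {a b : ℕ} (h : a = b) : Nat.beq a b = true := by subst h; exact Nat.beq_refl a

/-! ### `V2` -/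

/-- the elements of `V2`: bits `0,1` of `n` are the entries `(0,3),(0,4)`, bits `2,3` the entries
`(1,3),(1,4)`, bits `4,5` the entries `(2,3),(2,4)`. -/
def vv (n : ℕ) : ℕ :=
  Nat.add (Nat.add (Nat.add 17043521 (Nat.mul (Nat.mod n 4) 8))
    (Nat.mul (Nat.mod (Nat.div n 4) 4) 256)) (Nat.mul (Nat.div n 16) 8192)

theorem vv_ck : allb 64 (fun n => isC (vv n) (vv n)) = true := by decide +kernel

theorem vv_C {n : ℕ} (hn : n < 64) : C (vv n) := C_of_isC (of_allb vv_ck n hn)

private noncomputable def _root_.Cfsg.Agent.KO258775d.k0 : (by first | exact type_of% @Cfsg.Agent.Held.Code.allb | exact Unit : Sort _) := by first | (refine @Subtype.val _ (fun g => @Cfsg.Agent.Held.Code.allb = @g) (@Subtype.mk _ _ (@(fun x0 x1 => @Nat.rec.{1} @(fun x2 => @Bool) @Bool.true @(fun x2 x3 => @Bool.rec.{1} @(fun x4 => @Bool) @Bool.false @x3 (@x1 @x2)) @x0)) ?_); rfl') | exact @Cfsg.Agent.Held.Code.allb | exact ()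
private theorem _root_.Cfsg.Agent.KO258775d.e0 : (by first | exact @Cfsg.Agent.Held.Code.allb = @_root_.Cfsg.Agent.KO258775d.k0 | exact True : Prop) := by first | (delta _root_.Cfsg.Agent.KO258775d.k0; exact @Subtype.property _ (fun g => @Cfsg.Agent.Held.Code.allb = @g) _) | rfl | trivial
private noncomputable def _root_.Cfsg.Agent.KO258775d.k1.{ku0} : (by first | exact type_of% @Cfsg.Agent.Lib.F2Mat.force.{ku0} | exact Unit : Sort _) := by first | (refine @Subtype.val _ (fun g => @Cfsg.Agent.Lib.F2Mat.force.{ku0} = @g) (@Subtype.mk _ _ (@(fun x0 x1 x2 => @Nat.rec.{ku0} @(fun x3 => @x0) (@x2 (nat_lit 0)) @(fun x3 x4 => @x2 (@Nat.succ @x3)) @x1)) ?_); rfl') | exact @Cfsg.Agent.Lib.F2Mat.force.{ku0} | exact ()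
private theorem _root_.Cfsg.Agent.KO258775d.e1.{ku0} : (by first | exact @Cfsg.Agent.Lib.F2Mat.force.{ku0} = @_root_.Cfsg.Agent.KO258775d.k1.{ku0} | exact True : Prop) := by first | (delta _root_.Cfsg.Agent.KO258775d.k1; exact @Subtype.property _ (fun g => @Cfsg.Agent.Lib.F2Mat.force.{ku0} = @g) _) | rfl | trivial
private noncomputable def _root_.Cfsg.Agent.KO258775d.k2 : type_of% @mu5 := @(fun x0 x1 => @Cfsg.Agent.KO258775d.k1.{1} _ @x0 @(fun x2 => @Cfsg.Agent.KO258775d.k1.{1} _ @x1 @(fun x3 => @Nat.xor (@Nat.xor (@Nat.xor (@Nat.xor (@Nat.mul (@Nat.land @x2 (nat_lit 1082401)) (@Nat.mod @x3 (nat_lit 32))) (@Nat.mul (@Nat.land (@Nat.shiftRight @x2 (nat_lit 1)) (nat_lit 1082401)) (@Nat.mod (@Nat.shiftRight @x3 (nat_lit 5)) (nat_lit 32)))) (@Nat.mul (@Nat.land (@Nat.shiftRight @x2 (nat_lit 2)) (nat_lit 1082401)) (@Nat.mod (@Nat.shiftRight @x3 (nat_lit 10)) (nat_lit 32)))) (@Nat.mul (@Nat.land (@Nat.shiftRight @x2 (nat_lit 3)) (nat_lit 1082401)) (@Nat.mod (@Nat.shiftRight @x3 (nat_lit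 15)) (nat_lit 32)))) (@Nat.mul (@Nat.land (@Nat.shiftRight @x2 (nat_lit 4)) (nat_lit 1082401)) (@Nat.mod (@Nat.shiftRight @x3 (nat_lit 20)) (nat_lit 32))))))
private theorem _root_.Cfsg.Agent.KO258775d.e2 : @mu5 = @_root_.Cfsg.Agent.KO258775d.k2 := by delta _root_.Cfsg.Agent.KO258775d.k2; rewrite [← Cfsg.Agent.KO258775d.e1.{1}]; (try delta mu5); (try generalize @Cfsg.Agent.Lib.F2Mat.force.{1} = g0); rfl'
private noncomputable def _root_.Cfsg.Agent.KO258775d.k3 : (by first | exact type_of% @Cfsg.Agent.Held.Code.vv | exact Unit : Sort _) := by first | (refine @Subtype.val _ (fun g => @Cfsg.Agent.Held.Code.vv = @g) (@Subtype.mk _ _ (@(fun x0 => @Nat.add (@Nat.add (@Nat.add (nat_lit 17043521) (@Nat.mul (@Nat.mod @x0 (nat_lit 4)) (nat_lit 8))) (@Nat.mul (@Nat.mod (@Nat.div @x0 (nat_lit 4)) (nat_lit 4)) (nat_lit 256))) (@Nat.mul (@Nat.div @x0 (nat_lit 16)) (nat_lit 8192)))) ?_); rfl') | exact @Cfsg.Agent.Held.Code.vv | exact ()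
private theorem _root_.Cfsg.Agent.KO258775d.e3 : (by first | exact @Cfsg.Agent.Held.Code.vv = @_root_.Cfsg.Agent.KO258775d.k3 | exact True : Prop) := by first | (delta _root_.Cfsg.Agent.KO258775d.k3; exact @Subtype.property _ (fun g => @Cfsg.Agent.Held.Code.vv = @g) _) | rfl | trivial

theorem vv_mul_ck : allb 64 (fun n => allb 64 (fun m =>
    Nat.beq (mu (vv n) (vv m)) (vv (Nat.xor n m)))) = true := by
  rewrite [mu_eq5]; (first | (rewrite [Cfsg.Agent.KO258775d.e0, Cfsg.Agent.KO258775d.e2, Cfsg.Agent.KO258775d.e3]; decide +kernel) | decide +kernel)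

theorem vv_mul {n m : ℕ} (hn : n < 64) (hm : m < 64) :
    mu (vv n) (vv m) = vv (Nat.xor n m) := beq_true (of_allb (of_allb vv_mul_ck n hn) m hm)

theorem xor_lt {n m : ℕ} (hn : n < 64) (hm : m < 64) : Nat.xor n m < 64 :=
  Nat.xor_lt_two_pow (n := 6) hn hm

theorem vv_sq {n : ℕ} (hn : n < 64) : mu (vv n) (vv n) = e1 := by
  rw [vv_mul hn hn]
  have : Nat.xor n n = 0 := Nat.xor_self n
  rw [this]; rfl

/-- the subgroup `V2` of `G` -/
def V2s (E : Emb z ph) : Subgroup G where
  carrier := {g | ∃ n < 64, g = ph (vv n)}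
  mul_mem' := by
    rintro _ _ ⟨n, hn, rfl⟩ ⟨m, hm, rfl⟩
    exact ⟨Nat.xor n m, xor_lt hn hm, by rw [← vv_mul hn hm, E.mul (vv_C hn) (vv_C hm)]⟩
  one_mem' := ⟨0, by norm_num, by rw [← E.one]; rfl⟩
  inv_mem' := by
    rintro _ ⟨n, hn, rfl⟩
    exact ⟨n, hn, E.inv_eq (vv_C hn) (vv_C hn) (vv_sq hn)⟩

theorem mem_V2s (E : Emb z ph) {g : G} : g ∈ V2s E ↔ ∃ n < 64, g = ph (vv n) := Iff.rfl

/-- the normaliser of `V2` -/
def NV (E : Emb z ph) : Subgroup G := Subgroup.normalizer (V2s E : Set G)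

theorem NV.act {E : Emb z ph} {g : G} (hg : g ∈ NV E) {n : ℕ} (hn : n < 64) :
    ∃ m < 64, Ac ph g (vv n) (vv m) := by
  have h1 : g⁻¹ ∈ NV E := (NV E).inv_mem hg
  have h2 := (Subgroup.mem_normalizer_iff.mp h1 (ph (vv n))).mp ⟨n, hn, rfl⟩
  obtain ⟨m, hm, h3⟩ := h2
  refine ⟨m, hm, vv_C hn, vv_C hm, ?_⟩
  rw [← h3]; group

private noncomputable def _root_.Cfsg.Agent.KO258775d.k4 : (by first | exact type_of% @Cfsg.Agent.Held.Code.imp | exact Unit : Sort _) := by first | (refine @Subtype.val _ (fun g => @Cfsg.Agent.Held.Code.imp = @g) (@Subtype.mk _ _ (@(fun x0 x1 => @Bool.rec.{1} @(fun x2 => @Bool) @Bool.true @x1 @x0)) ?_); rfl') | exact @Cfsg.Agent.Held.Code.imp | exact ()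
private theorem _root_.Cfsg.Agent.KO258775d.e4 : (by first | exact @Cfsg.Agent.Held.Code.imp = @_root_.Cfsg.Agent.KO258775d.k4 | exact True : Prop) := by first | (delta _root_.Cfsg.Agent.KO258775d.k4; exact @Subtype.property _ (fun g => @Cfsg.Agent.Held.Code.imp = @g) _) | rfl | trivial

theorem NV.of_act {E : Emb z ph} {g : G} (h : ∀ n < 64, ∃ m < 64, Ac ph g (vv n) (vv m)) :
    g ∈ NV E := by
  classical
  choose f hf1 hf2 using h
  let F : Fin 64 → Fin 64 := fun i => ⟨f i i.2, hf1 i i.2⟩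
  have hF : Function.Injective F := by
    intro i j hij
    have h1 : f i i.2 = f j j.2 := congrArg Fin.val hij
    have h2 := hf2 i i.2
    have h3 := hf2 j j.2
    rw [h1] at h2
    have h4 := Ac.inj E h2 h3
    have h5 : ∀ n < 64, ∀ m < 64, vv n = vv m → n = m := by
      intro n hn m hm e
      have hck : allb 64 (fun n => allb 64 (fun m => imp (Nat.beq (vv n) (vv m)) (Nat.beq n m)))
        = true := by (first | (rewrite [Cfsg.Agent.KO258775d.e0, Cfsg.Agent.KO258775d.e4, Cfsg.Agent.KO258775d.e3]; decide +kernel) | decide +kernel)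
      exact beq_true (imp_mp (of_allb (of_allb hck n hn) m hm) (beq_of_eq e))
    exact Fin.ext (h5 i i.2 j j.2 h4)
  have hS : Function.Surjective F := Finite.surjective_of_injective hF
  have key1 : ∀ x, x ∈ V2s E → g⁻¹ * x * g ∈ V2s E := by
    rintro _ ⟨n, hn, rfl⟩
    refine ⟨f n hn, hf1 n hn, ?_⟩
    rw [mul_assoc, (hf2 n hn).e]; group
  have key2 : ∀ x, x ∈ V2s E → g * x * g⁻¹ ∈ V2s E := by
    rintro _ ⟨m, hm, rfl⟩
    obtain ⟨i, hi⟩ := hS ⟨m, hm⟩
    have h1 : f i i.2 = m := congrArg Fin.val hi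
    refine ⟨i, i.2, ?_⟩
    have := (hf2 i i.2).e
    rw [h1] at this
    rw [← this]; group
  apply Subgroup.mem_normalizer_iff.mpr
  intro x
  constructor
  · exact key2 x
  · intro hx
    have := key1 _ hx
    have e : g⁻¹ * (g * x * g⁻¹) * g = x := by group
    rwa [e] at this

/-- Boolean test: the code `c` (with inverse `d`) normalises `V2` -/
def normV (c d : ℕ) : Bool :=
  allb 64 fun n => anyb 64 fun m => Nat.beq (mu d (mu (vv n) c)) (vv m)

theorem NV.of_normV {E : Emb z ph} {c d : ℕ} (hc : C c) (hcd : mu c d = e1)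
    (h : normV c d = true) : ph c ∈ NV E := by
  apply NV.of_act
  intro n hn
  obtain ⟨m, hm, h1⟩ := of_anyb (of_allb h n hn)
  refine ⟨m, hm, Ac.of_ph E (vv_C hn) (vv_C hm) hc ?_⟩
  have h2 := beq_true h1
  rw [← h2, ← mu_assoc c, hcd, e1_mu (mu_lt _ _)]

end Cfsg.Agent.Held.Code
end

-- part: Held/NoB
section
/-!
# The central involution is not fused to `x14 x25`

Abstract criterion used for groups whose involution centralizer is the centralizer of a
transvection of `SL(5, 2)`.
-/

set_option autoImplicit false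

namespace Cfsg.Agent.Held.NoB

open Subgroup
open scoped commutatorElement

variable {G : Type*} [Group G]

/-- If `P = C(z) ∩ C(b)` has order `2 ^ n`, `2 ^ (n + 1)` divides `|C(z)|` and every element
normalizing `P` centralizes `z`, then `z` and `b` are not conjugate. -/
theorem not_isConj_of_normalizer [Finite G] {z b : G} (P : Subgroup G)
    (hP : P = centralizer {z} ⊓ centralizer {b}) (n : ℕ) (hPc : Nat.card P = 2 ^ n)
    (hdvd : 2 ^ (n + 1) ∣ Nat.card (centralizer ({z} : Set G)))
    (hN : ∀ m : G, (∀ p ∈ P, m * p * m⁻¹ ∈ P) → m * z * m⁻¹ = z) : ¬ IsConj z b := by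
  intro hc
  obtain ⟨g, hg⟩ := isConj_iff.1 hc
  have : Fact (Nat.Prime 2) := ⟨Nat.prime_two⟩
  -- `C(b)` has the same order as `C(z)`
  have hcard : Nat.card (centralizer ({z} : Set G)) = Nat.card (centralizer ({b} : Set G)) := by
    refine Nat.card_congr ⟨fun x => ⟨g * x * g⁻¹, ?_⟩, fun x => ⟨g⁻¹ * x * g, ?_⟩, ?_, ?_⟩
    · rw [mem_centralizer_singleton_iff, ← hg]
      have h := mem_centralizer_singleton_iff.1 x.2
      calc g * x * g⁻¹ * (g * z * g⁻¹) = g * (x * z) * g⁻¹ := by group
        _ = g * (z * x) * g⁻¹ := by rw [h]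
        _ = g * z * g⁻¹ * (g * x * g⁻¹) := by group
    · rw [mem_centralizer_singleton_iff]
      have h := mem_centralizer_singleton_iff.1 x.2
      calc g⁻¹ * x * g * z = g⁻¹ * (x * (g * z * g⁻¹)) * g := by group
        _ = g⁻¹ * (x * b) * g := by rw [hg]
        _ = g⁻¹ * (b * x) * g := by rw [h]
        _ = g⁻¹ * (g * z * g⁻¹ * x) * g := by rw [hg]
        _ = z * (g⁻¹ * x * g) := by group
    · intro x; apply Subtype.ext; show g⁻¹ * (g * x * g⁻¹) * g = x; group
    · intro x; apply Subtype.ext; show g * (g⁻¹ * x * g) * g⁻¹ = x; group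
  have hle : P ≤ centralizer ({b} : Set G) := hP ▸ inf_le_right
  have hPc' : Nat.card (P.subgroupOf (centralizer ({b} : Set G))) = 2 ^ n := by
    rw [Nat.card_congr (Subgroup.subgroupOfEquivOfLe hle).toEquiv, hPc]
  rw [hcard] at hdvd
  obtain ⟨K, hK, hPK⟩ := Sylow.exists_subgroup_card_pow_succ hdvd hPc'
  -- index two
  have hidx : ((P.subgroupOf (centralizer ({b} : Set G))).subgroupOf K).index = 2 := by
    have h1 := Subgroup.card_mul_index ((P.subgroupOf (centralizer ({b} : Set G))).subgroupOf K)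
    rw [Nat.card_congr (Subgroup.subgroupOfEquivOfLe hPK).toEquiv, hPc', hK, pow_succ] at h1
    exact Nat.eq_of_mul_eq_mul_left (by positivity) h1
  have hnorm := Subgroup.normal_of_index_eq_two hidx
  -- an element of `K` outside `P`
  have hne : ¬ K ≤ P.subgroupOf (centralizer ({b} : Set G)) := by
    intro h
    have h1 := Subgroup.card_le_of_le h
    rw [hK, hPc', pow_succ] at h1
    have : 0 < 2 ^ n := by positivity
    omega
  obtain ⟨m, hmK, hmP⟩ := SetLike.not_le_iff_exists.1 hne
  apply hmP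
  rw [mem_subgroupOf, hP, Subgroup.mem_inf]
  refine ⟨?_, m.2⟩
  rw [mem_centralizer_singleton_iff]
  have h2 : (m : G) * z * (m : G)⁻¹ = z := by
    apply hN
    intro p hp
    have hpb : p ∈ centralizer ({b} : Set G) := hle hp
    have h3 := hnorm.conj_mem ⟨⟨p, hpb⟩, hPK (by rw [mem_subgroupOf]; exact hp)⟩
      (by rw [mem_subgroupOf, mem_subgroupOf]; exact hp) ⟨m, hmK⟩
    rw [mem_subgroupOf, mem_subgroupOf] at h3
    exact h3
  exact mul_inv_eq_iff_eq_mul.1 h2

/-- The commutator characterization of `z`: if `A, B ≤ P` are permuted by the elements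
normalizing `P` and `z` is the only nontrivial double commutator `[[u,p],[v,q]]`, then the
elements normalizing `P` centralize `z`. -/
theorem normalizer_fix {z : G} (P A B : Subgroup G) (hz : z⁻¹ = z) (hz1 : z ≠ 1)
    (hAB : ∀ m : G, (∀ p ∈ P, m * p * m⁻¹ ∈ P) →
      ((∀ a ∈ A, m * a * m⁻¹ ∈ A) ∧ (∀ b ∈ B, m * b * m⁻¹ ∈ B)) ∨
      ((∀ a ∈ A, m * a * m⁻¹ ∈ B) ∧ (∀ b ∈ B, m * b * m⁻¹ ∈ A)))
    (h1 : ∀ u ∈ A, ∀ v ∈ B, ∀ p ∈ P, ∀ q ∈ P, ⁅⁅u, p⁆, ⁅v, q⁆⁆ = 1 ∨ ⁅⁅u, p⁆, ⁅v, q⁆⁆ = z)
    (h2 : ∃ u ∈ A, ∃ v ∈ B, ∃ p ∈ P, ∃ q ∈ P, ⁅⁅u, p⁆, ⁅v, q⁆⁆ = z) :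
    ∀ m : G, (∀ p ∈ P, m * p * m⁻¹ ∈ P) → m * z * m⁻¹ = z := by
  intro m hm
  obtain ⟨u, hu, v, hv, p, hp, q, hq, he⟩ := h2
  have key : m * z * m⁻¹ =
      ⁅⁅m * u * m⁻¹, m * p * m⁻¹⁆, ⁅m * v * m⁻¹, m * q * m⁻¹⁆⁆ := by
    rw [← he]
    simp only [commutatorElement_def]
    group
  have hne : m * z * m⁻¹ ≠ 1 := by
    intro h
    apply hz1
    have : z = m⁻¹ * (m * z * m⁻¹) * m := by group
    rw [this, h]; group
  rcases hAB m hm with ⟨ha, hb⟩ | ⟨ha, hb⟩
  · rcases h1 _ (ha u hu) _ (hb v hv) _ (hm p hp) _ (hm q hq) with h | h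
    · exact absurd (key.trans h) hne
    · exact key.trans h
  · have key2 : (m * z * m⁻¹)⁻¹ =
        ⁅⁅m * v * m⁻¹, m * q * m⁻¹⁆, ⁅m * u * m⁻¹, m * p * m⁻¹⁆⁆ := by
      rw [key, commutatorElement_inv]
    rcases h1 _ (hb v hv) _ (ha u hu) _ (hm q hq) _ (hm p hp) with h | h
    · rw [h] at key2
      exact absurd (inv_eq_one.1 key2) hne
    · rw [h] at key2
      rw [← inv_inv (m * z * m⁻¹), key2, hz]

end Cfsg.Agent.Held.NoB
end

-- part: Held/NoBModel
section
/-!
# `z` is not fused to `x 0 3 * x 1 4`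
-/

set_option autoImplicit false

namespace Cfsg.Agent.Held.NoBModel

open Matrix Cfsg.Agent.SporadicRecognition.HeldModel Cfsg.Agent.Lib.F2Mat Cfsg.Agent.Held.NoB
open scoped commutatorElement

/-- The representative of the class of 42 involutions of `O_2(CC)`. -/
def bb : L5 := x 0 3 * x 1 4

theorem bb_mem_T0 : bb ∈ T0 := by
  rw [T0, mem_pat, Pat_iff_inP, bb, cd_mul, cd_x, cd_x]
  decide +kernel

/-- `bb` as an element of the model -/
def bC : CC := ⟨bb, T0_le_CC bb_mem_T0⟩

theorem coe_mul' (g h : L5) : ((g * h : L5) : Matrix (Fin 5) (Fin 5) (ZMod 2)) =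
    (g : Matrix (Fin 5) (Fin 5) (ZMod 2)) * (h : Matrix (Fin 5) (Fin 5) (ZMod 2)) := rfl

/-- `bb - 1` -/
def EB : Matrix (Fin 5) (Fin 5) (ZMod 2) := Matrix.single 0 3 1 + Matrix.single 1 4 1

theorem coe_bb : (bb : Matrix (Fin 5) (Fin 5) (ZMod 2)) = 1 + EB := by
  rw [bb, coe_mul', coe_x, coe_x, transvection, transvection, EB]
  rw [add_mul, one_mul, mul_add, mul_one, Matrix.single_mul_single_of_ne _ _ _ _ (by decide)]
  rw [add_zero]
  abel

/-- Elements of `CC` commuting with `bb` are unitriangular. -/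
theorem mem_T0_of_comm {g : L5} (hg : g ∈ CC) (h : g * bb = bb * g) : g ∈ T0 := by
  rw [mem_CC_iff_pat] at hg
  have h1 : (g : Matrix (Fin 5) (Fin 5) (ZMod 2)) * EB =
      EB * (g : Matrix (Fin 5) (Fin 5) (ZMod 2)) := by
    have h2 := congrArg (fun u : L5 => (u : Matrix (Fin 5) (Fin 5) (ZMod 2))) h
    simp only [coe_mul', coe_bb] at h2
    rw [mul_add, add_mul, mul_one, one_mul] at h2
    exact add_left_cancel h2
  have hl : ∀ i j, ((g : Matrix (Fin 5) (Fin 5) (ZMod 2)) * EB) i j =
      (if j = 3 then (g : Matrix (Fin 5) (Fin 5) (ZMod 2)) i 0 else 0) +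
      (if j = 4 then (g : Matrix (Fin 5) (Fin 5) (ZMod 2)) i 1 else 0) := by
    intro i j
    rw [EB, mul_add, Matrix.add_apply]
    congr 1
    · by_cases hj : j = 3
      · rw [if_pos hj, hj]; simp
      · rw [if_neg hj, Matrix.mul_single_apply_of_ne]; exact hj
    · by_cases hj : j = 4
      · rw [if_pos hj, hj]; simp
      · rw [if_neg hj, Matrix.mul_single_apply_of_ne]; exact hj
  have hr : ∀ i j, (EB * (g : Matrix (Fin 5) (Fin 5) (ZMod 2))) i j =
      (if i = 0 then (g : Matrix (Fin 5) (Fin 5) (ZMod 2)) 3 j else 0) +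
      (if i = 1 then (g : Matrix (Fin 5) (Fin 5) (ZMod 2)) 4 j else 0) := by
    intro i j
    rw [EB, add_mul, Matrix.add_apply]
    congr 1
    · by_cases hi : i = 0
      · rw [if_pos hi, hi]; simp
      · rw [if_neg hi, Matrix.single_mul_apply_of_ne]; exact hi
    · by_cases hi : i = 1
      · rw [if_pos hi, hi]; simp
      · rw [if_neg hi, Matrix.single_mul_apply_of_ne]; exact hi
  have hc : ∀ i j, (if j = 3 then (g : Matrix (Fin 5) (Fin 5) (ZMod 2)) i 0 else 0) +
      (if j = 4 then (g : Matrix (Fin 5) (Fin 5) (ZMod 2)) i 1 else 0) =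
      (if i = 0 then (g : Matrix (Fin 5) (Fin 5) (ZMod 2)) 3 j else 0) +
      (if i = 1 then (g : Matrix (Fin 5) (Fin 5) (ZMod 2)) 4 j else 0) := by
    intro i j
    rw [← hl, ← hr, h1]
  have hz : ∀ i j, PC i j = false → (g : Matrix (Fin 5) (Fin 5) (ZMod 2)) i j =
      (1 : Matrix (Fin 5) (Fin 5) (ZMod 2)) i j := by
    intro i j hij
    have := hg i j hij
    rwa [Matrix.sub_apply, sub_eq_zero] at this
  have c00 := hz 0 0 (by decide)
  have c10 := hz 1 0 (by decide)
  have c20 := hz 2 0 (by decide)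
  have c30 := hz 3 0 (by decide)
  have c40 := hz 4 0 (by decide)
  have c41 := hz 4 1 (by decide)
  have c42 := hz 4 2 (by decide)
  have c43 := hz 4 3 (by decide)
  have c44 := hz 4 4 (by decide)
  have e03 := hc 0 3
  have e01 := hc 0 1
  have e02 := hc 0 2
  have e14 := hc 1 4
  have e24 := hc 2 4
  have e34 := hc 3 4
  simp only [if_true, show ¬ ((3 : Fin 5) = 4) by decide,
    show ¬ ((0 : Fin 5) = 1) by decide, show ¬ ((1 : Fin 5) = 3) by decide,
    show ¬ ((1 : Fin 5) = 4) by decide, show ¬ ((2 : Fin 5) = 3) by decide,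
    show ¬ ((2 : Fin 5) = 4) by decide, show ¬ ((4 : Fin 5) = 3) by decide,
    show ¬ ((1 : Fin 5) = 0) by decide, show ¬ ((2 : Fin 5) = 0) by decide,
    show ¬ ((2 : Fin 5) = 1) by decide, show ¬ ((3 : Fin 5) = 0) by decide,
    show ¬ ((3 : Fin 5) = 1) by decide, if_false, add_zero, zero_add] at e03 e01 e02 e14 e24 e34
  rw [c00] at e03
  rw [c44] at e14
  have hup : (g : Matrix (Fin 5) (Fin 5) (ZMod 2)).BlockTriangular id := by
    intro i j hij
    simp only [id] at hij
    have key : ∀ i j : Fin 5, j < i → (i, j) = (1, 0) ∨ (i, j) = (2, 0) ∨ (i, j) = (3, 0) ∨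
        (i, j) = (4, 0) ∨ (i, j) = (2, 1) ∨ (i, j) = (3, 1) ∨ (i, j) = (4, 1) ∨
        (i, j) = (3, 2) ∨ (i, j) = (4, 2) ∨ (i, j) = (4, 3) := by decide
    rcases key i j hij with h | h | h | h | h | h | h | h | h | h <;>
      simp only [Prod.mk.injEq] at h <;> obtain ⟨rfl, rfl⟩ := h
    · rw [c10]; rfl
    · rw [c20]; rfl
    · rw [c30]; rfl
    · rw [c40]; rfl
    · exact e24
    · exact e01.symm
    · rw [c41]; rfl
    · exact e02.symm
    · rw [c42]; rfl
    · rw [c43]; rfl
  have hdet : (g : Matrix (Fin 5) (Fin 5) (ZMod 2)).det = 1 := g.2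
  rw [Matrix.det_of_isUpperTriangular hup, Fin.prod_univ_five, c00, c44, e14, ← e03] at hdet
  have c22 : (g : Matrix (Fin 5) (Fin 5) (ZMod 2)) 2 2 = 1 := by
    simpa using hdet
  rw [T0, mem_pat]
  intro i j hij
  rw [Matrix.sub_apply, sub_eq_zero]
  have hij' : j ≤ i := by
    simpa [PT] using hij
  rcases lt_or_eq_of_le hij' with h | h
  · rw [hup h, Matrix.one_apply_ne (ne_of_gt h)]
  · subst h
    rw [Matrix.one_apply_eq]
    fin_cases j
    · exact c00
    · exact e14
    · exact c22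
    · exact e03.symm
    · exact c44

/-! ### Supports -/

abbrev M5 := Matrix (Fin 5) (Fin 5) (ZMod 2)

/-- the matrix `M` is supported on `P`. -/
def Sup (P : Fin 5 → Fin 5 → Bool) (M : M5) : Prop := ∀ i j, P i j = false → M i j = 0

theorem pat_iff_sup {P : Fin 5 → Fin 5 → Bool} {g : L5} : Pat P g ↔ Sup P ((g : M5) - 1) := Iff.rfl

theorem Sup.add {P : Fin 5 → Fin 5 → Bool} {M N : M5} (hM : Sup P M) (hN : Sup P N) :
    Sup P (M + N) := by
  intro i j h
  rw [Matrix.add_apply, hM i j h, hN i j h, add_zero]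

theorem Sup.mul {P P' R : Fin 5 → Fin 5 → Bool}
    (h : ∀ i k j, P i k = true → P' k j = true → R i j = true) {M N : M5}
    (hM : Sup P M) (hN : Sup P' N) : Sup R (M * N) := by
  intro i j hij
  rw [Matrix.mul_apply]
  apply Finset.sum_eq_zero
  intro k _
  cases h1 : P i k with
  | false => rw [hM i k h1, zero_mul]
  | true =>
    cases h2 : P' k j with
    | false => rw [hN k j h2, mul_zero]
    | true => rw [h i k j h1 h2] at hij; exact absurd hij (by decide)

theorem conj_pat {P P' : Fin 5 → Fin 5 → Bool} (hP' : Tr P')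
    (h1 : ∀ i k j, P' i k = true → P k j = true → P i j = true)
    (h2 : ∀ i k j, P i k = true → P' k j = true → P i j = true) {p u : L5}
    (hp : p ∈ pat P' hP') (hu : Pat P u) : Pat P (p * u * p⁻¹) := by
  have hp' : p⁻¹ ∈ pat P' hP' := (pat P' hP').inv_mem hp
  rw [mem_pat, pat_iff_sup] at hp hp'
  rw [pat_iff_sup] at hu ⊢
  have hpp : (p : M5) * ((p⁻¹ : L5) : M5) = 1 := by
    rw [← coe_mul', mul_inv_cancel]; rfl
  have e : ((p * u * p⁻¹ : L5) : M5) - 1 = ((u : M5) - 1) + ((p : M5) - 1) * ((u : M5) - 1) +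
      (((u : M5) - 1) * (((p⁻¹ : L5) : M5) - 1) +
        ((p : M5) - 1) * (((u : M5) - 1) * (((p⁻¹ : L5) : M5) - 1))) := by
    rw [coe_mul', coe_mul']
    have : (p : M5) * u * ((p⁻¹ : L5) : M5) - 1 =
        (p : M5) * ((u : M5) - 1) * ((p⁻¹ : L5) : M5) := by
      rw [mul_sub, mul_one, sub_mul, hpp]
    rw [this]
    noncomm_ring
  rw [e]
  exact (hu.add (Sup.mul h1 hp hu)).add
    ((Sup.mul h2 hu hp').add (Sup.mul h1 hp (Sup.mul h2 hu hp')))

theorem comm_of_pat {P P' : Fin 5 → Fin 5 → Bool}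
    (h1 : ∀ i k j, P i k = true → P' k j = true → False)
    (h2 : ∀ i k j, P' i k = true → P k j = true → False) {g h : L5}
    (hg : Pat P g) (hh : Pat P' h) : g * h = h * g := by
  rw [pat_iff_sup] at hg hh
  have e1 : ((g : M5) - 1) * ((h : M5) - 1) = 0 := by
    ext i j
    exact Sup.mul (R := fun _ _ => false) (fun i k j a b => (h1 i k j a b).elim) hg hh i j rfl
  have e2 : ((h : M5) - 1) * ((g : M5) - 1) = 0 := by
    ext i j
    exact Sup.mul (R := fun _ _ => false) (fun i k j a b => (h2 i k j a b).elim) hh hg i j rfl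
  apply Subtype.ext
  rw [coe_mul', coe_mul']
  have e3 : (g : M5) * (h : M5) = ((g : M5) - 1) * ((h : M5) - 1) + g + h - 1 := by noncomm_ring
  have e4 : (h : M5) * (g : M5) = ((h : M5) - 1) * ((g : M5) - 1) + g + h - 1 := by noncomm_ring
  rw [e3, e4, e1, e2]

theorem T0_ent {g : L5} (hg : g ∈ T0) {i j : Fin 5} (h : j ≤ i) :
    (g : M5) i j = (1 : M5) i j := by
  have := hg i j (by simpa [PT] using h)
  rwa [Matrix.sub_apply, sub_eq_zero] at this

theorem sup12 {g h : L5} (hg : g ∈ T0) (hh : h ∈ T0) :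
    ((g * h : L5) : M5) 1 2 = (g : M5) 1 2 + (h : M5) 1 2 := by
  rw [coe_mul', Matrix.mul_apply, Fin.sum_univ_five, T0_ent hg (i := 1) (j := 0) (by decide),
    T0_ent hg (i := 1) (j := 1) (by decide), T0_ent hh (i := 2) (j := 2) (by decide),
    T0_ent hh (i := 3) (j := 2) (by decide), T0_ent hh (i := 4) (j := 2) (by decide)]
  simp only [show (1 : M5) 1 0 = 0 from rfl, show (1 : M5) 1 1 = 1 from rfl,
    show (1 : M5) 2 2 = 1 from rfl, show (1 : M5) 3 2 = 0 from rfl,
    show (1 : M5) 4 2 = 0 from rfl]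
  ring

theorem sup23 {g h : L5} (hg : g ∈ T0) (hh : h ∈ T0) :
    ((g * h : L5) : M5) 2 3 = (g : M5) 2 3 + (h : M5) 2 3 := by
  rw [coe_mul', Matrix.mul_apply, Fin.sum_univ_five, T0_ent hg (i := 2) (j := 0) (by decide),
    T0_ent hg (i := 2) (j := 1) (by decide), T0_ent hg (i := 2) (j := 2) (by decide),
    T0_ent hh (i := 3) (j := 3) (by decide), T0_ent hh (i := 4) (j := 3) (by decide)]
  simp only [show (1 : M5) 2 0 = 0 from rfl, show (1 : M5) 2 1 = 0 from rfl,
    show (1 : M5) 2 2 = 1 from rfl, show (1 : M5) 3 3 = 1 from rfl,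
    show (1 : M5) 4 3 = 0 from rfl]
  ring

theorem comm12 {g h : L5} (hg : g ∈ T0) (hh : h ∈ T0) : ((⁅g, h⁆ : L5) : M5) 1 2 = 0 := by
  have hg' := T0.inv_mem hg
  have hh' := T0.inv_mem hh
  have e1 : (g : M5) 1 2 + ((g⁻¹ : L5) : M5) 1 2 = 0 := by
    rw [← sup12 hg hg', mul_inv_cancel]; rfl
  have e2 : (h : M5) 1 2 + ((h⁻¹ : L5) : M5) 1 2 = 0 := by
    rw [← sup12 hh hh', mul_inv_cancel]; rfl
  rw [commutatorElement_def, sup12 (T0.mul_mem (T0.mul_mem hg hh) hg') hh',
    sup12 (T0.mul_mem hg hh) hg', sup12 hg hh]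
  calc (g : M5) 1 2 + (h : M5) 1 2 + ((g⁻¹ : L5) : M5) 1 2 + ((h⁻¹ : L5) : M5) 1 2
      = ((g : M5) 1 2 + ((g⁻¹ : L5) : M5) 1 2) + ((h : M5) 1 2 + ((h⁻¹ : L5) : M5) 1 2) := by ring
    _ = 0 := by rw [e1, e2, add_zero]

theorem comm23 {g h : L5} (hg : g ∈ T0) (hh : h ∈ T0) : ((⁅g, h⁆ : L5) : M5) 2 3 = 0 := by
  have hg' := T0.inv_mem hg
  have hh' := T0.inv_mem hh
  have e1 : (g : M5) 2 3 + ((g⁻¹ : L5) : M5) 2 3 = 0 := by
    rw [← sup23 hg hg', mul_inv_cancel]; rfl
  have e2 : (h : M5) 2 3 + ((h⁻¹ : L5) : M5) 2 3 = 0 := by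
    rw [← sup23 hh hh', mul_inv_cancel]; rfl
  rw [commutatorElement_def, sup23 (T0.mul_mem (T0.mul_mem hg hh) hg') hh',
    sup23 (T0.mul_mem hg hh) hg', sup23 hg hh]
  calc (g : M5) 2 3 + (h : M5) 2 3 + ((g⁻¹ : L5) : M5) 2 3 + ((h⁻¹ : L5) : M5) 2 3
      = ((g : M5) 2 3 + ((g⁻¹ : L5) : M5) 2 3) + ((h : M5) 2 3 + ((h⁻¹ : L5) : M5) 2 3) := by ring
    _ = 0 := by rw [e1, e2, add_zero]

theorem V1_conj {p u : L5} (hp : p ∈ T0) (hu : u ∈ V1) : p * u * p⁻¹ ∈ V1 := by
  rw [V1, mem_pat] at hu ⊢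
  exact conj_pat (P' := PT) (by decide) (by decide) (by decide) hp hu

theorem V2_conj {p u : L5} (hp : p ∈ T0) (hu : u ∈ V2) : p * u * p⁻¹ ∈ V2 := by
  rw [V2, mem_pat] at hu ⊢
  exact conj_pat (P' := PT) (by decide) (by decide) (by decide) hp hu

theorem V1_comm {p u : L5} (hp : p ∈ T0) (hu : u ∈ V1) : ⁅u, p⁆ ∈ V1 := by
  rw [commutatorElement_def]
  have : u * p * u⁻¹ * p⁻¹ = u * (p * u⁻¹ * p⁻¹) := by group
  rw [this]
  exact V1.mul_mem hu (V1_conj hp (V1.inv_mem hu))

theorem V2_comm {p u : L5} (hp : p ∈ T0) (hu : u ∈ V2) : ⁅u, p⁆ ∈ V2 := by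
  rw [commutatorElement_def]
  have : u * p * u⁻¹ * p⁻¹ = u * (p * u⁻¹ * p⁻¹) := by group
  rw [this]
  exact V2.mul_mem hu (V2_conj hp (V2.inv_mem hu))

/-- the pattern of `V1` without the entry `(1, 2)` -/
def PA (i j : Fin 5) : Bool := PV1 i j && !(decide (i = 1) && decide (j = 2))
/-- the pattern of `V2` without the entry `(2, 3)` -/
def PB (i j : Fin 5) : Bool := PV2 i j && !(decide (i = 2) && decide (j = 3))

theorem comm_pat_A {p u : L5} (hp : p ∈ T0) (hu : u ∈ V1) : Pat PA ⁅u, p⁆ := by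
  intro i j hij
  cases h : PV1 i j with
  | false => exact V1_comm hp hu i j h
  | true =>
    have : i = 1 ∧ j = 2 := by
      revert hij h; revert i j; decide
    obtain ⟨rfl, rfl⟩ := this
    rw [Matrix.sub_apply, comm12 (V1_le_T0 hu) hp]; rfl

theorem comm_pat_B {p u : L5} (hp : p ∈ T0) (hu : u ∈ V2) : Pat PB ⁅u, p⁆ := by
  intro i j hij
  cases h : PV2 i j with
  | false => exact V2_comm hp hu i j h
  | true =>
    have : i = 2 ∧ j = 3 := by
      revert hij h; revert i j; decide
    obtain ⟨rfl, rfl⟩ := this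
    rw [Matrix.sub_apply, comm23 (V2_le_T0 hu) hp]; rfl

private noncomputable def _root_.Cfsg.Agent.KO258775d.k5 : type_of% @Decidable.decide := @(fun x0 x1 => @Decidable.rec.{1} _ @(fun x2 => @Bool) @(fun x2 => @Bool.false) @(fun x2 => @Bool.true) @x1)
private theorem _root_.Cfsg.Agent.KO258775d.e5 : @Decidable.decide = @_root_.Cfsg.Agent.KO258775d.k5 := by delta _root_.Cfsg.Agent.KO258775d.k5; rfl'
private noncomputable def _root_.Cfsg.Agent.KO258775d.k6l (n : Nat) (P : ∀ k, k < n → Prop) (H : ∀ k h, Decidable (P k h)) (m : Nat) : m ≤ n → Bool := @Nat.rec (fun m => m ≤ n → Bool) (fun _ => true) (fun k ih h => @Decidable.rec (P k h) (fun _ => Bool) (fun _ => false) (fun _ => ih (Nat.le_of_succ_le h)) (H k h)) m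
private theorem _root_.Cfsg.Agent.KO258775d.k6ls (n : Nat) (P : ∀ k, k < n → Prop) (H : ∀ k h, Decidable (P k h)) (m : Nat) : ∀ h : m ≤ n, _root_.Cfsg.Agent.KO258775d.k6l n P H m h = true ↔ ∀ k (g : k < m), P k (Nat.lt_of_lt_of_le g h) := by induction m with | zero => exact fun _ => ⟨fun _ _ g => absurd g (Nat.not_lt_zero _), fun _ => rfl⟩ | succ m ih => intro h; show @Decidable.rec (P m h) (fun _ => Bool) (fun _ => false) (fun _ => _root_.Cfsg.Agent.KO258775d.k6l n P H m (Nat.le_of_succ_le h)) (H m h) = true ↔ _; cases H m h with | isFalse q => exact ⟨fun g => absurd g Bool.false_ne_true, fun g => absurd (g m (Nat.lt_succ_self m)) q⟩ | isTrue q => exact ⟨fun g k hk => (Nat.lt_succ_iff_lt_or_eq.1 hk).elim ((ih _).1 g k) fun e => by subst e; exact q, fun g => (ih _).2 fun k hk => g k (Nat.lt_succ_of_lt hk)⟩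
private noncomputable def _root_.Cfsg.Agent.KO258775d.k6 (n : Nat) (P : ∀ k, k < n → Prop) (H : ∀ k h, Decidable (P k h)) : Decidable (∀ k h, P k h) := @Bool.rec (fun b => _root_.Cfsg.Agent.KO258775d.k6l n P H n (Nat.le_refl n) = b → Decidable (∀ k h, P k h)) (fun g => isFalse fun q => Bool.false_ne_true (g.symm.trans ((_root_.Cfsg.Agent.KO258775d.k6ls n P H n _).2 fun k h => q k h))) (fun g => isTrue fun k h => (_root_.Cfsg.Agent.KO258775d.k6ls n P H n _).1 g k h) (_root_.Cfsg.Agent.KO258775d.k6l n P H n (Nat.le_refl n)) rfl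
private theorem _root_.Cfsg.Agent.KO258775d.e6 : @Nat.decidableBallLT = @_root_.Cfsg.Agent.KO258775d.k6 := funext fun _ => funext fun _ => funext fun _ => Subsingleton.elim _ _
private noncomputable def _root_.Cfsg.Agent.KO258775d.k7 : type_of% @Nat.decidableForallFin := @(fun x0 x1 x2 => @Decidable.rec.{1} _ @(fun x3 => @Decidable ((x4 : @Fin @x0) → @x1 @x4)) @(fun x3 => @Decidable.isFalse _ (@decidable_of_decidable_of_iff._proof_1 _ _ (@Nat.decidableForallFin._proof_1 _ @x1) @x3)) @(fun x3 => @Decidable.isTrue _ (@Iff.mp _ _ (@Nat.decidableForallFin._proof_1 _ @x1) @x3)) (@Cfsg.Agent.KO258775d.k6 @x0 @(fun x3 x4 => @x1 (@Fin.mk _ @x3 @x4)) @(fun x3 x4 => @x2 (@Fin.mk _ @x3 @x4))))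
private theorem _root_.Cfsg.Agent.KO258775d.e7 : @Nat.decidableForallFin = @_root_.Cfsg.Agent.KO258775d.k7 := by delta _root_.Cfsg.Agent.KO258775d.k7; rewrite [← Cfsg.Agent.KO258775d.e6]; rfl'
private noncomputable def _root_.Cfsg.Agent.KO258775d.k8 : type_of% @forall_prop_decidable := @(fun x0 x1 x2 x3 => @Decidable.rec.{1} _ @(fun x4 => @Decidable ((x5 : @x0) → @x1 @x5)) @(fun x4 => @Decidable.isTrue _ (@forall_prop_decidable._proof_2 _ @x1 @x4)) @(fun x4 => @Decidable.rec.{1} _ @(fun x5 => @Decidable ((x6 : @x0) → @x1 @x6)) @(fun x5 => @Decidable.isFalse _ (@decidable_of_decidable_of_iff._proof_1 _ _ (@forall_prop_decidable._proof_1 _ @x1 @x4) @x5)) @(fun x5 => @Decidable.isTrue _ (@Iff.mp _ _ (@forall_prop_decidable._proof_1 _ @x1 @x4) @x5)) (@x3 @x4)) @x2)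
private theorem _root_.Cfsg.Agent.KO258775d.e8 : @forall_prop_decidable = @_root_.Cfsg.Agent.KO258775d.k8 := by delta _root_.Cfsg.Agent.KO258775d.k8; rfl'
private noncomputable def _root_.Cfsg.Agent.KO258775d.k9 : type_of% @Bool.decEq := @(fun x0 x1 => @Bool.rec.{1} @(fun x2 => @Decidable (@Eq.{1} _ @x2 @x1)) (@Bool.rec.{1} @(fun x2 => @Decidable (@Eq.{1} _ @Bool.false @x2)) (@Decidable.isTrue _ (@rfl.{1} _ _)) (@Decidable.isFalse _ @(fun x2 => @Bool.noConfusion.{0} _ _ _ @x2)) @x1) (@Bool.rec.{1} @(fun x2 => @Decidable (@Eq.{1} _ @Bool.true @x2)) (@Decidable.isFalse _ @(fun x2 => @Bool.noConfusion.{0} _ _ _ @x2)) (@Decidable.isTrue _ (@rfl.{1} _ _)) @x1) @x0)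
private theorem _root_.Cfsg.Agent.KO258775d.e9 : @Bool.decEq = @_root_.Cfsg.Agent.KO258775d.k9 := by delta _root_.Cfsg.Agent.KO258775d.k9; rfl'
private noncomputable def _root_.Cfsg.Agent.KO258775d.k10 : type_of% @instDecidableEqBool := @Cfsg.Agent.KO258775d.k9
private theorem _root_.Cfsg.Agent.KO258775d.e10 : @instDecidableEqBool = @_root_.Cfsg.Agent.KO258775d.k10 := by delta _root_.Cfsg.Agent.KO258775d.k10; rewrite [← Cfsg.Agent.KO258775d.e9]; rfl'

/-- the double commutators are `1` or `zz`. -/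
theorem comm_AB {a b : L5} (ha : Pat PA a) (hb : Pat PB b) : ⁅a, b⁆ = 1 ∨ ⁅a, b⁆ = zz := by
  rw [pat_iff_sup] at ha hb
  have e2 : ((b : M5) - 1) * ((a : M5) - 1) = 0 := by
    ext i j
    exact Sup.mul (R := fun _ _ => false) (by (first | (refine of_decide_eq_true ?_; rewrite [Cfsg.Agent.KO258775d.e5, Cfsg.Agent.KO258775d.e7, Cfsg.Agent.KO258775d.e8, Cfsg.Agent.KO258775d.e10]; decide +kernel) | decide +kernel)) hb ha i j rfl
  have e1 : Sup (fun i j => decide (i = 0) && decide (j = 4))
      (((a : M5) - 1) * ((b : M5) - 1)) := Sup.mul (by decide) ha hb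
  have e3 : (a : M5) * (b : M5) = ((a : M5) - 1) * ((b : M5) - 1) + a + b - 1 := by noncomm_ring
  have e4 : (b : M5) * (a : M5) = ((b : M5) - 1) * ((a : M5) - 1) + a + b - 1 := by noncomm_ring
  have e5 : (((a : M5) - 1) * ((b : M5) - 1)) =
      Matrix.single 0 4 ((((a : M5) - 1) * ((b : M5) - 1)) 0 4) := by
    ext i j
    by_cases h : i = 0 ∧ j = 4
    · obtain ⟨rfl, rfl⟩ := h
      rw [Matrix.single_apply_same]
    · rw [e1 i j (by simpa using h), Matrix.single_apply_of_ne]
      rintro ⟨rfl, rfl⟩; exact h ⟨rfl, rfl⟩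
  have key : a * b = b * a ∨ a * b = zz * (b * a) := by
    rcases zmod2_cases ((((a : M5) - 1) * ((b : M5) - 1)) 0 4) with h | h
    · left
      apply Subtype.ext
      rw [coe_mul', coe_mul', e3, e4, e2, e5, h, Matrix.single_zero]
    · right
      rw [h] at e5
      apply Subtype.ext
      rw [coe_mul', coe_mul', coe_mul', coe_zz, transvection, add_mul, one_mul, e3, e4, e2, e5]
      have hz4 : Matrix.single 0 4 (1 : ZMod 2) * (0 + (a : M5) + (b : M5) - 1) =
          Matrix.single 0 4 1 := by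
        ext i j
        by_cases hi : i = 0
        · subst hi
          rw [Matrix.single_mul_apply_same, one_mul]
          rw [Matrix.sub_apply, Matrix.add_apply, Matrix.add_apply, Matrix.zero_apply]
          have hA : ∀ j : Fin 5, PA 4 j = false := by decide
          have hB : ∀ j : Fin 5, PB 4 j = false := by decide
          have ha4 := ha 4 j (hA j)
          have hb4 := hb 4 j (hB j)
          rw [Matrix.sub_apply, sub_eq_zero] at ha4 hb4
          rw [ha4, hb4]
          have hj : ∀ j : Fin 5, (0 : ZMod 2) + (1 : M5) 4 j + (1 : M5) 4 j - (1 : M5) 4 j =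
            (Matrix.single 0 4 1 : M5) 0 j := by decide
          exact hj j
        · rw [Matrix.single_mul_apply_of_ne, Matrix.single_apply_of_ne]
          · rintro ⟨h, -⟩; exact hi h.symm
          · exact hi
      rw [hz4]
      abel
  rcases key with h | h
  · left
    rw [commutatorElement_def, h]; group
  · right
    rw [commutatorElement_def, h]; group

/-! ### The centraliser of `bb` -/

/-- the centralizer of `bb` in `CC`. -/
def P0 : Subgroup L5 := T0 ⊓ Subgroup.centralizer {bb}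

theorem mem_P0 {g : L5} : g ∈ P0 ↔ g ∈ CC ∧ g * bb = bb * g := by
  rw [P0, Subgroup.mem_inf, Subgroup.mem_centralizer_singleton_iff]
  constructor
  · rintro ⟨h1, h2⟩; exact ⟨T0_le_CC h1, h2⟩
  · rintro ⟨h1, h2⟩; exact ⟨mem_T0_of_comm h1 h2, h2⟩

theorem P0_le_T0 : P0 ≤ T0 := inf_le_left

theorem bb_FF : bb ∈ FF := by
  rw [FF, mem_pat, Pat_iff_inP, bb, cd_mul, cd_x, cd_x]
  decide +kernel

theorem V1_le_P0 : V1 ≤ P0 := by
  intro g hg
  rw [mem_P0]
  exact ⟨V1_le_CC hg, comm_of_pat (P := PV1) (P' := PF) (by decide) (by decide) hg bb_FF⟩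

theorem V2_le_P0 : V2 ≤ P0 := by
  intro g hg
  rw [mem_P0]
  exact ⟨V2_le_CC hg, comm_of_pat (P := PV2) (P' := PF) (by decide) (by decide) hg bb_FF⟩

theorem double_comm {u v p q : L5} (hu : u ∈ V1) (hv : v ∈ V2) (hp : p ∈ P0) (hq : q ∈ P0) :
    ⁅⁅u, p⁆, ⁅v, q⁆⁆ = 1 ∨ ⁅⁅u, p⁆, ⁅v, q⁆⁆ = zz :=
  comm_AB (comm_pat_A (P0_le_T0 hp) hu) (comm_pat_B (P0_le_T0 hq) hv)

/-- an element of `P0` outside `JJ` -/
def pp : L5 := x 0 1 * x 3 4

theorem pp_mem : pp ∈ P0 := by
  rw [mem_P0]
  constructor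
  · rw [mem_CC_iff, pp, cd_mul, cd_x, cd_x]; decide +kernel
  · apply cd_inj
    rw [cd_mul, cd_mul, pp, bb, cd_mul, cd_mul, cd_x, cd_x, cd_x, cd_x]
    decide +kernel

theorem x_inv (i j : Fin 5) (h : i ≠ j) : (x i j h)⁻¹ = x i j h := by
  rw [inv_eq_iff_mul_eq_one]
  apply cd_inj
  rw [cd_mul, cd_one, cd_x]
  revert i j; decide +kernel

theorem pp_inv : pp⁻¹ = pp := by
  rw [inv_eq_iff_mul_eq_one]
  apply cd_inj
  rw [cd_mul, pp, cd_mul, cd_one, cd_x, cd_x]
  decide +kernel

theorem x12_mem : x 1 2 ∈ V1 := by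
  rw [V1, mem_pat, Pat_iff_inP, cd_x]; decide +kernel

theorem x23_mem : x 2 3 ∈ V2 := by
  rw [V2, mem_pat, Pat_iff_inP, cd_x]; decide +kernel

theorem double_comm_ex : ⁅⁅x 1 2, pp⁆, ⁅x 2 3, pp⁆⁆ = zz := by
  have h1 : ⁅x 1 2, pp⁆ = x 1 2 * pp * x 1 2 * pp := by
    rw [commutatorElement_def, x_inv, pp_inv]
  have h2 : ⁅x 2 3, pp⁆ = x 2 3 * pp * x 2 3 * pp := by
    rw [commutatorElement_def, x_inv, pp_inv]
  rw [commutatorElement_def, mul_inv_eq_iff_eq_mul, mul_inv_eq_iff_eq_mul, h1, h2]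
  apply cd_inj
  simp only [cd_mul, cd_x, cd_zz, pp]
  decide +kernel

theorem not_mem_P0 : x 0 1 ∉ P0 := by
  rw [mem_P0]
  rintro ⟨-, h⟩
  have := congrArg cd h
  rw [bb, cd_mul, cd_mul, cd_mul, cd_x, cd_x, cd_x] at this
  revert this
  decide +kernel

theorem x01_mem : x 0 1 ∈ T0 := by
  rw [T0, mem_pat, Pat_iff_inP, cd_x]; decide +kernel

/-! ### The theorem -/

section Main

variable {G : Type*} [Group G] [Finite G] {z : G} {ι : CC →* G}

/-- the image in `G` of a subgroup of the model -/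
def im (ι : CC →* G) (A : Subgroup L5) : Subgroup G := (A.subgroupOf CC).map ι

omit [Finite G] in
theorem mem_im {A : Subgroup L5} {g : G} : g ∈ im ι A ↔ ∃ u : CC, (u : L5) ∈ A ∧ ι u = g := by
  simp only [im, Subgroup.mem_map, Subgroup.mem_subgroupOf]

omit [Finite G] in
theorem card_im (h : Hyp z ι) {A : Subgroup L5} (hA : A ≤ CC) :
    Nat.card (im ι A) = Nat.card A := by
  rw [im, Subgroup.card_map_of_injective h.inj]
  exact Nat.card_congr (Subgroup.subgroupOfEquivOfLe hA).toEquiv

omit [Finite G] in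
theorem im_P0 (h : Hyp z ι) :
    im ι P0 = Subgroup.centralizer {z} ⊓ Subgroup.centralizer {ι bC} := by
  ext g
  rw [mem_im, Subgroup.mem_inf, ← h.range, Subgroup.mem_centralizer_singleton_iff]
  constructor
  · rintro ⟨u, hu, rfl⟩
    refine ⟨⟨u, rfl⟩, ?_⟩
    rw [← map_mul, ← map_mul]
    exact congrArg ι (Subtype.ext (mem_P0.1 hu).2)
  · rintro ⟨⟨u, rfl⟩, h2⟩
    refine ⟨u, ?_, rfl⟩
    rw [mem_P0]
    rw [← map_mul, ← map_mul] at h2
    exact ⟨u.2, (congrArg Subtype.val (h.inj h2) :)⟩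

omit [Finite G] in
theorem im_le {A B : Subgroup L5} (hAB : A ≤ B) : im ι A ≤ im ι B := by
  intro g hg
  rw [mem_im] at hg ⊢
  obtain ⟨u, hu, rfl⟩ := hg
  exact ⟨u, hAB hu, rfl⟩

omit [Finite G] in
/-- an elementary abelian subgroup of order `64` in the image of `T0` is one of the two. -/
theorem elab_im (h : Hyp z ι)
    (hel : ∀ A : Subgroup L5, A ≤ T0 → (∀ a ∈ A, a * a = 1) → Nat.card A = 64 → A = V1 ∨ A = V2)
    (B : Subgroup G) (hB : B ≤ im ι T0) (hB1 : ∀ b ∈ B, b * b = 1) (hB2 : Nat.card B = 64) :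
    B = im ι V1 ∨ B = im ι V2 := by
  let A : Subgroup L5 := (B.comap ι).map CC.subtype
  have hA : ∀ g, g ∈ A ↔ ∃ u : CC, ι u ∈ B ∧ (u : L5) = g := by
    intro g
    simp only [A, Subgroup.mem_map, Subgroup.mem_comap, Subgroup.coe_subtype]
  have hBA : B = im ι A := by
    ext g
    rw [mem_im]
    constructor
    · intro hg
      obtain ⟨u, hu, rfl⟩ := mem_im.1 (hB hg)
      exact ⟨u, (hA _).2 ⟨u, hg, rfl⟩, rfl⟩
    · rintro ⟨u, hu, rfl⟩
      obtain ⟨u', hu', e⟩ := (hA _).1 hu
      rw [← Subtype.ext e]; exact hu'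
  have hAT : A ≤ T0 := by
    intro g hg
    obtain ⟨u, hu, rfl⟩ := (hA _).1 hg
    obtain ⟨v, hv, e⟩ := mem_im.1 (hB hu)
    rw [← h.inj e]; exact hv
  have hA2 : ∀ a ∈ A, a * a = 1 := by
    intro g hg
    obtain ⟨u, hu, rfl⟩ := (hA _).1 hg
    have h1 := hB1 _ hu
    rw [← map_mul, ← map_one ι] at h1
    exact congrArg Subtype.val (h.inj h1)
  have hA3 : Nat.card A = 64 := by
    rw [← hB2, hBA, card_im h (hAT.trans T0_le_CC)]
  rcases hel A hAT hA2 hA3 with h1 | h1
  · left; rw [hBA, h1]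
  · right; rw [hBA, h1]

theorem V1_ne_V2 : V1 ≠ V2 := by
  intro h
  have h1 : x 1 2 ∈ V2 := h ▸ x12_mem
  rw [V2, mem_pat, Pat_iff_inP, cd_x] at h1
  revert h1; decide +kernel

theorem sq_V1 {g : L5} (hg : g ∈ V1) : g * g = 1 := by
  rw [V1, mem_pat, pat_iff_sup] at hg
  have e1 : ((g : M5) - 1) * ((g : M5) - 1) = 0 := by
    ext i j
    exact Sup.mul (R := fun _ _ => false) (by decide) hg hg i j rfl
  apply Subtype.ext
  rw [coe_mul']
  have e3 : (g : M5) * (g : M5) = ((g : M5) - 1) * ((g : M5) - 1) + (g + g) - 1 := by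
    noncomm_ring
  have e4 : (g : M5) + g = 0 := by
    ext i j
    rw [Matrix.add_apply]
    exact CharTwo.add_self_eq_zero _
  rw [e3, e1, e4]
  ext i j
  rw [zero_add, Matrix.sub_apply, Matrix.zero_apply, zero_sub]
  show - ((1 : M5) i j) = (1 : M5) i j
  exact ZMod.neg_eq_self_mod_two _

theorem sq_V2 {g : L5} (hg : g ∈ V2) : g * g = 1 := by
  rw [V2, mem_pat, pat_iff_sup] at hg
  have e1 : ((g : M5) - 1) * ((g : M5) - 1) = 0 := by
    ext i j
    exact Sup.mul (R := fun _ _ => false) (by decide) hg hg i j rfl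
  apply Subtype.ext
  rw [coe_mul']
  have e3 : (g : M5) * (g : M5) = ((g : M5) - 1) * ((g : M5) - 1) + (g + g) - 1 := by
    noncomm_ring
  have e4 : (g : M5) + g = 0 := by
    ext i j
    rw [Matrix.add_apply]
    exact CharTwo.add_self_eq_zero _
  rw [e3, e1, e4]
  ext i j
  rw [zero_add, Matrix.sub_apply, Matrix.zero_apply, zero_sub]
  show - ((1 : M5) i j) = (1 : M5) i j
  exact ZMod.neg_eq_self_mod_two _

omit [Finite G] in
theorem sq_im {A : Subgroup L5} (hA : ∀ a ∈ A, a * a = 1) :
    ∀ g ∈ im ι A, g * g = 1 := by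
  intro g hg
  obtain ⟨u, hu, rfl⟩ := mem_im.1 hg
  rw [← map_mul, ← map_one ι]
  congr 1
  exact Subtype.ext (hA _ hu)

omit [Finite G] in
theorem im_inj (h : Hyp z ι) {A B : Subgroup L5} (hA : A ≤ CC) (hB : B ≤ CC)
    (e : im ι A = im ι B) : A = B := by
  have key : ∀ {A B : Subgroup L5}, A ≤ CC → im ι A = im ι B → A ≤ B := by
    intro A B hA e g hg
    have h1 : ι ⟨g, hA hg⟩ ∈ im ι B := by
      rw [← e]; exact mem_im.2 ⟨⟨g, hA hg⟩, hg, rfl⟩
    obtain ⟨u, hu, e1⟩ := mem_im.1 h1
    have := h.inj e1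
    rw [this] at hu
    exact hu
  exact le_antisymm (key hA e) (key hB e.symm)

theorem zz_ne_one : (zz : L5) ≠ 1 := by
  intro h
  have := congrArg cd h
  rw [cd_zz, cd_one] at this
  revert this; decide +kernel

theorem zz_inv : (zz : L5)⁻¹ = zz := x_inv _ _ _

/-- Elements normalizing `C(z) ∩ C(ι bb)` centralize `z`. -/
theorem fix_of_normalizes (h : Hyp z ι) (hV1 : Nat.card V1 = 64) (hV2 : Nat.card V2 = 64)
    (hel : ∀ A : Subgroup L5, A ≤ T0 → (∀ a ∈ A, a * a = 1) → Nat.card A = 64 →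
      A = V1 ∨ A = V2) :
    ∀ m : G, (∀ p ∈ im ι P0, m * p * m⁻¹ ∈ im ι P0) → m * z * m⁻¹ = z := by
  have hz : z⁻¹ = z := by
    have e : zC⁻¹ = zC := Subtype.ext zz_inv
    rw [← h.map_zz, ← map_inv, e]
  have hz1 : z ≠ 1 := by
    rw [← h.map_zz, ← map_one ι]
    intro e
    exact zz_ne_one (congrArg Subtype.val (h.inj e))
  apply normalizer_fix (im ι P0) (im ι V1) (im ι V2) hz hz1
  · intro m hm
    -- conjugates of the two groups
    have conj : ∀ A : Subgroup L5, A ≤ P0 → (∀ a ∈ A, a * a = 1) → Nat.card A = 64 →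
        (im ι A).map (MulAut.conj m).toMonoidHom = im ι V1 ∨
        (im ι A).map (MulAut.conj m).toMonoidHom = im ι V2 := by
      intro A hA hA1 hA2
      apply elab_im h hel
      · rintro _ ⟨a, ha, rfl⟩
        exact im_le P0_le_T0 (hm a (im_le hA ha))
      · rintro _ ⟨a, ha, rfl⟩
        rw [← map_mul, sq_im hA1 a ha, map_one]
      · rw [Subgroup.card_map_of_injective (MulEquiv.injective _),
          card_im h (hA.trans (P0_le_T0.trans T0_le_CC)), hA2]
    have e1 := conj V1 V1_le_P0 (fun a ha => sq_V1 ha) hV1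
    have e2 := conj V2 V2_le_P0 (fun a ha => sq_V2 ha) hV2
    have hne : (im ι V1).map (MulAut.conj m).toMonoidHom ≠
        (im ι V2).map (MulAut.conj m).toMonoidHom := by
      intro e
      have := Subgroup.map_injective (f := (MulAut.conj m).toMonoidHom) (MulEquiv.injective _) e
      exact V1_ne_V2 (im_inj h V1_le_CC V2_le_CC this)
    have mem : ∀ {A B : Subgroup G}, A.map (MulAut.conj m).toMonoidHom = B →
        ∀ a ∈ A, m * a * m⁻¹ ∈ B := by
      rintro A B rfl a ha
      exact ⟨a, ha, rfl⟩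
    rcases e1 with e1 | e1 <;> rcases e2 with e2 | e2
    · exact absurd (e1.trans e2.symm) hne
    · exact Or.inl ⟨mem e1, mem e2⟩
    · exact Or.inr ⟨mem e1, mem e2⟩
    · exact absurd (e1.trans e2.symm) hne
  · intro u hu v hv p hp q hq
    obtain ⟨u, hu', rfl⟩ := mem_im.1 hu
    obtain ⟨v, hv', rfl⟩ := mem_im.1 hv
    obtain ⟨p, hp', rfl⟩ := mem_im.1 hp
    obtain ⟨q, hq', rfl⟩ := mem_im.1 hq
    rw [← map_commutatorElement, ← map_commutatorElement, ← map_commutatorElement, ← h.map_zz]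
    rcases double_comm hu' hv' hp' hq' with e | e
    · left
      have e' : ⁅⁅u, p⁆, ⁅v, q⁆⁆ = 1 := Subtype.ext e
      rw [e', map_one]
    · right
      have e' : ⁅⁅u, p⁆, ⁅v, q⁆⁆ = zC := Subtype.ext e
      rw [e']
  · refine ⟨ι ⟨x 1 2, V1_le_CC x12_mem⟩, mem_im.2 ⟨⟨x 1 2, V1_le_CC x12_mem⟩, x12_mem, rfl⟩,
      ι ⟨x 2 3, V2_le_CC x23_mem⟩, mem_im.2 ⟨⟨x 2 3, V2_le_CC x23_mem⟩, x23_mem, rfl⟩,
      ι ⟨pp, (mem_P0.1 pp_mem).1⟩, mem_im.2 ⟨⟨pp, (mem_P0.1 pp_mem).1⟩, pp_mem, rfl⟩,
      ι ⟨pp, (mem_P0.1 pp_mem).1⟩, mem_im.2 ⟨⟨pp, (mem_P0.1 pp_mem).1⟩, pp_mem, rfl⟩, ?_⟩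
    rw [← map_commutatorElement, ← map_commutatorElement, ← map_commutatorElement, ← h.map_zz]
    have e' : ⁅⁅(⟨x 1 2, V1_le_CC x12_mem⟩ : CC), (⟨pp, (mem_P0.1 pp_mem).1⟩ : CC)⁆,
        ⁅(⟨x 2 3, V2_le_CC x23_mem⟩ : CC), (⟨pp, (mem_P0.1 pp_mem).1⟩ : CC)⁆⁆ = zC :=
      Subtype.ext double_comm_ex
    rw [e']

/-- `z` is not conjugate to `ι (x 0 3 * x 1 4)`. -/
theorem not_isConj_bC' (h : Hyp z ι) (hT : Nat.card T0 = 2 ^ 10) (hV1 : Nat.card V1 = 64)
    (hV2 : Nat.card V2 = 64)
    (hel : ∀ A : Subgroup L5, A ≤ T0 → (∀ a ∈ A, a * a = 1) → Nat.card A = 64 →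
      A = V1 ∨ A = V2) : ¬ IsConj z (ι bC) := by
  have hdvd : Nat.card P0 ∣ 2 ^ 10 := hT ▸ Subgroup.card_dvd_of_le P0_le_T0
  obtain ⟨n, hn, hc⟩ := (Nat.dvd_prime_pow Nat.prime_two).1 hdvd
  have hn10 : n ≠ 10 := by
    rintro rfl
    have := Subgroup.eq_of_le_of_card_ge P0_le_T0 (by rw [hc, hT])
    exact not_mem_P0 (this ▸ x01_mem)
  apply not_isConj_of_normalizer (im ι P0) (im_P0 h) n
  · rw [card_im h (P0_le_T0.trans T0_le_CC), hc]
  · rw [← h.range, Nat.card_congr (MonoidHom.ofInjective h.inj).toEquiv.symm]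
    refine (pow_dvd_pow 2 (show n + 1 ≤ 10 by omega)).trans ?_
    rw [← hT]
    exact Subgroup.card_dvd_of_le T0_le_CC
  · exact fix_of_normalizes h hV1 hV2 hel

end Main

end Cfsg.Agent.Held.NoBModel
end

-- part: Held/Pattern
section
/-!
# The fusion pattern of `z` in `V1`

The subgroup `V1` has `64` elements `ve a`, `a : Fin 64`, falling into the trivial class and seven
further classes under `N_CC(V1)`.  If the fusion of `z` in `V1` is controlled by `N_G(V1)` then the
number of pairs of conjugates of `z` in `V1` with a given product `v` is the same for all conjugates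
`v` of `z` in `V1`; this leaves few possibilities.
-/

set_option autoImplicit false

namespace Cfsg.Agent.Held.Pattern

open Matrix Cfsg.Agent.SporadicRecognition.HeldModel Cfsg.Agent.Lib.F2Mat Cfsg.Agent.Held.NoBModel

/-- code of the element of `V1` with index `a`: bits `0,1,2` of `a` are the entries `(0,2)`,
`(0,3)`, `(0,4)`, bits `3,4,5` the entries `(1,2)`, `(1,3)`, `(1,4)` -/
def vc (a : ℕ) : ℕ :=
  Nat.add (Nat.add 17043521 (Nat.mul 4 (Nat.mod a 8))) (Nat.mul 128 (Nat.div a 8))

theorem vc_sq : ∀ a : Fin 64, Nat.beq (mul 5 (vc a) (vc a)) (_root_.Cfsg.Agent.Lib.F2Mat.one 5) = true := by decide +kernel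

theorem vc_lt : ∀ a : Fin 64, Nat.blt (vc a) 33554432 = true := by decide +kernel

/-- the element of `V1` with index `a` -/
def ve (a : Fin 64) : L5 := mk (vc a) (vc a) (vc_sq a)

theorem cd_ve (a : Fin 64) : cd (ve a) = vc a := cd_mk _ (vc_lt a)

theorem inP_vc : ∀ a : Fin 64, inP (msk' PV1) (vc a) = true := by decide +kernel

theorem ve_mem (a : Fin 64) : ve a ∈ V1 := by
  rw [V1, mem_pat, Pat_iff_inP, cd_ve]
  exact inP_vc a

theorem vc_inj : ∀ a b : Fin 64, Nat.beq (vc a) (vc b) = true → a = b := by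
  have h : ∀ a : Fin 64, vc a / 4 % 8 + 8 * (vc a / 128 % 8) = a := by decide +kernel
  intro a b hab
  apply Fin.ext
  rw [← h a, ← h b, Nat.eq_of_beq_eq_true hab]

theorem ve_inj {a b : Fin 64} (h : ve a = ve b) : a = b := by
  apply vc_inj
  rw [← cd_ve, ← cd_ve, h]
  exact Nat.beq_refl _

/-- index from entries -/
def ix (b0 b1 b2 b3 b4 b5 : Bool) : Fin 64 :=
  ⟨b0.toNat + 2 * b1.toNat + 4 * b2.toNat + 8 * b3.toNat + 16 * b4.toNat + 32 * b5.toNat, by
    revert b0 b1 b2 b3 b4 b5; decide⟩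

/-- entries from bits -/
def tab (b0 b1 b2 b3 b4 b5 : Bool) (i j : Fin 5) : Bool :=
  if i = 0 ∧ j = 2 then b0 else if i = 0 ∧ j = 3 then b1 else if i = 0 ∧ j = 4 then b2 else
  if i = 1 ∧ j = 2 then b3 else if i = 1 ∧ j = 3 then b4 else if i = 1 ∧ j = 4 then b5 else
  decide (i = j)

private noncomputable def _root_.Cfsg.Agent.KO258775d.k34 : type_of% @Bool.instDecidableForallOfDecidablePred := @(fun x0 x1 => @Decidable.rec.{1} _ @(fun x2 => @Decidable ((x3 : @Bool) → @x0 @x3)) @(fun x2 => @Decidable.isFalse _ (@Bool.instDecidableForallOfDecidablePred._proof_1 @x0 @x2)) @(fun x2 => @Decidable.rec.{1} _ @(fun x3 => @Decidable ((x4 : @Bool) → @x0 @x4)) @(fun x3 => @Decidable.isFalse _ (@Bool.instDecidableForallOfDecidablePred._proof_2 @x0 @x3)) @(fun x3 => @Decidable.isTrue _ (@Bool.instDecidableForallOfDecidablePred._proof_3 @x0 @x2 @x3)) (@x1 @Bool.false)) (@x1 @Bool.true))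
private theorem _root_.Cfsg.Agent.KO258775d.e34 : @Bool.instDecidableForallOfDecidablePred = @_root_.Cfsg.Agent.KO258775d.k34 := by delta _root_.Cfsg.Agent.KO258775d.k34; rfl'
private noncomputable def _root_.Cfsg.Agent.KO258775d.oEq.{ku} (α : Sort ku) (a b : Nat) (f t : α) : α := @Decidable.rec (a = b) (fun _ => α) (fun _ => f) (fun _ => t) (Nat.decEq a b)
private noncomputable def _root_.Cfsg.Agent.KO258775d.k35.{ku} (α : Sort ku) (a b : Nat) (f t : α) : α := @Bool.rec (fun _ => α) f t (Nat.beq a b)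
private theorem _root_.Cfsg.Agent.KO258775d.e35.{ku} : @_root_.Cfsg.Agent.KO258775d.oEq.{ku} = @_root_.Cfsg.Agent.KO258775d.k35.{ku} := funext fun α => funext fun a => funext fun b => funext fun f => funext fun t => by delta _root_.Cfsg.Agent.KO258775d.oEq _root_.Cfsg.Agent.KO258775d.k35; cases h : Nat.beq a b <;> cases Nat.decEq a b <;> rename_i g <;> first | rfl | exact absurd g (Nat.ne_of_beq_eq_false h) | exact absurd (Nat.eq_of_beq_eq_true h) g
private noncomputable def _root_.Cfsg.Agent.KO258775d.k36 : type_of% @Nat.testBit := @(fun x0 x1 => @Bool.rec.{1} @(fun x2 => @Bool) @Bool.true @Bool.false (@Cfsg.Agent.KO258775d.k35.{1} @Bool (@Nat.land (nat_lit 1) (@Nat.shiftRight @x0 @x1)) (nat_lit 0) @Bool.false @Bool.true))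
private theorem _root_.Cfsg.Agent.KO258775d.e36 : @Nat.testBit = @_root_.Cfsg.Agent.KO258775d.k36 := by delta _root_.Cfsg.Agent.KO258775d.k36; rewrite [← Cfsg.Agent.KO258775d.e35.{1}]; rfl'
private noncomputable def _root_.Cfsg.Agent.KO258775d.k37 : (by first | exact type_of% @Cfsg.Agent.Held.Pattern.vc | exact Unit : Sort _) := by first | (refine @Subtype.val _ (fun g => @Cfsg.Agent.Held.Pattern.vc = @g) (@Subtype.mk _ _ (@(fun x0 => @Nat.add (@Nat.add (nat_lit 17043521) (@Nat.mul (nat_lit 4) (@Nat.mod @x0 (nat_lit 8)))) (@Nat.mul (nat_lit 128) (@Nat.div @x0 (nat_lit 8))))) ?_); rfl') | exact @Cfsg.Agent.Held.Pattern.vc | exact ()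
private theorem _root_.Cfsg.Agent.KO258775d.e37 : (by first | exact @Cfsg.Agent.Held.Pattern.vc = @_root_.Cfsg.Agent.KO258775d.k37 | exact True : Prop) := by first | (delta _root_.Cfsg.Agent.KO258775d.k37; exact @Subtype.property _ (fun g => @Cfsg.Agent.Held.Pattern.vc = @g) _) | rfl | trivial

theorem testBit_tab : ∀ (b0 b1 b2 b3 b4 b5 : Bool) (i j : Fin 5),
    (vc (ix b0 b1 b2 b3 b4 b5)).testBit (5 * i + j) = tab b0 b1 b2 b3 b4 b5 i j := by
  (first | (refine of_decide_eq_true ?_; rewrite [Cfsg.Agent.KO258775d.e5, Cfsg.Agent.KO258775d.e34, Cfsg.Agent.KO258775d.e7, Cfsg.Agent.KO258775d.e10, Cfsg.Agent.KO258775d.e36, Cfsg.Agent.KO258775d.e37]; decide +kernel) | decide +kernel)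

private noncomputable def _root_.Cfsg.Agent.KO258775d.k11 : type_of% @Nat.decEq := @(fun x0 x1 => @Bool.rec.{1} @(fun x2 => (@Eq.{1} _ (@Nat.beq @x0 @x1) @x2) → @Decidable (@Eq.{1} _ @x0 @x1)) @(fun x2 => @Decidable.isFalse _ (@Nat.ne_of_beq_eq_false _ _ @x2)) @(fun x2 => @Decidable.isTrue _ (@Nat.eq_of_beq_eq_true _ _ @x2)) (@Nat.beq @x0 @x1) (@Eq.refl.{1} _ (@Nat.beq @x0 @x1)))
private theorem _root_.Cfsg.Agent.KO258775d.e11 : @Nat.decEq = @_root_.Cfsg.Agent.KO258775d.k11 := by delta _root_.Cfsg.Agent.KO258775d.k11; rfl'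
private noncomputable def _root_.Cfsg.Agent.KO258775d.k12 : type_of% @instDecidableEqFin := @(fun x0 x1 x2 => @Decidable.rec.{1} _ @(fun x3 => @Decidable (@Eq.{1} _ @x1 @x2)) @(fun x3 => @Decidable.isFalse _ (@instDecidableEqFin._proof_1 @x0 @x1 @x2 @x3)) @(fun x3 => @Decidable.isTrue _ (@Fin.eq_of_val_eq _ _ _ @x3)) (@Cfsg.Agent.KO258775d.k11 (@Fin.val _ @x1) (@Fin.val _ @x2)))
private theorem _root_.Cfsg.Agent.KO258775d.e12 : @instDecidableEqFin = @_root_.Cfsg.Agent.KO258775d.k12 := by delta _root_.Cfsg.Agent.KO258775d.k12; rewrite [← Cfsg.Agent.KO258775d.e11]; rfl'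
private noncomputable def _root_.Cfsg.Agent.KO258775d.oLe.{ku} (α : Sort ku) (a b : Nat) (f t : α) : α := @Decidable.rec (@LE.le Nat instLENat a b) (fun _ => α) (fun _ => f) (fun _ => t) (Nat.decLe a b)
private noncomputable def _root_.Cfsg.Agent.KO258775d.k13.{ku} (α : Sort ku) (a b : Nat) (f t : α) : α := @Bool.rec (fun _ => α) f t (Nat.ble a b)
private theorem _root_.Cfsg.Agent.KO258775d.e13.{ku} : @_root_.Cfsg.Agent.KO258775d.oLe.{ku} = @_root_.Cfsg.Agent.KO258775d.k13.{ku} := funext fun α => funext fun a => funext fun b => funext fun f => funext fun t => by delta _root_.Cfsg.Agent.KO258775d.oLe _root_.Cfsg.Agent.KO258775d.k13; cases h : Nat.ble a b <;> cases Nat.decLe a b <;> rename_i g <;> first | rfl | exact absurd (h.symm.trans (Nat.ble_eq_true_of_le g)) Bool.false_ne_true | exact absurd (Nat.le_of_ble_eq_true h) g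
private noncomputable def _root_.Cfsg.Agent.KO258775d.k15 : (by first | exact type_of% @Cfsg.Agent.SporadicRecognition.HeldModel.PV1 | exact Unit : Sort _) := by first | (refine @Subtype.val _ (fun g => @Cfsg.Agent.SporadicRecognition.HeldModel.PV1 = @g) (@Subtype.mk _ _ (@(fun x0 x1 => @Bool.rec.{1} @(fun x2 => @Bool) @Bool.false (@Cfsg.Agent.KO258775d.k13.{1} @Bool (@Nat.mod (nat_lit 2) (nat_lit 5)) (@Fin.val _ @x1) @Bool.false @Bool.true) (@Cfsg.Agent.KO258775d.k13.{1} @Bool (@Fin.val _ @x0) (@Nat.mod (nat_lit 1) (nat_lit 5)) @Bool.false @Bool.true))) ?_); rewrite [← Cfsg.Agent.KO258775d.e13.{1}]; rfl') | exact @Cfsg.Agent.SporadicRecognition.HeldModel.PV1 | exact ()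
private theorem _root_.Cfsg.Agent.KO258775d.e15 : (by first | exact @Cfsg.Agent.SporadicRecognition.HeldModel.PV1 = @_root_.Cfsg.Agent.KO258775d.k15 | exact True : Prop) := by first | (delta _root_.Cfsg.Agent.KO258775d.k15; exact @Subtype.property _ (fun g => @Cfsg.Agent.SporadicRecognition.HeldModel.PV1 = @g) _) | rfl | trivial

theorem ve_surj {w : L5} (hw : w ∈ V1) : ∃ a, ve a = w := by
  refine ⟨ix (ent w 0 2) (ent w 0 3) (ent w 0 4) (ent w 1 2) (ent w 1 3) (ent w 1 4), ?_⟩
  apply cd_inj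
  rw [cd_ve]
  apply toMat_inj (n := 5)
  · have := vc_lt (ix (ent w 0 2) (ent w 0 3) (ent w 0 4) (ent w 1 2) (ent w 1 3) (ent w 1 4))
    simpa [Nat.blt_eq] using this
  · exact cd_lt w
  rw [toMat_cd]
  ext i j
  rw [toMat_apply, testBit_tab, ← bz_ent]
  congr 1
  cases h : PV1 i j with
  | false =>
    have h1 := hw i j h
    rw [Matrix.sub_apply, sub_eq_zero] at h1
    have h0 : ∀ i j : Fin 5, decide ((1 : M5) i j = 1) = decide (i = j) := by decide
    have h2 : ent w i j = decide (i = j) := by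
      unfold ent
      rw [h1, h0]
    rw [h2]
    have h3 : ∀ (b0 b1 b2 b3 b4 b5 : Bool) (i j : Fin 5), PV1 i j = false →
      tab b0 b1 b2 b3 b4 b5 i j = decide (i = j) := by (first | (refine of_decide_eq_true ?_; rewrite [Cfsg.Agent.KO258775d.e5, Cfsg.Agent.KO258775d.e34, Cfsg.Agent.KO258775d.e7, Cfsg.Agent.KO258775d.e8, Cfsg.Agent.KO258775d.e10, Cfsg.Agent.KO258775d.e15, Cfsg.Agent.KO258775d.e12]; decide +kernel) | decide +kernel)
    exact h3 _ _ _ _ _ _ i j h
  | true =>
    have h3 : ∀ i j : Fin 5, PV1 i j = true → (i = 0 ∧ j = 2) ∨ (i = 0 ∧ j = 3) ∨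
      (i = 0 ∧ j = 4) ∨ (i = 1 ∧ j = 2) ∨ (i = 1 ∧ j = 3) ∨ (i = 1 ∧ j = 4) := by decide
    rcases h3 i j h with ⟨rfl, rfl⟩ | ⟨rfl, rfl⟩ | ⟨rfl, rfl⟩ | ⟨rfl, rfl⟩ | ⟨rfl, rfl⟩ |
      ⟨rfl, rfl⟩ <;> rfl

theorem xor_lt (a b : Fin 64) : Nat.xor a b < 64 := Nat.xor_lt_two_pow (n := 6) a.2 b.2

/-- product of indices -/
def xr (a b : Fin 64) : Fin 64 := ⟨Nat.xor a b, xor_lt a b⟩

theorem mul_vc : ∀ a b : Fin 64, Nat.beq (mul 5 (vc a) (vc b)) (vc (xr a b)) = true := by
  have h : Code.allb 64 (fun a => Code.allb 64 (fun b =>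
      Nat.beq (mu5 (vc a) (vc b)) (vc (Nat.xor a b)))) = true := by decide +kernel
  intro a b
  rewrite [mul5_eq]
  exact Code.of_allb (Code.of_allb h a a.2) b b.2

theorem ve_mul (a b : Fin 64) : ve a * ve b = ve (xr a b) := by
  apply cd_inj
  rw [cd_mul, cd_ve, cd_ve, cd_ve]
  exact Nat.eq_of_beq_eq_true (mul_vc a b)

/-! ### Orbits -/

/-- generators of a subgroup of `N_CC(V1)` -/
def gen (k : Fin 5) : L5 :=
  match k with
  | 0 => x 0 1
  | 1 => x 2 3
  | 2 => x 3 2
  | 3 => x 2 4
  | 4 => x 3 4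

/-- their codes -/
def gc (k : Fin 5) : ℕ :=
  match k with
  | 0 => 17043523
  | 1 => 17051713
  | 2 => 17174593
  | 3 => 17059905
  | 4 => 17567809

theorem cd_gen (k : Fin 5) : cd (gen k) = gc k := by
  fin_cases k
  · show cd (x 0 1) = _; rw [cd_x]; decide +kernel
  · show cd (x 2 3) = _; rw [cd_x]; decide +kernel
  · show cd (x 3 2) = _; rw [cd_x]; decide +kernel
  · show cd (x 2 4) = _; rw [cd_x]; decide +kernel
  · show cd (x 3 4) = _; rw [cd_x]; decide +kernel

theorem gen_mem_CC (k : Fin 5) : gen k ∈ CC := by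
  rw [mem_CC_iff, cd_gen]
  revert k; decide +kernel

theorem gen_sq (k : Fin 5) : gen k * gen k = 1 := by
  apply cd_inj
  rw [cd_mul, cd_gen, cd_one]
  revert k; decide +kernel

theorem act_lt (k : Fin 5) (a : Fin 64) :
    Nat.add (Nat.mod (Nat.div (mul 5 (mul 5 (gc k) (vc a)) (gc k)) 4) 8)
      (Nat.mul 8 (Nat.mod (Nat.div (mul 5 (mul 5 (gc k) (vc a)) (gc k)) 128) 8)) < 64 := by
  have h1 := Nat.mod_lt (Nat.div (mul 5 (mul 5 (gc k) (vc a)) (gc k)) 4) (y := 8) (by norm_num)
  have h2 := Nat.mod_lt (Nat.div (mul 5 (mul 5 (gc k) (vc a)) (gc k)) 128) (y := 8) (by norm_num)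
  have h1' : Nat.mod (Nat.div (mul 5 (mul 5 (gc k) (vc a)) (gc k)) 4) 8 < 8 := h1
  have h2' : Nat.mod (Nat.div (mul 5 (mul 5 (gc k) (vc a)) (gc k)) 128) 8 < 8 := h2
  show Nat.mod (Nat.div (mul 5 (mul 5 (gc k) (vc a)) (gc k)) 4) 8 +
    8 * Nat.mod (Nat.div (mul 5 (mul 5 (gc k) (vc a)) (gc k)) 128) 8 < 64
  omega

/-- action of a generator on the indices -/
def act (k : Fin 5) (a : Fin 64) : Fin 64 := ⟨_, act_lt k a⟩

theorem act_code : ∀ (k : Fin 5) (a : Fin 64),
    Nat.beq (mul 5 (mul 5 (gc k) (vc a)) (gc k)) (vc (act k a)) = true := by decide +kernel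

theorem gen_act (k : Fin 5) (a : Fin 64) : gen k * ve a * gen k = ve (act k a) := by
  apply cd_inj
  rw [cd_mul, cd_mul, cd_ve, cd_ve, cd_gen]
  exact Nat.eq_of_beq_eq_true (act_code k a)

/-- class of an index: `0 = {z}`, `1 = a1`, `2 = a2`, `3 = b`, `4 = d`, `5 = d'`, `6 = e1`,
`7 = {1}` -/
def cl (a : ℕ) : ℕ := Nat.land (Nat.shiftRight 3809372664641914846921036728085723624243487903415930225231 (Nat.mul 3 a)) 7

theorem rp_lt (i : ℕ) : Nat.land (Nat.shiftRight 1181259268228 (Nat.mul 6 i)) 63 < 64 :=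
  Nat.lt_of_le_of_lt Nat.and_le_right (by norm_num)

/-- representatives of the classes -/
def rp (i : ℕ) : Fin 64 := ⟨Nat.land (Nat.shiftRight 1181259268228 (Nat.mul 6 i)) 63, rp_lt i⟩

/-- words conjugating an element to the representative -/
def wds : List (List (Fin 5)) := [[], [1, 2], [], [2], [], [3, 1, 2], [4], [3, 2], [], [0], [1, 2, 0], [1, 2], [], [0], [4, 1, 2, 0], [4, 1, 2], [2, 1], [], [2, 1, 0], [0], [2, 1], [3], [2, 1, 0], [3, 0], [1], [2], [2, 0], [1, 0], [1], [2, 3], [2, 3, 0], [1, 0], [], [1, 2], [], [2], [0], [1, 2, 0], [0], [2, 0], [3], [3, 0], [3, 1, 2, 0], [1, 4, 2], [3], [3, 0], [1, 4, 2, 0], [3, 1, 2], [4, 2, 1], [4], [4, 2, 1, 0], [1, 4], [4, 2, 1], [4, 3], [4, 2, 1, 0], [4, 0], [3, 1], [4, 2], [3, 2, 0], [3, 1, 0], [3, 1], [3, 2], [4, 2, 0], [3, 1, 0]]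

theorem wds_check : ∀ a : Fin 64,
    (wds.getD a []).foldl (fun b k => act k b) a = rp (cl a) := by decide +kernel

/-! ### Fusion -/

section Main

variable {G : Type*} [Group G] {z : G} {ι : CC →* G}

/-- the element of `V1` with index `a` as an element of the model -/
def vC (a : Fin 64) : CC := ⟨ve a, V1_le_CC (ve_mem a)⟩

/-- `z` is conjugate to the element of `V1` with index `a`. -/
def F (z : G) (ι : CC →* G) (a : Fin 64) : Prop := IsConj z (ι (vC a))

theorem F_act (k : Fin 5) (a : Fin 64) : F z ι (act k a) ↔ F z ι a := by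
  let g : CC := ⟨gen k, gen_mem_CC k⟩
  have hg : g⁻¹ = g := by
    rw [inv_eq_iff_mul_eq_one]
    exact Subtype.ext (gen_sq k)
  have h1 : vC (act k a) = g * vC a * g⁻¹ := by
    rw [hg]
    exact Subtype.ext (gen_act k a).symm
  have h2 : IsConj (ι (vC a)) (ι (vC (act k a))) := by
    rw [isConj_iff]
    refine ⟨ι g, ?_⟩
    rw [h1, map_mul, map_mul, map_inv]
  exact ⟨fun h => IsConj.trans h h2.symm, fun h => IsConj.trans h h2⟩

theorem F_foldl (w : List (Fin 5)) (a : Fin 64) :
    F z ι (w.foldl (fun b k => act k b) a) ↔ F z ι a := by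
  induction w generalizing a with
  | nil => exact Iff.rfl
  | cons k w ih => rw [List.foldl_cons, ih, F_act]

theorem F_cl (a : Fin 64) : F z ι a ↔ F z ι (rp (cl a)) := by
  rw [← wds_check a, F_foldl]

/-- number of pairs of conjugates with product of index `b`, for the set of classes given by the
bits of `m` -/
def cnt (m : ℕ) (b : Fin 64) : ℕ :=
  (Finset.univ.filter fun a : Fin 64 =>
    (m.testBit (cl a) && m.testBit (cl (xr a b))) = true).card

private noncomputable def _root_.Cfsg.Agent.KO258775d.k17 : type_of% @instDecidableEqNat := @Cfsg.Agent.KO258775d.k11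
private theorem _root_.Cfsg.Agent.KO258775d.e17 : @instDecidableEqNat = @_root_.Cfsg.Agent.KO258775d.k17 := by delta _root_.Cfsg.Agent.KO258775d.k17; rewrite [← Cfsg.Agent.KO258775d.e11]; rfl'
private noncomputable def _root_.Cfsg.Agent.KO258775d.k44 : (by first | exact type_of% @Cfsg.Agent.Held.Pattern.rp | exact Unit : Sort _) := by first | (refine @Subtype.val _ (fun g => @Cfsg.Agent.Held.Pattern.rp = @g) (@Subtype.mk _ _ (@(fun x0 => @Fin.mk _ (@Nat.land (@Nat.shiftRight (nat_lit 1181259268228) (@Nat.mul (nat_lit 6) @x0)) (nat_lit 63)) (@Cfsg.Agent.Held.Pattern.rp_lt @x0))) ?_); rfl') | exact @Cfsg.Agent.Held.Pattern.rp | exact ()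
private theorem _root_.Cfsg.Agent.KO258775d.e44 : (by first | exact @Cfsg.Agent.Held.Pattern.rp = @_root_.Cfsg.Agent.KO258775d.k44 | exact True : Prop) := by first | (delta _root_.Cfsg.Agent.KO258775d.k44; exact @Subtype.property _ (fun g => @Cfsg.Agent.Held.Pattern.rp = @g) _) | rfl | trivial
private noncomputable def _root_.Cfsg.Agent.KO258775d.k53 : type_of% @instDecidableOr := @(fun x0 x1 x2 x3 => @Decidable.rec.{1} _ @(fun x4 => @Decidable (@Or @x0 @x1)) @(fun x4 => @Decidable.rec.{1} _ @(fun x5 => @Decidable (@Or @x0 @x1)) @(fun x5 => @Decidable.isFalse _ (@instDecidableOr._proof_1 _ _ @x4 @x5)) @(fun x5 => @Decidable.isTrue _ (@Or.inr _ _ @x5)) @x3) @(fun x4 => @Decidable.isTrue _ (@Or.inl _ _ @x4)) @x2)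
private theorem _root_.Cfsg.Agent.KO258775d.e53 : @instDecidableOr = @_root_.Cfsg.Agent.KO258775d.k53 := by delta _root_.Cfsg.Agent.KO258775d.k53; rfl'

theorem pattern_check : ∀ m : Fin 128, (m : ℕ).testBit 0 = true → (m : ℕ).testBit 3 = false →
    (∀ i : Fin 7, (m : ℕ).testBit i = true → cnt m (rp i) = cnt m (rp 0)) →
    m = 1 ∨ m = 3 ∨ m = 5 ∨ m = 33 ∨ m = 23 ∨ m = 87 := by
  (first | (refine of_decide_eq_true ?_; rewrite [Cfsg.Agent.KO258775d.e5, Cfsg.Agent.KO258775d.e7, Cfsg.Agent.KO258775d.e8, Cfsg.Agent.KO258775d.e10, Cfsg.Agent.KO258775d.e36, Cfsg.Agent.KO258775d.e17, Cfsg.Agent.KO258775d.e44, Cfsg.Agent.KO258775d.e53, Cfsg.Agent.KO258775d.e12]; decide +kernel) | decide +kernel)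

/-- the number of conjugates `w` of `z` in `V` such that `w * v` is also a conjugate of `z`. -/
noncomputable def num (z : G) (V : Subgroup G) (v : G) : ℕ :=
  Nat.card {w : G // w ∈ V ∧ IsConj z w ∧ IsConj z (w * v)}

theorem isConj_conj {z w : G} (n : G) (h : IsConj z w) : IsConj z (n * w * n⁻¹) :=
  h.trans (isConj_iff.2 ⟨n, rfl⟩)

theorem num_conj (V : Subgroup G) (n v : G) (hn : ∀ w ∈ V, n * w * n⁻¹ ∈ V)
    (hn' : ∀ w ∈ V, n⁻¹ * w * n ∈ V) (hv : n * z * n⁻¹ = v) : num z V z = num z V v := by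
  subst hv
  refine Nat.card_congr ⟨fun w => ⟨n * w * n⁻¹, hn _ w.2.1, isConj_conj n w.2.2.1, ?_⟩,
    fun w => ⟨n⁻¹ * w * n, hn' _ w.2.1, ?_, ?_⟩, ?_, ?_⟩
  · have := isConj_conj n w.2.2.2
    convert this using 1
    group
  · have := isConj_conj n⁻¹ w.2.2.1
    rwa [inv_inv] at this
  · have := isConj_conj n⁻¹ w.2.2.2
    rw [inv_inv] at this
    convert this using 1
    group
  · intro w; apply Subtype.ext; show n⁻¹ * (n * w * n⁻¹) * n = w; group
  · intro w; apply Subtype.ext; show n * (n⁻¹ * w * n) * n⁻¹ = w; group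

theorem vC_mul (a b : Fin 64) : vC a * vC b = vC (xr a b) := Subtype.ext (ve_mul a b)

theorem num_eq (h : Hyp z ι) (m : ℕ) (hm : ∀ a, F z ι a ↔ m.testBit (cl a) = true) (b : Fin 64) :
    num z (im ι V1) (ι (vC b)) = cnt m b := by
  have h1 : ∀ a : Fin 64, (m.testBit (cl a) && m.testBit (cl (xr a b))) = true ↔
      (F z ι a ∧ F z ι (xr a b)) := by
    intro a
    rw [Bool.and_eq_true, hm, hm]
  rw [cnt, ← Fintype.card_subtype, ← Nat.card_eq_fintype_card, num]
  symm
  refine Nat.card_congr (Equiv.ofBijective (fun a => ⟨ι (vC a), (mem_im.2 ⟨_, ve_mem _, rfl⟩ : _),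
    ((h1 a).1 a.2).1, ?_⟩) ⟨?_, ?_⟩)
  · have := ((h1 a).1 a.2).2
    rw [F, ← vC_mul, map_mul] at this
    exact this
  · intro a a' e
    have e1 := h.inj (congrArg Subtype.val e)
    exact Subtype.ext (ve_inj (congrArg Subtype.val e1))
  · rintro ⟨w, hw, hw1, hw2⟩
    obtain ⟨u, hu, rfl⟩ := mem_im.1 hw
    obtain ⟨a, ha⟩ := ve_surj hu
    have e : vC a = u := Subtype.ext ha
    refine ⟨⟨a, (h1 a).2 ⟨?_, ?_⟩⟩, ?_⟩
    · rw [F, e]; exact hw1
    · rw [F, ← vC_mul, map_mul, e]; exact hw2
    · apply Subtype.ext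
      show ι (vC a) = ι u
      rw [e]

theorem pack : ∀ c0 c1 c2 c3 c4 c5 c6 : Bool, ∃ m : Fin 128,
    (m : ℕ).testBit 0 = c0 ∧ (m : ℕ).testBit 1 = c1 ∧ (m : ℕ).testBit 2 = c2 ∧
    (m : ℕ).testBit 3 = c3 ∧ (m : ℕ).testBit 4 = c4 ∧ (m : ℕ).testBit 5 = c5 ∧
    (m : ℕ).testBit 6 = c6 := by
  intro c0 c1 c2 c3 c4 c5 c6
  refine ⟨⟨c0.toNat + 2 * c1.toNat + 4 * c2.toNat + 8 * c3.toNat + 16 * c4.toNat +
    32 * c5.toNat + 64 * c6.toNat, ?_⟩, ?_⟩
  · revert c0 c1 c2 c3 c4 c5 c6; decide
  · revert c0 c1 c2 c3 c4 c5 c6; decide +kernel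

theorem cl_lt : ∀ a : Fin 64, cl a < 8 ∧ (cl a = 7 → a = 0) := by decide +kernel

theorem cl_rp : ∀ i : Fin 7, cl (rp i) = i := by decide +kernel

theorem vC_four : vC 4 = zC := by
  apply Subtype.ext
  apply cd_inj
  show cd (ve 4) = cd zz
  rw [cd_ve, cd_zz]; decide +kernel

theorem vC_zero : vC 0 = 1 := by
  apply Subtype.ext
  apply cd_inj
  show cd (ve 0) = cd 1
  rw [cd_ve, cd_one]; decide +kernel

theorem z_ne_one (h : Hyp z ι) : z ≠ 1 := by
  rw [← h.map_zz, ← map_one ι]
  intro e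
  exact zz_ne_one (congrArg Subtype.val (h.inj e))

theorem exists_m (h : Hyp z ι) :
    ∃ m : Fin 128, ∀ a : Fin 64, F z ι a ↔ (m : ℕ).testBit (cl a) = true := by
  classical
  obtain ⟨m, h0, h1, h2, h3, h4, h5, h6⟩ := pack (decide (F z ι (rp 0))) (decide (F z ι (rp 1)))
    (decide (F z ι (rp 2))) (decide (F z ι (rp 3))) (decide (F z ι (rp 4)))
    (decide (F z ι (rp 5))) (decide (F z ι (rp 6)))
  refine ⟨m, fun a => ?_⟩
  have hc := cl_lt a
  rw [F_cl]
  have key : ∀ c : ℕ, c < 8 → c ≠ 7 → (F z ι (rp c) ↔ (m : ℕ).testBit c = true) := by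
    intro c hc hc7
    interval_cases c
    · rw [h0]; exact decide_eq_true_iff.symm
    · rw [h1]; exact decide_eq_true_iff.symm
    · rw [h2]; exact decide_eq_true_iff.symm
    · rw [h3]; exact decide_eq_true_iff.symm
    · rw [h4]; exact decide_eq_true_iff.symm
    · rw [h5]; exact decide_eq_true_iff.symm
    · rw [h6]; exact decide_eq_true_iff.symm
    · exact absurd rfl hc7
  by_cases h7 : cl a = 7
  · rw [h7]
    have e1 : rp 7 = 0 := by decide +kernel
    have e2 : (m : ℕ).testBit 7 = false := Nat.testBit_lt_two_pow (lt_of_lt_of_le m.2 (by norm_num))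
    rw [e1, e2]
    constructor
    · intro hF
      rw [F, vC_zero, map_one] at hF
      exact absurd (isConj_one_left.1 hF) (z_ne_one h)
    · intro hF; exact absurd hF (by decide)
  · exact key _ hc.1 h7

/-- **Fusion pattern.** If fusion of `z` in `V1` is controlled by `N_G(V1)` and `z` is not
conjugate to the element `b` (index `34`) then the set of classes of `V1` consisting of conjugates
of `z` is one of six. -/
theorem pattern [Finite G] (h : Hyp z ι)
    (hctl : ∀ b : Fin 64, F z ι b → ∃ n : G, n * z * n⁻¹ = ι (vC b) ∧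
      ∀ w ∈ im ι V1, n * w * n⁻¹ ∈ im ι V1) (hb : ¬ F z ι 34) :
    ∃ m : Fin 128, (∀ a : Fin 64, F z ι a ↔ (m : ℕ).testBit (cl a) = true) ∧
      (m = 1 ∨ m = 3 ∨ m = 5 ∨ m = 33 ∨ m = 23 ∨ m = 87) := by
  obtain ⟨m, hm⟩ := exists_m h
  refine ⟨m, hm, pattern_check m ?_ ?_ ?_⟩
  · have h1 := (hm 4).1 (by rw [F, vC_four, h.map_zz])
    have h2 : cl (4 : Fin 64) = 0 := by decide +kernel
    rwa [h2] at h1
  · have h1 : ¬ (m : ℕ).testBit (cl (34 : Fin 64)) = true := fun e => hb ((hm 34).2 e)
    have h2 : cl (34 : Fin 64) = 3 := by decide +kernel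
    rw [h2] at h1
    simpa using h1
  · intro i hi
    have hF : F z ι (rp i) := by
      rw [hm, cl_rp]; exact hi
    obtain ⟨n, hn, hn1⟩ := hctl _ hF
    have hn2 : ∀ w ∈ im ι V1, n⁻¹ * w * n ∈ im ι V1 := by
      intro w hw
      have hle : (im ι V1).map (MulAut.conj n).toMonoidHom ≤ im ι V1 := by
        rintro _ ⟨a, ha, rfl⟩
        exact hn1 a ha
      have heq := Subgroup.eq_of_le_of_card_ge hle (by
        rw [Subgroup.card_map_of_injective (MulEquiv.injective _)])
      rw [← heq] at hw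
      obtain ⟨a, ha, rfl⟩ := hw
      have : n⁻¹ * (MulAut.conj n).toMonoidHom a * n = a := by
        show n⁻¹ * (n * a * n⁻¹) * n = a
        group
      rw [this]; exact ha
    rw [← num_eq h m hm, ← num_eq h m hm, ← num_conj (im ι V1) n _ hn1 hn2 hn]
    have e0 : rp 0 = 4 := by decide +kernel
    rw [e0, vC_four, h.map_zz]

end Main

end Cfsg.Agent.Held.Pattern
end

-- part: Held/PFus
section
/-!
# The case that `z` is fused into only one of `R1`, `R2`
-/

set_option autoImplicit false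

namespace Cfsg.Agent.Held.PFus

open Matrix Cfsg.Agent.SporadicRecognition.HeldModel Cfsg.Agent.Lib.F2Mat Cfsg.Agent.Held.NoBModel
  Cfsg.Agent.Held.Pattern

theorem R1_conj {p u : L5} (hp : p ∈ CC) (hu : u ∈ R1) : p * u * p⁻¹ ∈ R1 := by
  rw [R1, mem_pat] at hu ⊢
  rw [CC_eq] at hp
  exact conj_pat (P' := PC) (by decide) (by (first | (refine of_decide_eq_true ?_; rewrite [Cfsg.Agent.KO258775d.e5, Cfsg.Agent.KO258775d.e7, Cfsg.Agent.KO258775d.e8, Cfsg.Agent.KO258775d.e10]; decide +kernel) | decide +kernel)) (by (first | (refine of_decide_eq_true ?_; rewrite [Cfsg.Agent.KO258775d.e5, Cfsg.Agent.KO258775d.e7, Cfsg.Agent.KO258775d.e8, Cfsg.Agent.KO258775d.e10]; decide +kernel) | decide +kernel)) hp hu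

theorem ve_R1 : ∀ a : Fin 64, cl a = 0 ∨ cl a = 1 → inP (msk' PR1) (vc a) = true := by
  decide +kernel

theorem ve_R2 : ∀ a : Fin 64, cl a = 0 ∨ cl a = 2 → inP (msk' PR2) (vc a) = true := by
  decide +kernel

theorem cd_xx (i j k l : Fin 5) (h : i ≠ j) (h' : k ≠ l) : cd (x i j h * x k l h') =
    mul 5 (_root_.Cfsg.Agent.Lib.F2Mat.one 5 + 2 ^ (5 * (i : ℕ) + j)) (_root_.Cfsg.Agent.Lib.F2Mat.one 5 + 2 ^ (5 * (k : ℕ) + l)) := by
  rw [cd_mul, cd_x, cd_x]

theorem ve_2 : ve 2 = x 0 3 := by apply cd_inj; rw [cd_ve, cd_x]; decide +kernel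
theorem ve_32 : ve 32 = x 1 4 := by apply cd_inj; rw [cd_ve, cd_x]; decide +kernel
theorem ve_34 : ve 34 = bb := by apply cd_inj; rw [cd_ve, bb, cd_xx]; decide +kernel
theorem vC_34 : vC 34 = bC := Subtype.ext ve_34

theorem tau_bb : tau bb = bb := by
  rw [bb, map_mul, tau_x, tau_x]
  show x 1 4 * x 0 3 = x 0 3 * x 1 4
  apply cd_inj
  rw [cd_xx, cd_xx]; decide +kernel

theorem tauC_bC : tauC bC = bC := Subtype.ext tau_bb

section Main

variable {G : Type*} [Group G] {z : G} {ι : CC →* G}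

theorem mem_CC_of_x (i j : Fin 5) (h : i ≠ j) (hij : inCC (_root_.Cfsg.Agent.Lib.F2Mat.one 5 + 2 ^ (5 * (i : ℕ) + j)) = true) :
    x i j h ∈ CC := by
  rw [mem_CC_iff, cd_x]; exact hij

/-- `x 0 3` as an element of the model -/
def x03C : CC := ⟨x 0 3, mem_CC_of_x 0 3 (by decide) (by decide +kernel)⟩
/-- `x 1 4` as an element of the model -/
def x14C : CC := ⟨x 1 4, mem_CC_of_x 1 4 (by decide) (by decide +kernel)⟩

theorem vC_2 : vC 2 = x03C := Subtype.ext ve_2
theorem vC_32 : vC 32 = x14C := Subtype.ext ve_32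

theorem tau_x03 : tauC x03C = x14C := Subtype.ext (tau_x 0 3 (by decide))
theorem tau_x14 : tauC x14C = x03C := Subtype.ext (tau_x 1 4 (by decide))

/-- If `z` is fused to `x 0 3` but not to `x 1 4`, then all conjugates of `z` in the image of the
model lie in the image of `R1`. -/
theorem pcase' [Finite G] (h : Hyp z ι)
    (hctl1 : ∀ b : Fin 64, F z ι b → ∃ n : G, n * z * n⁻¹ = ι (vC b) ∧
      ∀ w ∈ im ι V1, n * w * n⁻¹ ∈ im ι V1)
    (hctl2 : ∀ b : Fin 64, F z (ι.comp tauC) b → ∃ n : G, n * z * n⁻¹ = (ι.comp tauC) (vC b) ∧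
      ∀ w ∈ im (ι.comp tauC) V1, n * w * n⁻¹ ∈ im (ι.comp tauC) V1)
    (hb : ¬ IsConj z (ι bC))
    (hrep : ∀ u : CC, u * u = 1 → ∃ g : CC, ((g * u * g⁻¹ : CC) : L5) ∈ V1 ∨
      ((g * u * g⁻¹ : CC) : L5) ∈ V2)
    (h1 : IsConj z (ι x03C)) (h2 : ¬ IsConj z (ι x14C)) :
    ∀ u : CC, IsConj z (ι u) → (u : L5) ∈ R1 := by
  obtain ⟨m, hm, hm'⟩ := pattern h hctl1 (by rw [F, vC_34]; exact hb)
  obtain ⟨k, hk, hk'⟩ := pattern h.tau hctl2 (by
    rw [F, vC_34]
    show ¬ IsConj z (ι (tauC bC))
    rw [tauC_bC]; exact hb)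
  -- the patterns
  have hm3 : m = 3 := by
    have e1 : (m : ℕ).testBit 1 = true := by
      have := (hm 2).1 (by rw [F, vC_2]; exact h1)
      rwa [show cl (2 : Fin 64) = 1 by decide +kernel] at this
    have e2 : (m : ℕ).testBit 2 ≠ true := by
      intro e
      apply h2
      have := (hm 32).2 (by rw [show cl (32 : Fin 64) = 2 by decide +kernel]; exact e)
      rwa [F, vC_32] at this
    rcases hm' with rfl | rfl | rfl | rfl | rfl | rfl
    · exact absurd e1 (by decide)
    · rfl
    · exact absurd e1 (by decide)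
    · exact absurd e1 (by decide)
    · exact absurd (by decide) e2
    · exact absurd (by decide) e2
  have hk5 : k = 5 := by
    have e1 : (k : ℕ).testBit 2 = true := by
      have := (hk 32).1 (by
        rw [F, vC_32]
        show IsConj z (ι (tauC x14C))
        rw [tau_x14]; exact h1)
      rwa [show cl (32 : Fin 64) = 2 by decide +kernel] at this
    have e2 : (k : ℕ).testBit 1 ≠ true := by
      intro e
      apply h2
      have := (hk 2).2 (by rw [show cl (2 : Fin 64) = 1 by decide +kernel]; exact e)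
      rw [F, vC_2] at this
      have h3 : (ι.comp tauC) x03C = ι (tauC x03C) := rfl
      rwa [h3, tau_x03] at this
    rcases hk' with rfl | rfl | rfl | rfl | rfl | rfl
    · exact absurd e1 (by decide)
    · exact absurd e1 (by decide)
    · rfl
    · exact absurd e1 (by decide)
    · exact absurd (by decide) e2
    · exact absurd (by decide) e2
  subst hm3 hk5
  -- the conclusion for elements of `V1` and `V2`
  have hV1 : ∀ u : CC, (u : L5) ∈ V1 → IsConj z (ι u) → (u : L5) ∈ R1 := by
    intro u hu hz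
    obtain ⟨a, ha⟩ := ve_surj hu
    have e : vC a = u := Subtype.ext ha
    have h3 := (hm a).1 (by rw [F, e]; exact hz)
    have h4 : ∀ a : Fin 64, (((3 : Fin 128) : ℕ).testBit (cl a) = true) →
        cl a = 0 ∨ cl a = 1 := by decide +kernel
    have h5 := ve_R1 a (h4 a h3)
    rw [← ha, R1, mem_pat, Pat_iff_inP, cd_ve]
    exact h5
  have hV2 : ∀ u : CC, (u : L5) ∈ V2 → IsConj z (ι u) → (u : L5) ∈ R1 := by
    intro u hu hz
    obtain ⟨a, ha⟩ := ve_surj (tau_mem_V1 hu)
    have e : vC a = tauC u := Subtype.ext ha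
    have h3 := (hk a).1 (by
      rw [F, e]
      show IsConj z (ι (tauC (tauC u)))
      rw [tauC_tauC]; exact hz)
    have h4 : ∀ a : Fin 64, (((5 : Fin 128) : ℕ).testBit (cl a) = true) →
        cl a = 0 ∨ cl a = 2 := by decide +kernel
    have h5 := ve_R2 a (h4 a h3)
    have h6 : tau (u : L5) ∈ R2 := by
      rw [← ha, R2, mem_pat, Pat_iff_inP, cd_ve]
      exact h5
    have h7 := tau_mem_R1 h6
    rwa [tau_tau] at h7
  -- every conjugate is conjugate into `V1 ∪ V2`
  intro u hu
  have hu2 : u * u = 1 := by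
    obtain ⟨g, hg⟩ := isConj_iff.1 hu
    have hz2 : z * z = 1 := by
      have : zC * zC = 1 := Subtype.ext (sq_V1 (by
        rw [V1, mem_pat, Pat_iff_inP]
        show inP _ (cd zz) = true
        rw [cd_zz]; decide +kernel))
      rw [← h.map_zz, ← map_mul, this, map_one]
    apply h.inj
    rw [map_mul, ← hg, map_one]
    calc g * z * g⁻¹ * (g * z * g⁻¹) = g * (z * z) * g⁻¹ := by group
      _ = 1 := by rw [hz2]; group
  obtain ⟨g, hg⟩ := hrep u hu2
  have hz' : IsConj z (ι (g * u * g⁻¹)) := by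
    rw [map_mul, map_mul, map_inv]
    exact isConj_conj _ hu
  have h8 : ((g * u * g⁻¹ : CC) : L5) ∈ R1 := by
    rcases hg with hg | hg
    · exact hV1 _ hg hz'
    · exact hV2 _ hg hz'
  have h9 := R1_conj (g⁻¹).2 h8
  have h10 : ((g⁻¹ : CC) : L5) * ((g * u * g⁻¹ : CC) : L5) * ((g⁻¹ : CC) : L5)⁻¹ = u := by
    push_cast
    group
  rwa [h10] at h9

end Main

end Cfsg.Agent.Held.PFus
end

-- part: Held/SideDef
section
/-!
# The interface `Side`, the mirror, and `Config` (statements only, no proofs needed)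

0-based indices: `X i j` is the code of `1 + E_ij`, `zc = X 0 4`.
-/

set_option autoImplicit false

namespace Cfsg.Agent.Held.SideDef

open Cfsg.Agent.Held.Code

/-- `g` if `t`, else `1` -/
def tw {G : Type*} [Group G] (t : Bool) (g : G) : G := cond t g 1

/-- One side of the amalgam: `y` has order 3, acts as a scalar of order 3 (on the columns 3, 4)
on `V2 = ⟨x_i3, x_i4⟩`; `t` is the twist. `a * y = y * b` means `y⁻¹ a y = b`. -/
structure Side {G : Type*} [Group G] (z : G) (ph : ℕ → G) (t : Bool) (y : G) : Prop where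
  cube : y ^ 3 = 1
  inv34 : ph (X 3 4) * y * ph (X 3 4) = y⁻¹
  a03 : ph (X 0 3) * y = y * ph (X 0 4)
  a13 : ph (X 1 3) * y = y * ph (X 1 4)
  a23 : ph (X 2 3) * y = y * ph (X 2 4)
  a04 : ph (X 0 4) * y = y * (ph (X 0 3) * ph (X 0 4))
  a14 : ph (X 1 4) * y = y * (ph (X 1 3) * ph (X 1 4))
  a24 : ph (X 2 4) * y = y * (ph (X 2 3) * ph (X 2 4))
  a01 : ph (X 0 1) * y = y * (ph (X 0 1) * tw t (ph (X 0 3) * ph (X 2 3)))
  a02 : ph (X 0 2) * y = y * (ph (X 0 2) * tw t (ph (X 0 3) * ph (X 1 3)))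
  a12 : (ph (X 1 2) * tw t z) * y = y * (ph (X 1 2) * tw t z)
  a21 : (ph (X 2 1) * tw t z) * y = y * (ph (X 2 1) * tw t z)

end Cfsg.Agent.Held.SideDef
end

-- part: Held/WordCore
section
/-!
# Words normalising a fixed point free element of order 3

Abstract core of the "word theorems": `P : ℕ → G` is an elementary abelian self-centralising
subgroup of order 64 (coded by `v < 64`, addition `^^^`), `y` has order 3 and acts fixed point
freely on it, every letter acts by a coded linear map and normalises `⟨y⟩`.  Then a word which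
acts trivially is trivial.
-/

set_option autoImplicit false

namespace Cfsg.Agent.Held.WordCore

variable {G : Type*} [Group G]

/-- row vector (6 bits) times matrix (36 bits) -/
def app (M v : ℕ) : ℕ :=
  Nat.xor (Nat.mul (Nat.land v 1) (Nat.land M 63))
  (Nat.xor (Nat.mul (Nat.land (Nat.shiftRight v 1) 1) (Nat.land (Nat.shiftRight M 6) 63))
  (Nat.xor (Nat.mul (Nat.land (Nat.shiftRight v 2) 1) (Nat.land (Nat.shiftRight M 12) 63))
  (Nat.xor (Nat.mul (Nat.land (Nat.shiftRight v 3) 1) (Nat.land (Nat.shiftRight M 18) 63))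
  (Nat.xor (Nat.mul (Nat.land (Nat.shiftRight v 4) 1) (Nat.land (Nat.shiftRight M 24) 63))
    (Nat.mul (Nat.land (Nat.shiftRight v 5) 1) (Nat.land (Nat.shiftRight M 30) 63))))))

theorem app_lt (M v : ℕ) : app M v < 64 := by
  have h : ∀ x y : ℕ, Nat.mul (Nat.land x 1) (Nat.land y 63) < 2 ^ 6 := by
    intro x y
    have h1 : Nat.land x 1 ≤ 1 := Nat.and_le_right
    have h2 : Nat.land y 63 ≤ 63 := Nat.and_le_right
    calc Nat.mul (Nat.land x 1) (Nat.land y 63) ≤ 1 * 63 := Nat.mul_le_mul h1 h2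
      _ < 2 ^ 6 := by norm_num
  unfold app
  exact Nat.xor_lt_two_pow (h _ _) (Nat.xor_lt_two_pow (h _ _) (Nat.xor_lt_two_pow (h _ _)
    (Nat.xor_lt_two_pow (h _ _) (Nat.xor_lt_two_pow (h _ _) (h _ _)))))

/-- `P` is a homomorphism from `(Z/2)^6` -/
def IsHom6 (P : ℕ → G) : Prop := ∀ v w : ℕ, v < 64 → w < 64 → P (v ^^^ w) = P v * P w

/-- `g` acts on `P` through the matrix `M`: `g⁻¹ P(v) g = P(v M)` -/
def Acts (P : ℕ → G) (g : G) (M : ℕ) : Prop := ∀ v : ℕ, v < 64 → P v * g = g * P (app M v)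

theorem IsHom6.zero {P : ℕ → G} (h : IsHom6 P) : P 0 = 1 := by
  have h1 := h 0 0 (by norm_num) (by norm_num)
  rw [Nat.xor_self] at h1
  exact mul_left_cancel (h1.symm.trans (mul_one _).symm)

theorem IsHom6.sq {P : ℕ → G} (h : IsHom6 P) {v : ℕ} (hv : v < 64) : P v * P v = 1 := by
  rw [← h v v hv hv, Nat.xor_self, h.zero]

theorem split_bits : ∀ v < 64, v = (v &&& 1) ^^^ ((v &&& 2) ^^^ ((v &&& 4) ^^^ ((v &&& 8) ^^^
    ((v &&& 16) ^^^ (v &&& 32))))) := by
  decide

private noncomputable def _root_.Cfsg.Agent.KO258775d.k27 : type_of% @instDecidableAnd := @(fun x0 x1 x2 x3 => @Decidable.rec.{1} _ @(fun x4 => @Decidable (@And @x0 @x1)) @(fun x4 => @Decidable.isFalse _ (@instDecidableAnd._proof_2 _ _ @x4)) @(fun x4 => @Decidable.rec.{1} _ @(fun x5 => @Decidable (@And @x0 @x1)) @(fun x5 => @Decidable.isFalse _ (@instDecidableAnd._proof_1 _ _ @x5)) @(fun x5 => @Decidable.isTrue _ (@And.intro _ _ @x4 @x5)) @x3) @x2)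
private theorem _root_.Cfsg.Agent.KO258775d.e27 : @instDecidableAnd = @_root_.Cfsg.Agent.KO258775d.k27 := by delta _root_.Cfsg.Agent.KO258775d.k27; rfl'

theorem bit_cases : ∀ v < 64, ((v &&& 1 = 0 ∨ v &&& 1 = 1) ∧ (v &&& 2 = 0 ∨ v &&& 2 = 2) ∧
    (v &&& 4 = 0 ∨ v &&& 4 = 4) ∧ (v &&& 8 = 0 ∨ v &&& 8 = 8) ∧
    (v &&& 16 = 0 ∨ v &&& 16 = 16) ∧ (v &&& 32 = 0 ∨ v &&& 32 = 32)) := by
  (first | (refine of_decide_eq_true ?_; rewrite [Cfsg.Agent.KO258775d.e5, Cfsg.Agent.KO258775d.e6, Cfsg.Agent.KO258775d.e27, Cfsg.Agent.KO258775d.e53, Cfsg.Agent.KO258775d.e17]; decide +kernel) | decide +kernel)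

/-- additivity of `app` (proved bitwise) -/
theorem app_xor (M v w : ℕ) : app M (v ^^^ w) = app M v ^^^ app M w := by
  have key : ∀ k n, Nat.mul (Nat.land (Nat.shiftRight (v ^^^ w) k) 1) n =
      Nat.mul (Nat.land (Nat.shiftRight v k) 1) n ^^^ Nat.mul (Nat.land (Nat.shiftRight w k) 1) n := by
    intro k n
    have e1 : Nat.shiftRight (v ^^^ w) k = (v >>> k) ^^^ (w >>> k) := Nat.shiftRight_xor_distrib
    have e2 : Nat.land ((v >>> k) ^^^ (w >>> k)) 1 = ((v >>> k) &&& 1) ^^^ ((w >>> k) &&& 1) :=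
      Nat.and_xor_distrib_right
    rw [e1, e2]
    show (((v >>> k) &&& 1) ^^^ ((w >>> k) &&& 1)) * n = ((v >>> k) &&& 1) * n ^^^ ((w >>> k) &&& 1) * n
    have h1 : (v >>> k) &&& 1 = 0 ∨ (v >>> k) &&& 1 = 1 := by
      rw [Nat.and_one_is_mod]; omega
    have h2 : (w >>> k) &&& 1 = 0 ∨ (w >>> k) &&& 1 = 1 := by
      rw [Nat.and_one_is_mod]; omega
    rcases h1 with h1 | h1 <;> rcases h2 with h2 | h2 <;> rw [h1, h2] <;> simp
  have key0 : ∀ n, Nat.mul (Nat.land (v ^^^ w) 1) n =
      Nat.mul (Nat.land v 1) n ^^^ Nat.mul (Nat.land w 1) n := by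
    intro n
    have := key 0 n
    simpa using this
  unfold app
  rw [key0, key, key, key, key, key]
  have hx : ∀ a b : ℕ, Nat.xor a b = a ^^^ b := fun _ _ => rfl
  simp only [hx]
  ac_rfl

theorem app_zero (M : ℕ) : app M 0 = 0 := by
  have := app_xor M 0 0
  simpa using this

/-- it is enough to know the action on the basis -/
theorem acts_of_basis {P : ℕ → G} (hP : IsHom6 P) {g : G} {M : ℕ}
    (h0 : P 1 * g = g * P (app M 1)) (h1 : P 2 * g = g * P (app M 2))
    (h2 : P 4 * g = g * P (app M 4)) (h3 : P 8 * g = g * P (app M 8))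
    (h4 : P 16 * g = g * P (app M 16)) (h5 : P 32 * g = g * P (app M 32)) : Acts P g M := by
  have hz : P 0 * g = g * P (app M 0) := by rw [app_zero, hP.zero]; simp
  have add : ∀ v w, v < 64 → w < 64 → P v * g = g * P (app M v) → P w * g = g * P (app M w) →
      P (v ^^^ w) * g = g * P (app M (v ^^^ w)) := by
    intro v w hv hw hv' hw'
    rw [hP v w hv hw, app_xor, hP _ _ (app_lt _ _) (app_lt _ _), mul_assoc, hw', ← mul_assoc, hv',
      mul_assoc]
  have hlt : ∀ v w, v < 64 → w < 64 → v ^^^ w < 64 := fun v w hv hw =>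
    Nat.xor_lt_two_pow (n := 6) hv hw
  intro v hv
  obtain ⟨c0, c1, c2, c3, c4, c5⟩ := bit_cases v hv
  have l : ∀ k, v &&& k < 64 := fun k => lt_of_le_of_lt Nat.and_le_left hv
  rw [split_bits v hv]
  have g0 : P (v &&& 1) * g = g * P (app M (v &&& 1)) := by
    rcases c0 with h | h <;> rw [h] <;> assumption
  have g1 : P (v &&& 2) * g = g * P (app M (v &&& 2)) := by
    rcases c1 with h | h <;> rw [h] <;> assumption
  have g2 : P (v &&& 4) * g = g * P (app M (v &&& 4)) := by
    rcases c2 with h | h <;> rw [h] <;> assumption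
  have g3 : P (v &&& 8) * g = g * P (app M (v &&& 8)) := by
    rcases c3 with h | h <;> rw [h] <;> assumption
  have g4 : P (v &&& 16) * g = g * P (app M (v &&& 16)) := by
    rcases c4 with h | h <;> rw [h] <;> assumption
  have g5 : P (v &&& 32) * g = g * P (app M (v &&& 32)) := by
    rcases c5 with h | h <;> rw [h] <;> assumption
  exact add _ _ (l _) (hlt _ _ (l _) (hlt _ _ (l _) (hlt _ _ (l _) (hlt _ _ (l _) (l _))))) g0
    (add _ _ (l _) (hlt _ _ (l _) (hlt _ _ (l _) (hlt _ _ (l _) (l _)))) g1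
    (add _ _ (l _) (hlt _ _ (l _) (hlt _ _ (l _) (l _))) g2
    (add _ _ (l _) (hlt _ _ (l _) (l _)) g3
    (add _ _ (l _) (l _) g4 g5))))

/-- the data of a word problem -/
structure Core (P : ℕ → G) (y : G) (My : ℕ) : Prop where
  hom : IsHom6 P
  inj : ∀ v < 64, P v = 1 → v = 0
  cent : ∀ g : G, (∀ v < 64, P v * g = g * P v) → ∃ v < 64, g = P v
  acts : Acts P y My
  fpf : ∀ v < 64, app My v = v → v = 0

/-- `g` normalises `⟨y⟩` -/
def Nrm (y g : G) : Prop := y * g = g * y ∨ y * g = g * y⁻¹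

theorem Nrm.mul {y g h : G} (hg : Nrm y g) (hh : Nrm y h) : Nrm y (g * h) := by
  have inv_of : ∀ k : G, Nrm y k → (y⁻¹ * k = k * y⁻¹ ∨ y⁻¹ * k = k * y) := by
    rintro k (h | h)
    · left
      rw [inv_mul_eq_iff_eq_mul, ← mul_assoc, h]; group
    · right
      rw [inv_mul_eq_iff_eq_mul, ← mul_assoc, h]; group
  rcases hg with hg | hg
  · rcases hh with hh | hh
    · left; rw [← mul_assoc, hg, mul_assoc, hh, mul_assoc]
    · right; rw [← mul_assoc, hg, mul_assoc, hh, mul_assoc]
  · rcases inv_of h hh with hh' | hh'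
    · right; rw [← mul_assoc, hg, mul_assoc, hh', mul_assoc]
    · left; rw [← mul_assoc, hg, mul_assoc, hh', mul_assoc]

theorem Nrm.one (y : G) : Nrm y 1 := Or.inl (by simp)

theorem Nrm.inv {y g : G} (hg : Nrm y g) : Nrm y g⁻¹ := by
  rcases hg with h | h
  · left
    rw [eq_inv_mul_iff_mul_eq, ← mul_assoc, ← h]; group
  · right
    have : y⁻¹ * g = g * y := by
      rw [inv_mul_eq_iff_eq_mul, ← mul_assoc, h]; group
    rw [eq_inv_mul_iff_mul_eq, ← mul_assoc, ← this]; group

/-- an element acting trivially and normalising `⟨y⟩` is trivial -/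
theorem Core.eq_one {P : ℕ → G} {y : G} {My : ℕ} (hc : Core P y My) {g : G}
    (hg : ∀ v < 64, P v * g = g * P v) (hn : Nrm y g) : g = 1 := by
  obtain ⟨v, hv, rfl⟩ := hc.cent g hg
  have hact := hc.acts v hv
  rcases hn with h | h
  · -- P v commutes with y
    have h1 : y * P (app My v) = y * P v := by rw [← hact, h]
    have h2 : P (app My v) = P v := mul_left_cancel h1
    have h3 : P (app My v ^^^ v) = 1 := by
      rw [hc.hom _ _ (app_lt _ _) hv, h2, hc.hom.sq hv]
    have h4 := hc.inj _ (Nat.xor_lt_two_pow (n := 6) (app_lt _ _) hv) h3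
    have h5 : app My v = v := by
      have : app My v ^^^ v ^^^ v = 0 ^^^ v := by rw [h4]
      simpa [Nat.xor_assoc] using this
    rw [hc.fpf v hv h5, hc.hom.zero]
  · -- y P v = P v y⁻¹ : then y⁻² is in P
    exfalso
    have h1 : y * (P v * y) = P v := by
      rw [← mul_assoc, h]; group
    rw [hact] at h1
    have h2 : y * y = P v * P (app My v) := by
      have h6 : P (app My v) * P (app My v) = 1 := hc.hom.sq (app_lt _ _)
      calc y * y = y * (y * P (app My v)) * P (app My v) := by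
            rw [mul_assoc, mul_assoc, h6, mul_one]
        _ = _ := by rw [h1]
    have hu : v ^^^ app My v < 64 := Nat.xor_lt_two_pow (n := 6) hv (app_lt _ _)
    rw [← hc.hom _ _ hv (app_lt _ _)] at h2
    -- y⁴ acts trivially and y² centralises P
    have hcomm : ∀ w < 64, P w * (y * y) = (y * y) * P w := by
      intro w hw
      rw [h2, ← hc.hom _ _ hw hu, ← hc.hom _ _ hu hw, Nat.xor_comm]
    have h3 : ∀ w < 64, app My (app My w) = w := by
      intro w hw
      have e1 : P w * (y * y) = (y * y) * P (app My (app My w)) := by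
        rw [← mul_assoc, hc.acts w hw, mul_assoc, hc.acts _ (app_lt _ _), mul_assoc]
      rw [hcomm w hw] at e1
      have e2 : P w = P (app My (app My w)) := mul_left_cancel e1
      have e3 : P (w ^^^ app My (app My w)) = 1 := by
        rw [hc.hom _ _ hw (app_lt _ _), ← e2, hc.hom.sq hw]
      have e4 := hc.inj _ (Nat.xor_lt_two_pow (n := 6) hw (app_lt _ _)) e3
      have : w ^^^ (w ^^^ app My (app My w)) = w ^^^ 0 := by rw [e4]
      simpa [← Nat.xor_assoc] using this
    -- then 1 ^^^ app My 1 is fixed, hence zero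
    have h4 : app My (1 ^^^ app My 1) = 1 ^^^ app My 1 := by
      rw [app_xor, h3 1 (by norm_num), Nat.xor_comm]
    have h5 := hc.fpf _ (Nat.xor_lt_two_pow (n := 6) (by norm_num) (app_lt _ _)) h4
    have h6 : app My 1 = 1 := by
      have : 1 ^^^ (1 ^^^ app My 1) = 1 ^^^ 0 := by rw [h5]
      simpa [← Nat.xor_assoc] using this
    exact absurd (hc.fpf 1 (by norm_num) h6) (by norm_num)

/-- image of a vector under a word of matrices -/
def appW (Ms : ℕ → ℕ) : List ℕ → ℕ → ℕ
  | [], v => v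
  | a :: l, v => appW Ms l (app (Ms a) v)

/-- the group element of a word -/
def evalW (gs : ℕ → G) : List ℕ → G
  | [] => 1
  | a :: l => gs a * evalW gs l

theorem evalW_append (gs : ℕ → G) (l m : List ℕ) : evalW gs (l ++ m) = evalW gs l * evalW gs m := by
  induction l with
  | nil => simp [evalW]
  | cons a l ih => simp [evalW, ih, mul_assoc]

/-- Boolean test: the word acts trivially -/
def triv (Ms : ℕ → ℕ) (l : List ℕ) : Bool :=
  Nat.beq (appW Ms l 1) 1 && (Nat.beq (appW Ms l 2) 2 && (Nat.beq (appW Ms l 4) 4 &&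
    (Nat.beq (appW Ms l 8) 8 && (Nat.beq (appW Ms l 16) 16 && Nat.beq (appW Ms l 32) 32))))

theorem appW_xor (Ms : ℕ → ℕ) (l : List ℕ) : ∀ v w, appW Ms l (v ^^^ w) =
    appW Ms l v ^^^ appW Ms l w := by
  induction l with
  | nil => intro v w; rfl
  | cons a l ih => intro v w; simp only [appW, app_xor, ih]

theorem appW_of_triv {Ms : ℕ → ℕ} {l : List ℕ} (h : triv Ms l = true) :
    ∀ v < 64, appW Ms l v = v := by
  unfold triv at h
  simp only [Bool.and_eq_true, Nat.beq_eq] at h
  obtain ⟨h0, h1, h2, h3, h4, h5⟩ := h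
  have hz : appW Ms l 0 = 0 := by
    have := appW_xor Ms l 0 0
    simpa using this
  intro v hv
  obtain ⟨c0, c1, c2, c3, c4, c5⟩ := bit_cases v hv
  conv_lhs => rw [split_bits v hv]
  conv_rhs => rw [split_bits v hv]
  simp only [appW_xor]
  have g0 : appW Ms l (v &&& 1) = v &&& 1 := by
    rcases c0 with h | h <;> rw [h] <;> assumption
  have g1 : appW Ms l (v &&& 2) = v &&& 2 := by
    rcases c1 with h | h <;> rw [h] <;> assumption
  have g2 : appW Ms l (v &&& 4) = v &&& 4 := by
    rcases c2 with h | h <;> rw [h] <;> assumption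
  have g3 : appW Ms l (v &&& 8) = v &&& 8 := by
    rcases c3 with h | h <;> rw [h] <;> assumption
  have g4 : appW Ms l (v &&& 16) = v &&& 16 := by
    rcases c4 with h | h <;> rw [h] <;> assumption
  have g5 : appW Ms l (v &&& 32) = v &&& 32 := by
    rcases c5 with h | h <;> rw [h] <;> assumption
  rw [g0, g1, g2, g3, g4, g5]

theorem acts_evalW {P : ℕ → G} {gs : ℕ → G} {Ms : ℕ → ℕ} {n : ℕ}
    (h : ∀ i < n, Acts P (gs i) (Ms i)) : ∀ (l : List ℕ), (∀ a ∈ l, a < n) →
    ∀ v < 64, P v * evalW gs l = evalW gs l * P (appW Ms l v) := by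
  intro l
  induction l with
  | nil => intro _ v _; simp [evalW, appW]
  | cons a l ih =>
    intro hl v hv
    simp only [evalW, appW]
    have h1 := h a (hl a (by simp)) v hv
    have h2 := ih (fun b hb => hl b (by simp [hb])) (app (Ms a) v) (app_lt _ _)
    rw [← mul_assoc, h1, mul_assoc, h2, mul_assoc]

theorem nrm_evalW {y : G} {gs : ℕ → G} {n : ℕ} (h : ∀ i < n, Nrm y (gs i)) :
    ∀ (l : List ℕ), (∀ a ∈ l, a < n) → Nrm y (evalW gs l) := by
  intro l
  induction l with
  | nil => intro _; exact Nrm.one y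
  | cons a l ih =>
    intro hl
    exact (h a (hl a (by simp))).mul (ih (fun b hb => hl b (by simp [hb])))

/-- **Word theorem**: a word in letters normalising `⟨y⟩` whose action on `P` is trivial is
trivial in the group. -/
theorem word_one {P : ℕ → G} {y : G} {My : ℕ} (hc : Core P y My) {gs : ℕ → G} {Ms : ℕ → ℕ} {n : ℕ}
    (ha : ∀ i < n, Acts P (gs i) (Ms i)) (hn : ∀ i < n, Nrm y (gs i)) {l : List ℕ}
    (hl : (l.all fun a => Nat.blt a n) = true) (ht : triv Ms l = true) : evalW gs l = 1 := by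
  have hl' : ∀ a ∈ l, a < n := by
    intro a ha
    rw [List.all_eq_true] at hl
    have := hl a ha
    rwa [Nat.blt_eq] at this
  apply hc.eq_one _ (nrm_evalW hn l hl')
  intro v hv
  rw [acts_evalW ha l hl' v hv, appW_of_triv ht v hv]

end Cfsg.Agent.Held.WordCore
end

-- part: Held/Mirror
section
/-!
# The mirror: anti-transposition of codes and the mirrored embedding
-/

set_option autoImplicit false

namespace Cfsg.Agent.Held.Mirror

open Cfsg.Agent.Lib.F2Mat Cfsg.Agent.Held.Code

/-- anti-transpose of a code: entry `(i, j)` goes to `(4 - j, 4 - i)` -/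
def flip (a : ℕ) : ℕ :=
  blk 1 (fun p => Nat.land (Nat.shiftRight a (24 - (5 * (p % 5) + p / 5))) 1) 25

/-- the mirrored map -/
def mir {G : Type*} [Group G] (ph : ℕ → G) : ℕ → G := fun a => (ph (flip a))⁻¹

end Cfsg.Agent.Held.Mirror
end

-- part: Held/Acts
section
/-!
# Actions on `V1` and `V2`

`P1 ph v`, `P2 ph v` (`v < 64`) are the elements of `V1 = ⟨x02,x03,x04,x12,x13,x14⟩` and
`V2 = ⟨x03,x04,x13,x14,x23,x24⟩`; the actions of `y1`, `y2` (from `Side`) and of coded elements.
-/

set_option autoImplicit false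
set_option linter.unusedSectionVars false

namespace Cfsg.Agent.Held.Acts

open Cfsg.Agent.Held.Code Cfsg.Agent.Held.SideDef Cfsg.Agent.Held.WordCore
  Cfsg.Agent.Held.Mirror

variable {G : Type*} [Group G] {z : G} {ph : ℕ → G}

/-- code of the element `v` of `V1` (bits: x02, x03, x04, x12, x13, x14) -/
def v1c (v : ℕ) : ℕ := Nat.xor 17043521 (Nat.xor (Nat.shiftLeft (Nat.land v 7) 2)
  (Nat.shiftLeft (Nat.land (Nat.shiftRight v 3) 7) 7))

/-- code of the element `v` of `V2` (bits: x03, x04, x13, x14, x23, x24) -/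
def v2c (v : ℕ) : ℕ := Nat.xor 17043521 (Nat.xor (Nat.shiftLeft (Nat.land v 3) 3)
  (Nat.xor (Nat.shiftLeft (Nat.land (Nat.shiftRight v 2) 3) 8)
  (Nat.shiftLeft (Nat.land (Nat.shiftRight v 4) 3) 13)))

theorem v1_chk : allb 64 (fun v => isC (v1c v) (v1c v) &&
    allb 64 (fun w => Nat.beq (mu (v1c v) (v1c w)) (v1c (v ^^^ w)))) = true := by
  rewrite [mu_eq5]; decide +kernel

theorem v2_chk : allb 64 (fun v => isC (v2c v) (v2c v) &&
    allb 64 (fun w => Nat.beq (mu (v2c v) (v2c w)) (v2c (v ^^^ w)))) = true := by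
  rewrite [mu_eq5]; decide +kernel

theorem v1_C {v : ℕ} (hv : v < 64) : C (v1c v) := by
  have h := of_allb v1_chk v hv
  rw [Bool.and_eq_true] at h
  exact C_of_isC h.1

theorem v2_C {v : ℕ} (hv : v < 64) : C (v2c v) := by
  have h := of_allb v2_chk v hv
  rw [Bool.and_eq_true] at h
  exact C_of_isC h.1

theorem v1_mu {v w : ℕ} (hv : v < 64) (hw : w < 64) : mu (v1c v) (v1c w) = v1c (v ^^^ w) := by
  have h := of_allb v1_chk v hv
  rw [Bool.and_eq_true] at h
  exact Nat.eq_of_beq_eq_true (of_allb h.2 w hw)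

theorem v2_mu {v w : ℕ} (hv : v < 64) (hw : w < 64) : mu (v2c v) (v2c w) = v2c (v ^^^ w) := by
  have h := of_allb v2_chk v hv
  rw [Bool.and_eq_true] at h
  exact Nat.eq_of_beq_eq_true (of_allb h.2 w hw)

/-- elements of `V1` -/
def P1 (ph : ℕ → G) (v : ℕ) : G := ph (v1c v)

/-- elements of `V2` -/
def P2 (ph : ℕ → G) (v : ℕ) : G := ph (v2c v)

theorem hom1 (h : Emb z ph) : IsHom6 (P1 ph) := fun v w hv hw => by
  show ph (v1c (v ^^^ w)) = ph (v1c v) * ph (v1c w)
  rw [← h.mul (v1_C hv) (v1_C hw), v1_mu hv hw]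

theorem hom2 (h : Emb z ph) : IsHom6 (P2 ph) := fun v w hv hw => by
  show ph (v2c (v ^^^ w)) = ph (v2c v) * ph (v2c w)
  rw [← h.mul (v2_C hv) (v2_C hw), v2_mu hv hw]

theorem ph_e1 (h : Emb z ph) : ph e1 = 1 := by
  have := h.mul C_e1 C_e1
  rw [mu_e1 C_e1.1] at this
  exact mul_left_cancel (this.symm.trans (mul_one _).symm)

theorem v1c_inj : ∀ v < 64, v1c v = e1 → v = 0 := by decide +kernel

theorem v2c_inj : ∀ v < 64, v2c v = e1 → v = 0 := by decide +kernel

theorem inj1 (h : Emb z ph) : ∀ v < 64, P1 ph v = 1 → v = 0 := fun v hv hv1 =>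
  v1c_inj v hv (h.inj (v1_C hv) C_e1 (by rw [ph_e1 h]; exact hv1))

theorem inj2 (h : Emb z ph) : ∀ v < 64, P2 ph v = 1 → v = 0 := fun v hv hv1 =>
  v2c_inj v hv (h.inj (v2_C hv) C_e1 (by rw [ph_e1 h]; exact hv1))

/-- commutation of codes from commutation of elements -/
theorem mu_comm_of (h : Emb z ph) {a b : ℕ} (ha : C a) (hb : C b)
    (hab : ph a * ph b = ph b * ph a) : mu a b = mu b a := by
  rw [← h.mul ha hb, ← h.mul hb ha] at hab
  exact h.inj (ha.mul hb) (hb.mul ha) hab

/-- commutation test -/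
def cmt (a b : ℕ) : Bool := Nat.beq (mu a b) (mu b a)

theorem cent1_chk : allK (fun c => imp (cmt c (X 0 2) && (cmt c (X 0 4) && (cmt c (X 1 2) &&
    (cmt c (X 1 3) && cmt c (X 1 4))))) (Nat.beq c (v1c ((Nat.land (Nat.shiftRight c 2) 7) +
      8 * (Nat.land (Nat.shiftRight c 7) 7))))) = true := by
  delta cmt; rewrite [mu_eq5]; decide +kernel

theorem cent2_chk : allK (fun c => imp (cmt c (X 0 4) && (cmt c (X 1 3) && (cmt c (X 1 4) &&
    (cmt c (X 2 3) && cmt c (X 2 4))))) (Nat.beq c (v2c ((Nat.land (Nat.shiftRight c 3) 3) +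
      4 * (Nat.land (Nat.shiftRight c 8) 3) + 16 * (Nat.land (Nat.shiftRight c 13) 3)))))
      = true := by
  delta cmt; rewrite [mu_eq5]; decide +kernel

theorem CX {i j : ℕ} (h : isC (X i j) (X i j) = true) : C (X i j) := C_of_isC h

theorem cent1 (h : Emb z ph) (g : G) (hg : ∀ v < 64, P1 ph v * g = g * P1 ph v) :
    ∃ v < 64, g = P1 ph v := by
  have hz : g * z = z * g := by
    have := hg 4 (by norm_num)
    have e : P1 ph 4 = z := by
      show ph (v1c 4) = z
      rw [show v1c 4 = zc from by decide +kernel, h.z_eq]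
    rw [e] at this; exact this.symm
  obtain ⟨c, hc, rfl⟩ := h.surj g hz
  have k : ∀ v, v < 64 → mu c (v1c v) = mu (v1c v) c := fun v hv =>
    mu_comm_of h hc (v1_C hv) (hg v hv).symm
  have k3 : mu c (X 0 3) = mu (X 0 3) c := by
    have := k 2 (by norm_num)
    rwa [show v1c 2 = X 0 3 from by decide +kernel] at this
  have c2 : cmt c (X 0 2) = true := by
    have := k 1 (by norm_num)
    rw [show v1c 1 = X 0 2 from by decide +kernel] at this
    unfold cmt; rw [Nat.beq_eq]; exact this
  have c4 : cmt c (X 0 4) = true := by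
    have := k 4 (by norm_num)
    rw [show v1c 4 = X 0 4 from by decide +kernel] at this
    unfold cmt; rw [Nat.beq_eq]; exact this
  have c12 : cmt c (X 1 2) = true := by
    have := k 8 (by norm_num)
    rw [show v1c 8 = X 1 2 from by decide +kernel] at this
    unfold cmt; rw [Nat.beq_eq]; exact this
  have c13 : cmt c (X 1 3) = true := by
    have := k 16 (by norm_num)
    rw [show v1c 16 = X 1 3 from by decide +kernel] at this
    unfold cmt; rw [Nat.beq_eq]; exact this
  have c14 : cmt c (X 1 4) = true := by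
    have := k 32 (by norm_num)
    rw [show v1c 32 = X 1 4 from by decide +kernel] at this
    unfold cmt; rw [Nat.beq_eq]; exact this
  have hh := of_allK cent1_chk hc k3
  have h2 := imp_mp hh (by simp [c2, c4, c12, c13, c14])
  rw [Nat.beq_eq] at h2
  have l1 : Nat.land (Nat.shiftRight c 2) 7 ≤ 7 := Nat.and_le_right
  have l2 : Nat.land (Nat.shiftRight c 7) 7 ≤ 7 := Nat.and_le_right
  exact ⟨_, by omega, congrArg ph h2⟩

theorem cent2 (h : Emb z ph) (g : G) (hg : ∀ v < 64, P2 ph v * g = g * P2 ph v) :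
    ∃ v < 64, g = P2 ph v := by
  have hz : g * z = z * g := by
    have := hg 2 (by norm_num)
    have e : P2 ph 2 = z := by
      show ph (v2c 2) = z
      rw [show v2c 2 = zc from by decide +kernel, h.z_eq]
    rw [e] at this; exact this.symm
  obtain ⟨c, hc, rfl⟩ := h.surj g hz
  have k : ∀ v, v < 64 → mu c (v2c v) = mu (v2c v) c := fun v hv =>
    mu_comm_of h hc (v2_C hv) (hg v hv).symm
  have k3 : mu c (X 0 3) = mu (X 0 3) c := by
    have := k 1 (by norm_num)
    rwa [show v2c 1 = X 0 3 from by decide +kernel] at this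
  have c4 : cmt c (X 0 4) = true := by
    have := k 2 (by norm_num)
    rw [show v2c 2 = X 0 4 from by decide +kernel] at this
    unfold cmt; rw [Nat.beq_eq]; exact this
  have c13 : cmt c (X 1 3) = true := by
    have := k 4 (by norm_num)
    rw [show v2c 4 = X 1 3 from by decide +kernel] at this
    unfold cmt; rw [Nat.beq_eq]; exact this
  have c14 : cmt c (X 1 4) = true := by
    have := k 8 (by norm_num)
    rw [show v2c 8 = X 1 4 from by decide +kernel] at this
    unfold cmt; rw [Nat.beq_eq]; exact this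
  have c23 : cmt c (X 2 3) = true := by
    have := k 16 (by norm_num)
    rw [show v2c 16 = X 2 3 from by decide +kernel] at this
    unfold cmt; rw [Nat.beq_eq]; exact this
  have c24 : cmt c (X 2 4) = true := by
    have := k 32 (by norm_num)
    rw [show v2c 32 = X 2 4 from by decide +kernel] at this
    unfold cmt; rw [Nat.beq_eq]; exact this
  have hh := of_allK cent2_chk hc k3
  have h2 := imp_mp hh (by simp [c4, c13, c14, c23, c24])
  rw [Nat.beq_eq] at h2
  have l1 : Nat.land (Nat.shiftRight c 3) 3 ≤ 3 := Nat.and_le_right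
  have l2 : Nat.land (Nat.shiftRight c 8) 3 ≤ 3 := Nat.and_le_right
  have l3 : Nat.land (Nat.shiftRight c 13) 3 ≤ 3 := Nat.and_le_right
  exact ⟨_, by omega, congrArg ph h2⟩

/-! ### the action of coded elements -/

/-- test: the code `a` acts on `V1` by `M` -/
def chk1 (a M : ℕ) : Bool :=
  allb 64 (fun v => Nat.beq (mu (v1c v) a) (mu a (v1c (app M v))))

/-- test: the code `a` acts on `V2` by `M` -/
def chk2 (a M : ℕ) : Bool :=
  allb 64 (fun v => Nat.beq (mu (v2c v) a) (mu a (v2c (app M v))))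

theorem acts1_of_chk (h : Emb z ph) {a M : ℕ} (ha : C a) (hc : chk1 a M = true) :
    Acts (P1 ph) (ph a) M := by
  intro v hv
  show ph (v1c v) * ph a = ph a * ph (v1c (app M v))
  rw [← h.mul (v1_C hv) ha, ← h.mul ha (v1_C (app_lt _ _))]
  exact congrArg ph (Nat.eq_of_beq_eq_true (of_allb hc v hv))

theorem acts2_of_chk (h : Emb z ph) {a M : ℕ} (ha : C a) (hc : chk2 a M = true) :
    Acts (P2 ph) (ph a) M := by
  intro v hv
  show ph (v2c v) * ph a = ph a * ph (v2c (app M v))
  rw [← h.mul (v2_C hv) ha, ← h.mul ha (v2_C (app_lt _ _))]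
  exact congrArg ph (Nat.eq_of_beq_eq_true (of_allb hc v hv))

/-! ### basis elements -/

theorem p1_1 : P1 ph 1 = ph (X 0 2) := congrArg ph (by decide +kernel)
theorem p1_2 : P1 ph 2 = ph (X 0 3) := congrArg ph (by decide +kernel)
theorem p1_4 : P1 ph 4 = ph (X 0 4) := congrArg ph (by decide +kernel)
theorem p1_8 : P1 ph 8 = ph (X 1 2) := congrArg ph (by decide +kernel)
theorem p1_16 : P1 ph 16 = ph (X 1 3) := congrArg ph (by decide +kernel)
theorem p1_32 : P1 ph 32 = ph (X 1 4) := congrArg ph (by decide +kernel)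
theorem p2_1 : P2 ph 1 = ph (X 0 3) := congrArg ph (by decide +kernel)
theorem p2_2 : P2 ph 2 = ph (X 0 4) := congrArg ph (by decide +kernel)
theorem p2_4 : P2 ph 4 = ph (X 1 3) := congrArg ph (by decide +kernel)
theorem p2_8 : P2 ph 8 = ph (X 1 4) := congrArg ph (by decide +kernel)
theorem p2_16 : P2 ph 16 = ph (X 2 3) := congrArg ph (by decide +kernel)
theorem p2_32 : P2 ph 32 = ph (X 2 4) := congrArg ph (by decide +kernel)

theorem ph_z (h : Emb z ph) : ph (X 0 4) = z := by
  rw [← h.z_eq]; exact congrArg ph (by decide +kernel)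

/-- matrix of `y1` on `V1` -/
def A11 (t : Bool) : ℕ := cond t 52079124755 52078600449
/-- matrix of `y1` on `V2` -/
def A12 : ℕ := 52079657154
/-- matrix of `y2` on `V1` -/
def A21 : ℕ := 4328932489
/-- matrix of `y2` on `V2` -/
def A22 (t : Bool) : ℕ := cond t 47647822469 34628702853

theorem side_acts2 (h : Emb z ph) {t : Bool} {y : G} (s : Side z ph t y) : Acts (P2 ph) y A12 := by
  have hm := hom2 h
  apply acts_of_basis hm
  · rw [show app A12 1 = 2 from by decide +kernel, p2_1, p2_2]; exact s.a03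
  · rw [show app A12 2 = 1 ^^^ 2 from by decide +kernel, hm 1 2 (by norm_num) (by norm_num),
      p2_1, p2_2]; exact s.a04
  · rw [show app A12 4 = 8 from by decide +kernel, p2_4, p2_8]; exact s.a13
  · rw [show app A12 8 = 4 ^^^ 8 from by decide +kernel, hm 4 8 (by norm_num) (by norm_num),
      p2_4, p2_8]; exact s.a14
  · rw [show app A12 16 = 32 from by decide +kernel, p2_16, p2_32]; exact s.a23
  · rw [show app A12 32 = 16 ^^^ 32 from by decide +kernel, hm 16 32 (by norm_num) (by norm_num),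
      p2_16, p2_32]; exact s.a24

theorem side_acts1 (h : Emb z ph) {t : Bool} {y : G} (s : Side z ph t y) :
    Acts (P1 ph) y (A11 t) := by
  have hm := hom1 h
  apply acts_of_basis hm
  · rw [p1_1]
    have := s.a02
    cases t
    · rw [show app (A11 false) 1 = 1 from by decide +kernel, p1_1]
      simpa only [tw, _root_.cond_false, _root_.mul_one] using this
    · rw [show app (A11 true) 1 = 1 ^^^ (2 ^^^ 16) from by decide +kernel,
        hm 1 _ (by norm_num) (by decide), hm 2 16 (by norm_num) (by norm_num), p1_1, p1_2, p1_16]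
      exact this
  · rw [show app (A11 t) 2 = 4 from by cases t <;> decide +kernel, p1_2, p1_4]
    exact s.a03
  · rw [show app (A11 t) 4 = 2 ^^^ 4 from by cases t <;> decide +kernel,
      hm 2 4 (by norm_num) (by norm_num), p1_2, p1_4]
    exact s.a04
  · have h12 := s.a12
    cases t
    · rw [show app (A11 false) 8 = 8 from by decide +kernel, p1_8]
      simpa only [tw, _root_.cond_false, _root_.mul_one] using h12
    · rw [show app (A11 true) 8 = 8 ^^^ 2 from by decide +kernel,
        hm 8 2 (by norm_num) (by norm_num), p1_8, p1_2]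
      have h12' : ph (X 1 2) * z * y = y * (ph (X 1 2) * z) := h12
      have h4 := s.a04
      rw [ph_z h] at h4
      have hz2 : z * z = 1 := by
        have := hm.sq (v := 4) (by norm_num)
        rwa [p1_4, ph_z h] at this
      -- x12 y = x12 z z y = x12 z y (x03 z) = y x12 z x03 z... 
      have h23 : ph (X 0 3) * z = z * ph (X 0 3) := h.comm (CX (by decide +kernel))
      have e1 : z * y = y * (ph (X 0 3) * z) := h4
      calc ph (X 1 2) * y = ph (X 1 2) * z * (z * y) := by
            rw [mul_assoc, ← mul_assoc z z y, hz2, one_mul]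
        _ = (ph (X 1 2) * z * y) * (ph (X 0 3) * z) := by rw [e1]; simp only [mul_assoc]
        _ = y * (ph (X 1 2) * z) * (z * ph (X 0 3)) := by rw [h12', h23]
        _ = y * (ph (X 1 2) * (z * z) * ph (X 0 3)) := by simp only [mul_assoc]
        _ = y * (ph (X 1 2) * ph (X 0 3)) := by rw [hz2, mul_one]
  · rw [show app (A11 t) 16 = 32 from by cases t <;> decide +kernel, p1_16, p1_32]
    exact s.a13
  · rw [show app (A11 t) 32 = 16 ^^^ 32 from by cases t <;> decide +kernel,
      hm 16 32 (by norm_num) (by norm_num), p1_16, p1_32]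
    exact s.a14

/-! ### mirrored side in original coordinates -/

/-- the mirrored side, written in the original coordinates -/
structure Side2 {G : Type*} [Group G] (z : G) (ph : ℕ → G) (t : Bool) (y : G) : Prop where
  cube : y ^ 3 = 1
  inv01 : ph (X 0 1) * y * ph (X 0 1) = y⁻¹
  b14 : ph (X 1 4) * y = y * ph (X 0 4)
  b13 : ph (X 1 3) * y = y * ph (X 0 3)
  b12 : ph (X 1 2) * y = y * ph (X 0 2)
  b04 : ph (X 0 4) * y = y * (ph (X 1 4) * ph (X 0 4))
  b03 : ph (X 0 3) * y = y * (ph (X 1 3) * ph (X 0 3))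
  b02 : ph (X 0 2) * y = y * (ph (X 1 2) * ph (X 0 2))
  b34 : ph (X 3 4) * y = y * (ph (X 3 4) * tw t (ph (X 1 4) * ph (X 1 2)))
  b24 : ph (X 2 4) * y = y * (ph (X 2 4) * tw t (ph (X 1 4) * ph (X 1 3)))
  b23 : (ph (X 2 3) * tw t z) * y = y * (ph (X 2 3) * tw t z)
  b32 : (ph (X 3 2) * tw t z) * y = y * (ph (X 3 2) * tw t z)

theorem side2_acts1 (h : Emb z ph) {t : Bool} {y : G} (s : Side2 z ph t y) :
    Acts (P1 ph) y A21 := by
  have hm := hom1 h
  apply acts_of_basis hm
  · rw [show app A21 1 = 8 ^^^ 1 from by decide +kernel, hm 8 1 (by norm_num) (by norm_num),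
      p1_1, p1_8]; exact s.b02
  · rw [show app A21 2 = 16 ^^^ 2 from by decide +kernel, hm 16 2 (by norm_num) (by norm_num),
      p1_2, p1_16]; exact s.b03
  · rw [show app A21 4 = 32 ^^^ 4 from by decide +kernel, hm 32 4 (by norm_num) (by norm_num),
      p1_4, p1_32]; exact s.b04
  · rw [show app A21 8 = 1 from by decide +kernel, p1_8, p1_1]; exact s.b12
  · rw [show app A21 16 = 2 from by decide +kernel, p1_16, p1_2]; exact s.b13
  · rw [show app A21 32 = 4 from by decide +kernel, p1_32, p1_4]; exact s.b14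

theorem side2_acts2 (h : Emb z ph) {t : Bool} {y : G} (s : Side2 z ph t y) :
    Acts (P2 ph) y (A22 t) := by
  have hm := hom2 h
  have hz2 : z * z = 1 := by
    have := hm.sq (v := 2) (by norm_num)
    rwa [p2_2, ph_z h] at this
  apply acts_of_basis hm
  · rw [show app (A22 t) 1 = 4 ^^^ 1 from by cases t <;> decide +kernel,
      hm 4 1 (by norm_num) (by norm_num), p2_1, p2_4]; exact s.b03
  · rw [show app (A22 t) 2 = 8 ^^^ 2 from by cases t <;> decide +kernel,
      hm 8 2 (by norm_num) (by norm_num), p2_2, p2_8]; exact s.b04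
  · rw [show app (A22 t) 4 = 1 from by cases t <;> decide +kernel, p2_4, p2_1]; exact s.b13
  · rw [show app (A22 t) 8 = 2 from by cases t <;> decide +kernel, p2_8, p2_2]; exact s.b14
  · have h23 := s.b23
    cases t
    · rw [show app (A22 false) 16 = 16 from by decide +kernel, p2_16]
      simpa only [tw, _root_.cond_false, _root_.mul_one] using h23
    · rw [show app (A22 true) 16 = 16 ^^^ 8 from by decide +kernel,
        hm 16 8 (by norm_num) (by norm_num), p2_16, p2_8]
      have h23' : ph (X 2 3) * z * y = y * (ph (X 2 3) * z) := h23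
      have h4 := s.b04
      rw [ph_z h] at h4
      have hc : ph (X 1 4) * z = z * ph (X 1 4) := h.comm (CX (by decide +kernel))
      calc ph (X 2 3) * y = ph (X 2 3) * z * (z * y) := by
            rw [mul_assoc, ← mul_assoc z z y, hz2, one_mul]
        _ = (ph (X 2 3) * z * y) * (ph (X 1 4) * z) := by rw [h4]; simp only [mul_assoc]
        _ = y * (ph (X 2 3) * z) * (z * ph (X 1 4)) := by rw [h23', hc]
        _ = y * (ph (X 2 3) * (z * z) * ph (X 1 4)) := by simp only [mul_assoc]
        _ = y * (ph (X 2 3) * ph (X 1 4)) := by rw [hz2, mul_one]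
  · have h24 := s.b24
    cases t
    · rw [show app (A22 false) 32 = 32 from by decide +kernel, p2_32]
      simpa only [tw, _root_.cond_false, _root_.mul_one] using h24
    · rw [show app (A22 true) 32 = 32 ^^^ (8 ^^^ 4) from by decide +kernel,
        hm 32 _ (by norm_num) (by decide), hm 8 4 (by norm_num) (by norm_num),
        p2_32, p2_8, p2_4]
      exact h24

end Cfsg.Agent.Held.Acts
end

-- part: Held/ConfigThm
section
/-!
# Existence of a commuting configuration

From `Side x t1 y1` and `Side (mir x) t2 y2` we obtain `Config x t1 t2 f y1 y2'` with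
`y2' = y2` or `y2' = z y2 z`.
-/

set_option autoImplicit false
set_option linter.unusedSectionVars false

namespace Cfsg.Agent.Held.ConfigThm

open Cfsg.Agent.Held.Code Cfsg.Agent.Held.WordCore Cfsg.Agent.Held.Acts
open Cfsg.Agent.Held.SideDef (tw)

variable {G : Type*} [Group G] {z : G} {ph : ℕ → G}

/-- the root elements -/
abbrev xs (ph : ℕ → G) : ℕ → ℕ → G := fun i j => ph (X i j)

theorem toSide (h : Emb z ph) {t : ℕ} (ht : t = 0 ∨ t = 1) {y : G}
    (s : Config.Side (xs ph) t y) : SideDef.Side z ph (Nat.beq t 1) y := by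
  obtain ⟨c, i, a3, a4, h01, h02, h12, h21⟩ := s
  have ez : ph (X 0 4) = z := ph_z h
  have h12' : ph (X 1 2) * ph (X 0 4) ^ t * y = y * (ph (X 1 2) * ph (X 0 4) ^ t) := h12
  have h21' : ph (X 2 1) * ph (X 0 4) ^ t * y = y * (ph (X 2 1) * ph (X 0 4) ^ t) := h21
  rw [ez] at h12' h21'
  rcases ht with rfl | rfl
  · rw [pow_zero] at h01 h02 h12' h21'
    exact ⟨c, i, a3 0 (by norm_num), a3 1 (by norm_num), a3 2 (by norm_num), a4 0 (by norm_num),
      a4 1 (by norm_num), a4 2 (by norm_num), h01, h02, h12', h21'⟩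
  · rw [pow_one] at h01 h02 h12' h21'
    exact ⟨c, i, a3 0 (by norm_num), a3 1 (by norm_num), a3 2 (by norm_num), a4 0 (by norm_num),
      a4 1 (by norm_num), a4 2 (by norm_num), h01, h02, h12', h21'⟩

theorem toSide2 (h : Emb z ph) {t : ℕ} (ht : t = 0 ∨ t = 1) {y : G}
    (s : Config.Side (Config.mir (xs ph)) t y) : Side2 z ph (Nat.beq t 1) y := by
  obtain ⟨c, i, a3, a4, h01, h02, h12, h21⟩ := s
  have ez : ph (X 0 4) = z := ph_z h
  have h12' : ph (X 2 3) * ph (X 0 4) ^ t * y = y * (ph (X 2 3) * ph (X 0 4) ^ t) := h12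
  have h21' : ph (X 3 2) * ph (X 0 4) ^ t * y = y * (ph (X 3 2) * ph (X 0 4) ^ t) := h21
  rw [ez] at h12' h21'
  rcases ht with rfl | rfl
  · rw [pow_zero] at h01 h02 h12' h21'
    exact ⟨c, i, a3 0 (by norm_num), a3 1 (by norm_num), a3 2 (by norm_num), a4 0 (by norm_num),
      a4 1 (by norm_num), a4 2 (by norm_num), h01, h02, h12', h21'⟩
  · rw [pow_one] at h01 h02 h12' h21'
    exact ⟨c, i, a3 0 (by norm_num), a3 1 (by norm_num), a3 2 (by norm_num), a4 0 (by norm_num),
      a4 1 (by norm_num), a4 2 (by norm_num), h01, h02, h12', h21'⟩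

/-- the offset -/
def f0 (ph : ℕ → G) (t1 t2 : ℕ) : G :=
  if t1 = 0 then (if t2 = 0 then 1 else ph (X 0 3)) else (if t2 = 0 then ph (X 1 4) else ph (X 1 3))

/-- vector of the offset in `V1` -/
def vf (t1 t2 : Bool) : ℕ := cond t1 (cond t2 16 32) (cond t2 2 0)

theorem f0_eq (h : Emb z ph) {t1 t2 : ℕ} (h1 : t1 = 0 ∨ t1 = 1) (h2 : t2 = 0 ∨ t2 = 1) :
    f0 ph t1 t2 = P1 ph (vf (Nat.beq t1 1) (Nat.beq t2 1)) := by
  rcases h1 with rfl | rfl <;> rcases h2 with rfl | rfl
  · show (1 : G) = P1 ph 0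
    exact (hom1 h).zero.symm
  · exact p1_2.symm
  · exact p1_32.symm
  · exact p1_16.symm

/-- conjugating `y` by `z` preserves `Side` -/
theorem side_conj {x : ℕ → ℕ → G} {t : ℕ} {y : G} (hzz : z * z = 1)
    (c34 : x 3 4 * z = z * x 3 4) (c3 : ∀ i < 3, x i 3 * z = z * x i 3)
    (c4 : ∀ i < 3, x i 4 * z = z * x i 4) (c01 : x 0 1 * z = z * x 0 1)
    (c02 : x 0 2 * z = z * x 0 2) (c12 : x 1 2 * z = z * x 1 2) (c21 : x 2 1 * z = z * x 2 1)
    (s : Config.Side x t y) : Config.Side x t (z * y * z) := by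
  have hzi : z⁻¹ = z := inv_eq_of_mul_eq_one_right hzz
  -- transport of `a y = y b` for `a`, `b` commuting with `z`
  have tr : ∀ a b : G, a * z = z * a → b * z = z * b → a * y = y * b →
      a * (z * y * z) = z * y * z * b := by
    intro a b ha hb hab
    calc a * (z * y * z) = (a * z) * y * z := by simp only [mul_assoc]
      _ = z * (a * y) * z := by rw [ha]; simp only [mul_assoc]
      _ = z * y * (b * z) := by rw [hab]; simp only [mul_assoc]
      _ = z * y * z * b := by rw [hb]; simp only [mul_assoc]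
  have cm : ∀ a b : G, a * z = z * a → b * z = z * b → (a * b) * z = z * (a * b) := by
    intro a b ha hb
    rw [mul_assoc, hb, ← mul_assoc, ha, mul_assoc]
  have cp : ∀ a : G, a * z = z * a → a ^ t * z = z * a ^ t := fun a ha =>
    (Commute.pow_left (show Commute a z from ha) t)
  obtain ⟨c, i, a3, a4, h01, h02, h12, h21⟩ := s
  refine ⟨?_, ?_, ?_, ?_, ?_, ?_, ?_, ?_⟩
  · have : z * y * z = z * y * z⁻¹ := by rw [hzi]
    rw [this, conj_pow, c]; simp
  · have e : x 3 4 * (z * y * z) * x 3 4 = z * (x 3 4 * y * x 3 4) * z := by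
      calc x 3 4 * (z * y * z) * x 3 4 = (x 3 4 * z) * y * (z * x 3 4) := by simp only [mul_assoc]
        _ = (z * x 3 4) * y * (x 3 4 * z) := by rw [c34]
        _ = _ := by simp only [mul_assoc]
    rw [e, i, mul_inv_rev, mul_inv_rev, hzi, mul_assoc]
  · intro k hk
    exact tr _ _ (c3 k hk) (c4 k hk) (a3 k hk)
  · intro k hk
    exact tr _ _ (c4 k hk) (cm _ _ (c3 k hk) (c4 k hk)) (a4 k hk)
  · exact tr _ _ c01 (cm _ _ c01 (cp _ (cm _ _ (c3 0 (by norm_num)) (c3 2 (by norm_num))))) h01
  · exact tr _ _ c02 (cm _ _ c02 (cp _ (cm _ _ (c3 0 (by norm_num)) (c3 1 (by norm_num))))) h02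
  · exact tr _ _ (cm _ _ c12 (cp _ (c4 0 (by norm_num)))) (cm _ _ c12 (cp _ (c4 0 (by norm_num)))) h12
  · exact tr _ _ (cm _ _ c21 (cp _ (c4 0 (by norm_num)))) (cm _ _ c21 (cp _ (c4 0 (by norm_num)))) h21

/-- two elements with the same action differ by a centralising element -/
theorem cent_of_same {P : ℕ → G} {u w : G} {F : ℕ → ℕ} (hlt : ∀ v < 64, F v < 64)
    (hF : ∀ v < 64, F (F (F v)) = v)
    (hu : ∀ v < 64, P v * u = u * P (F v)) (hw : ∀ v < 64, P v * w = w * P (F v)) :
    ∀ v < 64, P v * (w⁻¹ * u) = (w⁻¹ * u) * P v := by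
  intro v hv
  have h2 := hlt _ (hlt v hv)
  have e := hF v hv
  have h3 := hu _ h2
  have h4 := hw _ h2
  rw [e] at h3 h4
  have h5 : P v * w⁻¹ = w⁻¹ * P (F (F v)) := by
    rw [eq_inv_mul_iff_mul_eq, ← mul_assoc, ← h4]; group
  calc P v * (w⁻¹ * u) = (P v * w⁻¹) * u := by rw [mul_assoc]
    _ = w⁻¹ * (P (F (F v)) * u) := by rw [h5, mul_assoc]
    _ = w⁻¹ * u * P v := by rw [h3, mul_assoc]

theorem comm_chk1 : ∀ t : Bool, ∀ v < 64, app A21 (app (A11 t) v) = app (A11 t) (app A21 v) := by
  decide +kernel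

theorem comm_chk2 : ∀ t : Bool, ∀ v < 64, app (A22 t) (app A12 v) = app A12 (app (A22 t) v) := by
  decide +kernel

theorem cube_chk1 : ∀ t : Bool, ∀ v < 64,
    app A21 (app (A11 t) (app A21 (app (A11 t) (app A21 (app (A11 t) v))))) = v := by
  decide +kernel

theorem cube_chk2 : ∀ t : Bool, ∀ v < 64,
    app (A22 t) (app A12 (app (A22 t) (app A12 (app (A22 t) (app A12 v))))) = v := by
  decide +kernel

/-- matrix of `x34` on `V1` -/
def S34 : ℕ := 35167158657
/-- matrix of `x01` on `V2` -/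
def S01 : ℕ := 34630815873


/-! ### the abstract computation -/

theorem P_inj {P : ℕ → G} (hP : IsHom6 P) (hi : ∀ v < 64, P v = 1 → v = 0) {v w : ℕ}
    (hv : v < 64) (hw : w < 64) (h : P v = P w) : v = w := by
  have h1 : P (v ^^^ w) = 1 := by rw [hP v w hv hw, h, hP.sq hw]
  have h2 := hi _ (Nat.xor_lt_two_pow (n := 6) hv hw) h1
  have : v ^^^ w ^^^ w = 0 ^^^ w := by rw [h2]
  simpa [Nat.xor_assoc] using this

/-- inverse action -/
theorem acts_inv {P : ℕ → G} {y : G} {M : ℕ} (h : Acts P y M)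
    (h3 : ∀ v < 64, app M (app M (app M v)) = v) :
    ∀ v < 64, P v * y⁻¹ = y⁻¹ * P (app M (app M v)) := by
  intro v hv
  have h1 := h _ (app_lt M (app M v))
  rw [h3 v hv] at h1
  rw [eq_inv_mul_iff_mul_eq, ← mul_assoc, ← h1, mul_assoc, mul_inv_cancel, mul_one]

/-- the equation obtained from conjugation by an involution inverting `u` -/
theorem eq_of_conj {P : ℕ → G} (hP : IsHom6 P) (hi : ∀ v < 64, P v = 1 → v = 0) {u w s : G}
    {M S a ve : ℕ} (hu : Acts P u M) (h3 : ∀ v < 64, app M (app M (app M v)) = v)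
    (hs : Acts P s S) (ss : s * s = 1) (su : s * u * s = u⁻¹) (sw : s * w = w * (s * P ve))
    (hve : app S ve = ve)
    (ha : a < 64) (hv : ve < 64) (hc : u * w = w * u * P a) :
    app M (app M a) ^^^ ve = app M (app M ve) ^^^ app S a := by
  have sP : ∀ v < 64, s * P v * s = P (app S v) := by
    intro v hv
    rw [mul_assoc, hs v hv, ← mul_assoc, ss, one_mul]
  have sw' : s * w * s = w * P ve := by
    rw [sw]
    have := sP ve hv
    rw [hve] at this
    calc w * (s * P ve) * s = w * (s * P ve * s) := by simp only [mul_assoc]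
      _ = w * P ve := by rw [this]
  have lhs : s * (u * w) * s = u⁻¹ * (w * P ve) := by
    calc s * (u * w) * s = (s * u * (s * s)) * w * s := by rw [ss]; simp only [mul_assoc, one_mul]
      _ = (s * u * s) * (s * w * s) := by simp only [mul_assoc]
      _ = _ := by rw [su, sw']
  have rhs : s * (w * u * P a) * s = w * P ve * u⁻¹ * P (app S a) := by
    calc s * (w * u * P a) * s = s * w * (s * s) * u * (s * s) * P a * s := by
          rw [ss]; simp only [mul_assoc, one_mul]
      _ = (s * w * s) * (s * u * s) * (s * P a * s) := by simp only [mul_assoc]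
      _ = _ := by rw [su, sw', sP a ha]
  have E : u⁻¹ * (w * P ve) = w * P ve * u⁻¹ * P (app S a) := by rw [← lhs, ← rhs, hc]
  have hui := acts_inv hu h3
  have h4 : u⁻¹ * w = w * P a * u⁻¹ := by
    rw [inv_mul_eq_iff_eq_mul]
    have h5 : P a * P a = 1 := hP.sq ha
    calc w = w * (P a * P a) := by rw [h5, mul_one]
      _ = w * P a * u⁻¹ * u * P a := by simp only [mul_assoc, inv_mul_cancel_left]
      _ = _ := by
        have h6 : u * (w * P a * u⁻¹) = (u * w) * P a * u⁻¹ := by simp only [mul_assoc]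
        rw [h6, hc]
        have h7 : w * u * P a * P a * u⁻¹ = w := by
          rw [mul_assoc (w * u), h5, mul_one, mul_assoc, mul_inv_cancel, mul_one]
        rw [h7]
        simp only [mul_assoc, inv_mul_cancel_left, h5, mul_one]
  have L : u⁻¹ * (w * P ve) = w * u⁻¹ * P (app M (app M a) ^^^ ve) := by
    rw [hP _ _ (app_lt _ _) hv, ← mul_assoc, h4, mul_assoc w, hui a ha]; simp only [mul_assoc]
  have R : w * P ve * u⁻¹ * P (app S a) = w * u⁻¹ * P (app M (app M ve) ^^^ app S a) := by
    rw [hP _ _ (app_lt _ _) (app_lt _ _), mul_assoc w, hui ve hv]; simp only [mul_assoc]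
  rw [L, R] at E
  exact P_inj hP hi (Nat.xor_lt_two_pow (n := 6) (app_lt _ _) hv)
    (Nat.xor_lt_two_pow (n := 6) (app_lt _ _) (app_lt _ _)) (mul_left_cancel E)

/-- commuting criterion, first form -/
theorem comm0 {P : ℕ → G} (hP : IsHom6 P) {y1 y2 : G} {M1 M2 a v : ℕ}
    (h1 : Acts P y1 M1) (h2 : Acts P y2 M2) (ha : a < 64) (hv : v < 64)
    (hc : y1 * y2 = y2 * y1 * P a)
    (e : app M1 (app M2 v) ^^^ (a ^^^ app M2 v) = app M1 v ^^^ v) :
    y2 * (P v * y1 * P v) = P v * y1 * P v * y2 := by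
  have hx : a ^^^ app M2 v < 64 := Nat.xor_lt_two_pow (n := 6) ha (app_lt _ _)
  have L : y2 * (P v * y1 * P v) = y2 * y1 * P (app M1 v ^^^ v) := by
    rw [hP _ _ (app_lt _ _) hv, h1 v hv]; simp only [mul_assoc]
  have R : P v * y1 * P v * y2 = y2 * y1 * P (app M1 (app M2 v) ^^^ (a ^^^ app M2 v)) := by
    rw [hP _ _ (app_lt _ _) hx, hP _ _ ha (app_lt _ _)]
    calc P v * y1 * P v * y2 = P v * y1 * (P v * y2) := by simp only [mul_assoc]
      _ = P v * (y1 * y2) * P (app M2 v) := by rw [h2 v hv]; simp only [mul_assoc]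
      _ = (P v * y2) * y1 * P a * P (app M2 v) := by rw [hc]; simp only [mul_assoc]
      _ = y2 * (P (app M2 v) * y1) * P a * P (app M2 v) := by rw [h2 v hv]; simp only [mul_assoc]
      _ = _ := by rw [h1 _ (app_lt _ _)]; simp only [mul_assoc]
  rw [L, R, e]

/-- commuting criterion, second form -/
theorem comm1 {P : ℕ → G} (hP : IsHom6 P) {y1 y2 : G} {M1 M2 a v k : ℕ}
    (h1 : Acts P y1 M1) (h2 : Acts P y2 M2) (ha : a < 64) (hv : v < 64) (hk : k < 64)
    (hc : y1 * y2 = y2 * y1 * P a)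
    (e : app M1 (app M2 v) ^^^ (a ^^^ (app M2 (v ^^^ k) ^^^ k)) =
      app M1 (app M2 k ^^^ (k ^^^ v)) ^^^ v) :
    P k * y2 * P k * (P v * y1 * P v) = P v * y1 * P v * (P k * y2 * P k) := by
  have hvk : v ^^^ k < 64 := Nat.xor_lt_two_pow (n := 6) hv hk
  have hkv : k ^^^ v < 64 := Nat.xor_lt_two_pow (n := 6) hk hv
  have hx : app M2 (v ^^^ k) ^^^ k < 64 := Nat.xor_lt_two_pow (n := 6) (app_lt _ _) hk
  have hy : a ^^^ (app M2 (v ^^^ k) ^^^ k) < 64 := Nat.xor_lt_two_pow (n := 6) ha hx
  have hw : app M2 k ^^^ (k ^^^ v) < 64 := Nat.xor_lt_two_pow (n := 6) (app_lt _ _) hkv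
  have L : P k * y2 * P k * (P v * y1 * P v) =
      y2 * y1 * P (app M1 (app M2 k ^^^ (k ^^^ v)) ^^^ v) := by
    rw [hP _ _ (app_lt _ _) hv]
    calc P k * y2 * P k * (P v * y1 * P v) = y2 * (P (app M2 k) * (P k * P v)) * y1 * P v := by
          rw [h2 k hk]; simp only [mul_assoc]
      _ = y2 * (P (app M2 k ^^^ (k ^^^ v)) * y1) * P v := by
          rw [← hP k v hk hv, ← hP _ _ (app_lt _ _) hkv]; simp only [mul_assoc]
      _ = _ := by rw [h1 _ hw]; simp only [mul_assoc]
  have R : P v * y1 * P v * (P k * y2 * P k) =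
      y2 * y1 * P (app M1 (app M2 v) ^^^ (a ^^^ (app M2 (v ^^^ k) ^^^ k))) := by
    rw [hP _ _ (app_lt _ _) hy, hP _ _ ha hx, hP _ _ (app_lt _ _) hk]
    calc P v * y1 * P v * (P k * y2 * P k) = P v * y1 * ((P v * P k) * y2) * P k := by
          simp only [mul_assoc]
      _ = P v * (y1 * y2) * P (app M2 (v ^^^ k)) * P k := by
          rw [← hP v k hv hk, h2 _ hvk]; simp only [mul_assoc]
      _ = (P v * y2) * y1 * P a * P (app M2 (v ^^^ k)) * P k := by rw [hc]; simp only [mul_assoc]
      _ = y2 * (P (app M2 v) * y1) * P a * P (app M2 (v ^^^ k)) * P k := by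
          rw [h2 v hv]; simp only [mul_assoc]
      _ = _ := by rw [h1 _ (app_lt _ _)]; simp only [mul_assoc]
  rw [L, R, e]


/-! ### the finite check -/

/-- `V2`-code of an element of `F` to its `V1`-code -/
def fphi (b : ℕ) : ℕ := Nat.xor (Nat.shiftLeft (Nat.land b 3) 1)
  (Nat.shiftLeft (Nat.shiftRight b 2) 4)

private noncomputable def _root_.Cfsg.Agent.KO258775d.k16 : type_of% @Bool.and := @(fun x0 x1 => @Bool.rec.{1} @(fun x2 => @Bool) @Bool.false @x1 @x0)
private theorem _root_.Cfsg.Agent.KO258775d.e16 : @Bool.and = @_root_.Cfsg.Agent.KO258775d.k16 := by delta _root_.Cfsg.Agent.KO258775d.k16; rfl'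
private noncomputable def _root_.Cfsg.Agent.KO258775d.k57 : (by first | exact type_of% @Cfsg.Agent.Held.Acts.v1c | exact Unit : Sort _) := by first | (refine @Subtype.val _ (fun g => @Cfsg.Agent.Held.Acts.v1c = @g) (@Subtype.mk _ _ (@(fun x0 => @Nat.xor (nat_lit 17043521) (@Nat.xor (@Nat.shiftLeft (@Nat.land @x0 (nat_lit 7)) (nat_lit 2)) (@Nat.shiftLeft (@Nat.land (@Nat.shiftRight @x0 (nat_lit 3)) (nat_lit 7)) (nat_lit 7))))) ?_); rfl') | exact @Cfsg.Agent.Held.Acts.v1c | exact ()
private theorem _root_.Cfsg.Agent.KO258775d.e57 : (by first | exact @Cfsg.Agent.Held.Acts.v1c = @_root_.Cfsg.Agent.KO258775d.k57 | exact True : Prop) := by first | (delta _root_.Cfsg.Agent.KO258775d.k57; exact @Subtype.property _ (fun g => @Cfsg.Agent.Held.Acts.v1c = @g) _) | rfl | trivial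
private noncomputable def _root_.Cfsg.Agent.KO258775d.k58 : (by first | exact type_of% @Cfsg.Agent.Held.Acts.v2c | exact Unit : Sort _) := by first | (refine @Subtype.val _ (fun g => @Cfsg.Agent.Held.Acts.v2c = @g) (@Subtype.mk _ _ (@(fun x0 => @Nat.xor (nat_lit 17043521) (@Nat.xor (@Nat.shiftLeft (@Nat.land @x0 (nat_lit 3)) (nat_lit 3)) (@Nat.xor (@Nat.shiftLeft (@Nat.land (@Nat.shiftRight @x0 (nat_lit 2)) (nat_lit 3)) (nat_lit 8)) (@Nat.shiftLeft (@Nat.land (@Nat.shiftRight @x0 (nat_lit 4)) (nat_lit 3)) (nat_lit 13)))))) ?_); rfl') | exact @Cfsg.Agent.Held.Acts.v2c | exact ()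
private theorem _root_.Cfsg.Agent.KO258775d.e58 : (by first | exact @Cfsg.Agent.Held.Acts.v2c = @_root_.Cfsg.Agent.KO258775d.k58 | exact True : Prop) := by first | (delta _root_.Cfsg.Agent.KO258775d.k58; exact @Subtype.property _ (fun g => @Cfsg.Agent.Held.Acts.v2c = @g) _) | rfl | trivial
private noncomputable def _root_.Cfsg.Agent.KO258775d.k64 : (by first | exact type_of% @Cfsg.Agent.Held.ConfigThm.fphi | exact Unit : Sort _) := by first | (refine @Subtype.val _ (fun g => @Cfsg.Agent.Held.ConfigThm.fphi = @g) (@Subtype.mk _ _ (@(fun x0 => @Nat.xor (@Nat.shiftLeft (@Nat.land @x0 (nat_lit 3)) (nat_lit 1)) (@Nat.shiftLeft (@Nat.shiftRight @x0 (nat_lit 2)) (nat_lit 4)))) ?_); rfl') | exact @Cfsg.Agent.Held.ConfigThm.fphi | exact ()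
private theorem _root_.Cfsg.Agent.KO258775d.e64 : (by first | exact @Cfsg.Agent.Held.ConfigThm.fphi = @_root_.Cfsg.Agent.KO258775d.k64 | exact True : Prop) := by first | (delta _root_.Cfsg.Agent.KO258775d.k64; exact @Subtype.property _ (fun g => @Cfsg.Agent.Held.ConfigThm.fphi = @g) _) | rfl | trivial

theorem inter_chk : allb 64 (fun a => allb 64 fun b => imp (Nat.beq (v1c a) (v2c b))
    (Nat.blt b 16 && Nat.beq a (fphi b))) = true := by (first | (rewrite [Cfsg.Agent.KO258775d.e0, Cfsg.Agent.KO258775d.e4, Cfsg.Agent.KO258775d.e57, Cfsg.Agent.KO258775d.e58, Cfsg.Agent.KO258775d.e16, Cfsg.Agent.KO258775d.e64]; decide +kernel) | decide +kernel)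

theorem inter {a b : ℕ} (ha : a < 64) (hb : b < 64) (h : v1c a = v2c b) : b < 16 ∧ a = fphi b := by
  have := imp_mp (of_allb (of_allb inter_chk a ha) b hb) (by rw [h]; exact Nat.beq_refl _)
  rw [Bool.and_eq_true, Nat.blt_eq, Nat.beq_eq] at this
  exact this

/-- code of the commutator of `x34` and `y2` in `V1` -/
def ve1 (t : Bool) : ℕ := cond t 40 0
/-- code of the commutator of `x01` and `y1` in `V2` -/
def ve2 (t : Bool) : ℕ := cond t 17 0

/-- the conclusion of the check -/
def final (t1 t2 : Bool) (a : ℕ) : Prop :=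
  (app (A11 t1) (app A21 (vf t1 t2)) ^^^ (a ^^^ app A21 (vf t1 t2)) =
      app (A11 t1) (vf t1 t2) ^^^ vf t1 t2) ∨
  (app (A11 t1) (app A21 (vf t1 t2)) ^^^ (a ^^^ (app A21 (vf t1 t2 ^^^ 4) ^^^ 4)) =
      app (A11 t1) (app A21 4 ^^^ (4 ^^^ vf t1 t2)) ^^^ vf t1 t2)

instance (t1 t2 : Bool) (a : ℕ) : Decidable (final t1 t2 a) := by unfold final; infer_instance

theorem final_chk : ∀ t1 t2 : Bool, ∀ b < 16,
    app (A11 t1) (app (A11 t1) (fphi b)) ^^^ ve1 t2 =
      app (A11 t1) (app (A11 t1) (ve1 t2)) ^^^ app S34 (fphi b) →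
    app (A22 t2) (app (A22 t2) b) ^^^ ve2 t1 =
      app (A22 t2) (app (A22 t2) (ve2 t1)) ^^^ app S01 b → final t1 t2 (fphi b) := by
  decide +kernel


/-! ### the theorem -/

theorem cube1 : ∀ t : Bool, ∀ v < 64, app (A11 t) (app (A11 t) (app (A11 t) v)) = v := by
  decide +kernel

theorem cube2 : ∀ t : Bool, ∀ v < 64, app (A22 t) (app (A22 t) (app (A22 t) v)) = v := by
  decide +kernel

theorem ph_sq (h : Emb z ph) {a : ℕ} (hc : isC a a = true) : ph a * ph a = 1 := by
  have ha : C a := C_of_isC hc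
  have e : mu a a = e1 := by
    unfold isC at hc
    simp only [Bool.and_eq_true] at hc
    exact Nat.eq_of_beq_eq_true hc.1.2
  rw [← h.mul ha ha, e, ph_e1 h]

theorem p1_ve (h : Emb z ph) (t : Bool) :
    P1 ph (ve1 t) = tw t (ph (X 1 4) * ph (X 1 2)) := by
  cases t
  · exact (hom1 h).zero
  · show P1 ph (32 ^^^ 8) = _
    rw [hom1 h 32 8 (by norm_num) (by norm_num), p1_32, p1_8]; rfl

theorem p2_ve (h : Emb z ph) (t : Bool) :
    P2 ph (ve2 t) = tw t (ph (X 0 3) * ph (X 2 3)) := by
  cases t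
  · exact (hom2 h).zero
  · show P2 ph (1 ^^^ 16) = _
    rw [hom2 h 1 16 (by norm_num) (by norm_num), p2_1, p2_16]; rfl

theorem comm_elt (h : Emb z ph) {t1 t2 : Bool} {y1 y2 : G} (s1 : SideDef.Side z ph t1 y1)
    (s2 : Side2 z ph t2 y2) : ∃ b < 16, y1 * y2 = y2 * y1 * P1 ph (fphi b) ∧
      final t1 t2 (fphi b) := by
  have a11 := side_acts1 h s1
  have a12 := side_acts2 h s1
  have a21 := side2_acts1 h s2
  have a22 := side2_acts2 h s2
  have q1 : ∀ v < 64, P1 ph v * ((y2 * y1)⁻¹ * (y1 * y2)) = (y2 * y1)⁻¹ * (y1 * y2) * P1 ph v := by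
    apply cent_of_same (F := fun v => app A21 (app (A11 t1) v)) (fun v _ => app_lt _ _)
      (cube_chk1 t1)
    · intro v hv
      rw [← mul_assoc, a11 v hv, mul_assoc, a21 _ (app_lt _ _), ← mul_assoc]
    · intro v hv
      rw [comm_chk1 t1 v hv, ← mul_assoc, a21 v hv, mul_assoc, a11 _ (app_lt _ _), ← mul_assoc]
  have q2 : ∀ v < 64, P2 ph v * ((y2 * y1)⁻¹ * (y1 * y2)) = (y2 * y1)⁻¹ * (y1 * y2) * P2 ph v := by
    apply cent_of_same (F := fun v => app (A22 t2) (app A12 v)) (fun v _ => app_lt _ _)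
      (cube_chk2 t2)
    · intro v hv
      rw [← mul_assoc, a12 v hv, mul_assoc, a22 _ (app_lt _ _), ← mul_assoc]
    · intro v hv
      rw [comm_chk2 t2 v hv, ← mul_assoc, a22 v hv, mul_assoc, a12 _ (app_lt _ _), ← mul_assoc]
  obtain ⟨a, ha, ea⟩ := cent1 h _ q1
  obtain ⟨b, hb, eb⟩ := cent2 h _ q2
  have eab : v1c a = v2c b := by
    apply h.inj (v1_C ha) (v2_C hb)
    exact ea.symm.trans eb
  obtain ⟨hb16, rfl⟩ := inter ha hb eab
  have hc1 : y1 * y2 = y2 * y1 * P1 ph (fphi b) := by
    rw [← ea, mul_inv_cancel_left]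
  have hc2 : y2 * y1 = y1 * y2 * P2 ph b := by
    have h5 : P2 ph b * P2 ph b = 1 := (hom2 h).sq hb
    have h6 : y1 * y2 = y2 * y1 * P2 ph b := by rw [← eb, mul_inv_cancel_left]
    rw [h6, mul_assoc, h5, mul_one]
  refine ⟨b, hb16, hc1, ?_⟩
  apply final_chk t1 t2 b hb16
  · refine eq_of_conj (s := ph (X 3 4)) (hom1 h) (inj1 h) a11 (cube1 t1) (acts1_of_chk h
      (CX (by decide +kernel)) (by decide +kernel)) (ph_sq h (by decide +kernel)) s1.inv34 ?_ ?_ ha ?_
      hc1
    · rw [p1_ve h]; exact s2.b34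
    · cases t2 <;> decide +kernel
    · cases t2 <;> decide +kernel
  · refine eq_of_conj (s := ph (X 0 1)) (hom2 h) (inj2 h) a22 (cube2 t2) (acts2_of_chk h
      (CX (by decide +kernel)) (by decide +kernel)) (ph_sq h (by decide +kernel)) s2.inv01 ?_ ?_ hb ?_
      hc2
    · rw [p2_ve h]; exact s1.a01
    · cases t1 <;> decide +kernel
    · cases t1 <;> decide +kernel

/-- **Existence of a commuting configuration.** -/
theorem config (h : Emb z ph) {t1 t2 : ℕ} (h1 : t1 = 0 ∨ t1 = 1) (h2 : t2 = 0 ∨ t2 = 1)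
    {y1 y2 : G} (s1 : Config.Side (xs ph) t1 y1) (s2 : Config.Side (Config.mir (xs ph)) t2 y2) :
    ∃ y2', (y2' = y2 ∨ y2' = z * y2 * z) ∧
      Config.Config (xs ph) t1 t2 (f0 ph t1 t2) y1 y2' := by
  obtain ⟨b, hb, hc, hf⟩ := comm_elt h (toSide h h1 s1) (toSide2 h h2 s2)
  have a11 := side_acts1 h (toSide h h1 s1)
  have a21 := side2_acts1 h (toSide2 h h2 s2)
  have hz : P1 ph 4 = z := by rw [p1_4, ph_z h]
  have hzz : z * z = 1 := by rw [← hz]; exact (hom1 h).sq (by norm_num)
  have hlt : ∀ t1 t2 : Bool, vf t1 t2 < 64 := by decide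
  have hfb : ∀ b < 16, fphi b < 64 := by decide
  have ezf := f0_eq h h1 h2
  rcases hf with hf | hf
  · refine ⟨y2, Or.inl rfl, s1, s2, ?_⟩
    rw [ezf]
    exact comm0 (hom1 h) a11 a21 (hfb b hb) (hlt _ _) hc hf
  · refine ⟨z * y2 * z, Or.inr rfl, s1, ?_, ?_⟩
    · have cz : ∀ i j, isC (X i j) (X i j) = true → xs ph i j * z = z * xs ph i j :=
        fun i j hij => h.comm (CX hij)
      refine side_conj hzz ?_ ?_ ?_ ?_ ?_ ?_ ?_ s2
      · exact cz 0 1 (by decide +kernel)
      · intro i hi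
        interval_cases i
        · exact cz 1 4 (by decide +kernel)
        · exact cz 1 3 (by decide +kernel)
        · exact cz 1 2 (by decide +kernel)
      · intro i hi
        interval_cases i
        · exact cz 0 4 (by decide +kernel)
        · exact cz 0 3 (by decide +kernel)
        · exact cz 0 2 (by decide +kernel)
      · exact cz 3 4 (by decide +kernel)
      · exact cz 2 4 (by decide +kernel)
      · exact cz 2 3 (by decide +kernel)
      · exact cz 3 2 (by decide +kernel)
    · rw [ezf, ← hz]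
      exact comm1 (hom1 h) a11 a21 (hfb b hb) (hlt _ _) (by norm_num) hc hf

end Cfsg.Agent.Held.ConfigThm
end

private theorem dce_539761c6f8de : _root_.True := by
  try have : _root_.True := by simp only [_root_.Cfsg.Agent.Held.NoBModel.P0.eq_1]
  try have : _root_.True := by simp only [_root_.Cfsg.Agent.SporadicRecognition.HeldModel.R1.eq_1]
  try have : _root_.True := by simp only [_root_.Cfsg.Agent.Held.Pattern.cnt.eq_1]
  try have : _root_.True := by simp only [_root_.Cfsg.Agent.Held.NoBModel.EB.eq_1]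
  try have : _root_.True := by simp only [_root_.Cfsg.Agent.Held.NoBModel.im.eq_1]
  try have : _root_.True := by simp only [_root_.Cfsg.Agent.Held.WordCore.appW.eq_1]
  try have : _root_.True := by simp only [_root_.Cfsg.Agent.Held.NoBModel.pp.eq_1]
  try have : _root_.True := by simp only [_root_.Cfsg.Agent.SporadicRecognition.HeldModel.zz.eq_1]
  try have : _root_.True := by simp only [_root_.Cfsg.Agent.Held.WordCore.evalW.eq_2]
  try have : _root_.True := by simp only [_root_.Cfsg.Agent.Held.Pattern.num.eq_1]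
  try have : _root_.True := by simp only [_root_.Cfsg.Agent.Held.SideDef.tw.eq_1]
  try have : _root_.True := by simp only [_root_.Cfsg.Agent.SporadicRecognition.HeldModel.V1.eq_1]
  try have : _root_.True := by simp only [_root_.Cfsg.Agent.Held.NoBModel.bb.eq_1]
  try have : _root_.True := by simp only [_root_.Cfsg.Agent.SporadicRecognition.HeldModel.V2.eq_1]
  try have : _root_.True := by simp only [_root_.Cfsg.Agent.SporadicRecognition.HeldModel.R2.eq_1]
  try have : _root_.True := by simp only [_root_.Cfsg.Agent.Held.WordCore.appW.eq_2]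
  try have : _root_.True := by simp only [_root_.Cfsg.Agent.SporadicRecognition.HeldModel.T0.eq_1]
  try have : _root_.True := by simp only [_root_.Cfsg.Agent.Held.Pattern.F.eq_1]
  try have : _root_.True := by simp only [_root_.Cfsg.Agent.Held.WordCore.evalW.eq_1]
  try have : _root_.True := by simp only [_root_.Cfsg.Agent.SporadicRecognition.HeldModel.PT.eq_1]
  try have : _root_.True := by simp only [_root_.Cfsg.Agent.Held.WordCore.evalW.eq_def]
  try have : _root_.True := by simp only [_root_.Cfsg.Agent.Held.WordCore.appW.eq_def]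
  try have : _root_.True := by simp only [_root_.Cfsg.Agent.SporadicRecognition.HeldModel.x.congr_simp]
  try have : _root_.True := by simp only [_root_.Cfsg.Agent.SporadicRecognition.HeldModel.FF.eq_1]
  exact _root_.True.intro
end

-- part: Held/Closing_mg
section
prune_inst 0x4000000000000000000000000002000000000000000000040000600020000020000000000000000000020000000000000000050001000000000000000000000000010000000a000000000009002000000000000000000000000000000000000000000000
set_option linter.all false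
open scoped Cfsg.Agent.FastGrp

/-- decoders of the packed data (elaboration time only) -/
private noncomputable def pk61d (b S i : Nat) : Nat := Nat.mod (Nat.shiftRight S (Nat.mul b i)) (Nat.shiftLeft (nat_lit 1) b)
private noncomputable def pk61c {α : Type} (t : Nat) (a : α) (f : Nat → α) : α := Nat.rec a (fun k _ => f k) t
private noncomputable def pk61f {α : Type} (t : Nat) (f : Nat → α) : α := Nat.rec (f Nat.zero) (fun k _ => f (Nat.succ k)) t
private noncomputable def pk61l {α : Type} (f : Nat → α) (s e : Nat) (tl : List α) : List α :=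
  pk61f e fun e => Nat.rec tl (fun k ih => List.cons (pk61f (Nat.sub e (Nat.succ k)) f) ih) (Nat.sub e s)
private noncomputable def pk61r {α : Type} (F : (Nat → α) → Nat → α) (d : α) (n : Nat) : Nat → α :=
  Nat.rec (fun _ => d) (fun _ ih => F ih) n

private noncomputable def pk61o {α : Type} (O : (n : Nat) → OfNat α n → α) (I : (n : Nat) → OfNat α n) (t : Nat) : α :=
  pk61c t (O (nat_lit 0) (I (nat_lit 0))) fun k => O (Nat.succ k) (I (Nat.succ k))

-- part: Held/ClosingT
section
/-!
# The codes of the unitriangular group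

`TC c` : `c = dec i` for some `i < 1024`. Closure under products.
-/

set_option autoImplicit false

namespace Cfsg.Agent.Held.ClosingT

open Cfsg.Agent.Lib.F2Mat Cfsg.Agent.Held.Code Cfsg.Agent.Held.ClosingCode

/-- unitriangular codes -/
def TC (c : ℕ) : Prop := ∃ i < 1024, dec i = c

theorem idx_lt (c : ℕ) : idx c < 1024 := by
  have h1 : c / 2 % 16 < 16 := Nat.mod_lt _ (by norm_num)
  have h2 : c / 128 % 8 < 8 := Nat.mod_lt _ (by norm_num)
  have h3 : c / 8192 % 4 < 4 := Nat.mod_lt _ (by norm_num)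
  have h4 : c / 524288 % 2 < 2 := Nat.mod_lt _ (by norm_num)
  show c / 2 % 16 + 16 * (c / 128 % 8) + 128 * (c / 8192 % 4) + 512 * (c / 524288 % 2) < 1024
  (clear * -; solve | lia | omega)

/-- Boolean test for `TC` -/
def isT (c : ℕ) : Bool := Nat.beq (dec (idx c)) c

theorem TC_of_isT {c : ℕ} (h : isT c = true) : TC c :=
  ⟨idx c, idx_lt c, Nat.eq_of_beq_eq_true h⟩

theorem dec_eq (i : ℕ) : dec i = 17043521 + 2 * (i % 16) + 128 * (i / 16 % 8) +
    8192 * (i / 128 % 4) + 524288 * (i / 512 % 2) := rfl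

/-- mask of the lower triangular entries -/
abbrev lm : ℕ := 33004641

theorem land_dec : allb 1024 (fun i => Nat.beq (Nat.land (dec i) lm) 17043521) = true := by
  decide +kernel

theorem lm_ent : ∀ i j : Fin 5, j ≤ i → Nat.testBit lm (5 * i + j) = true := by decide +kernel

theorem lt_of_TC {c : ℕ} (h : TC c) : c < 2 ^ 25 := by
  obtain ⟨i, hi, rfl⟩ := h
  rw [dec_eq]
  have h1 : i % 16 < 16 := Nat.mod_lt _ (by norm_num)
  have h2 : i / 16 % 8 < 8 := Nat.mod_lt _ (by norm_num)
  have h3 : i / 128 % 4 < 4 := Nat.mod_lt _ (by norm_num)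
  have h4 : i / 512 % 2 < 2 := Nat.mod_lt _ (by norm_num)
  norm_num
  (solve | lia | omega)

/-- unitriangular matrix -/
def U (c : ℕ) : Prop := c < 2 ^ 25 ∧ ∀ i j : Fin 5, j ≤ i → toMat 5 c i j = if i = j then 1 else 0

theorem U_of_TC {c : ℕ} (h : TC c) : U c := by
  refine ⟨lt_of_TC h, ?_⟩
  obtain ⟨k, hk, rfl⟩ := h
  intro i j hij
  have h1 := Nat.eq_of_beq_eq_true (of_allb land_dec k hk)
  have h2 : (dec k).testBit (5 * i + j) = Nat.testBit e1 (5 * i + j) := by
    have h3 : Nat.testBit (Nat.land (dec k) lm) (5 * i + j) = Nat.testBit 17043521 (5 * i + j) := by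
      rw [h1]
    have h4 : Nat.testBit (Nat.land (dec k) lm) (5 * i + j) =
        ((dec k).testBit (5 * i + j) && Nat.testBit lm (5 * i + j)) := Nat.testBit_land _ _ _
    rw [h4, lm_ent i j hij, Bool.and_true] at h3
    exact h3
  rw [← e1_ent i j]
  show bz _ = bz _
  rw [h2]

theorem digits {a b d f : ℕ} (ha : a < 16) (hb : b < 8) (hd : d < 4) (hf : f < 2) :
    a + 16 * b + 128 * d + 512 * f < 1024 ∧ (a + 16 * b + 128 * d + 512 * f) % 16 = a ∧
    (a + 16 * b + 128 * d + 512 * f) / 16 % 8 = b ∧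
    (a + 16 * b + 128 * d + 512 * f) / 128 % 4 = d ∧
    (a + 16 * b + 128 * d + 512 * f) / 512 % 2 = f := by
  have e1 : (a + 16 * b + 128 * d + 512 * f) / 16 = b + 8 * d + 32 * f := by (solve | lia | omega)
  have e2 : (a + 16 * b + 128 * d + 512 * f) / 128 = d + 4 * f := by (clear * - ha hb; omega)
  have e3 : (a + 16 * b + 128 * d + 512 * f) / 512 = f := by (clear * - hd e2; omega)
  rw [e1, e2, e3]
  refine ⟨by omega, by omega, by (clear * - hb; omega), by omega, by omega⟩

theorem TC_of_U {c : ℕ} (h : U c) : TC c := by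
  obtain ⟨hc, hU⟩ := h
  have hz : ∀ i j : Fin 5, j < i → (row c i).testBit j = false := by
    intro i j hij
    have h1 := hU i j hij.le
    rw [if_neg (by rintro rfl; exact lt_irrefl _ hij), ← bz_row] at h1
    exact bz_eq_zero h1
  have ho : ∀ i : Fin 5, (row c i).testBit i = true := by
    intro i
    have h1 := hU i i le_rfl
    rw [if_pos rfl, ← bz_row] at h1
    exact bz_eq_one h1
  have l0 := row_lt c 0
  have l1 := row_lt c 1
  have l2 := row_lt c 2
  have l3 := row_lt c 3
  have l4 := row_lt c 4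
  have k0 : ∀ r < 32, Nat.testBit r 0 = true → r % 2 = 1 := by decide
  have k1 : ∀ r < 32, Nat.testBit r 0 = false → Nat.testBit r 1 = true → r % 4 = 2 := by decide
  have k2 : ∀ r < 32, Nat.testBit r 0 = false → Nat.testBit r 1 = false →
    Nat.testBit r 2 = true → r % 8 = 4 := by decide
  have k3 : ∀ r < 32, Nat.testBit r 0 = false → Nat.testBit r 1 = false →
    Nat.testBit r 2 = false → Nat.testBit r 3 = true → r % 16 = 8 := by decide
  have k4 : ∀ r < 32, Nat.testBit r 0 = false → Nat.testBit r 1 = false →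
    Nat.testBit r 2 = false → Nat.testBit r 3 = false → Nat.testBit r 4 = true → r = 16 := by
    intro r hr
    interval_cases r <;> simp (config := { decide := true }) only []
  have r0 := k0 _ l0 (ho 0)
  have r1 := k1 _ l1 (hz 1 0 (by decide)) (ho 1)
  have r2 := k2 _ l2 (hz 2 0 (by decide)) (hz 2 1 (by decide)) (ho 2)
  have r3 := k3 _ l3 (hz 3 0 (by decide)) (hz 3 1 (by decide)) (hz 3 2 (by decide)) (ho 3)
  have r4 := k4 _ l4 (hz 4 0 (by decide)) (hz 4 1 (by decide)) (hz 4 2 (by decide))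
    (hz 4 3 (by decide)) (ho 4)
  have hr := eq_rows hc
  rw [r4] at hr
  generalize row c 0 = x0 at *
  generalize row c 1 = x1 at *
  generalize row c 2 = x2 at *
  generalize row c 3 = x3 at *
  obtain ⟨a, ha, rfl⟩ : ∃ a < 16, x0 = 2 * a + 1 := ⟨x0 / 2, by omega, by omega⟩
  obtain ⟨b, hb, rfl⟩ : ∃ b < 8, x1 = 4 * b + 2 := ⟨x1 / 4, by omega, by omega⟩
  obtain ⟨d, hd, rfl⟩ : ∃ d < 4, x2 = 8 * d + 4 := ⟨x2 / 8, by omega, by omega⟩
  obtain ⟨f, hf, rfl⟩ : ∃ f < 2, x3 = 16 * f + 8 := ⟨x3 / 16, by omega, by omega⟩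
  obtain ⟨h0, h1, h2, h3, h4⟩ := digits ha hb hd hf
  refine ⟨a + 16 * b + 128 * d + 512 * f, h0, ?_⟩
  rw [dec_eq, hr, h1, h2, h3, h4]
  ring

theorem U.mul {a b : ℕ} (ha : U a) (hb : U b) : U (mu a b) := by
  refine ⟨mu_lt _ _, ?_⟩
  intro i j hij
  rw [mu_ent]
  rw [Finset.sum_eq_single j]
  · rw [hb.2 j j le_rfl, if_pos rfl, mul_one]
    exact ha.2 i j hij
  · intro k _ hk
    rcases lt_or_gt_of_ne hk with h | h
    · rw [ha.2 i k (le_trans h.le hij), if_neg (by rintro rfl; exact absurd hij (not_le.2 h)),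
        zero_mul]
    · rw [hb.2 k j h.le, if_neg hk, mul_zero]
  · intro h; exact absurd (Finset.mem_univ _) h

theorem TC.mul {a b : ℕ} (ha : TC a) (hb : TC b) : TC (mu a b) :=
  TC_of_U ((U_of_TC ha).mul (U_of_TC hb))

theorem TC_e1 : TC e1 := TC_of_isT (by decide +kernel)
theorem TC_tt : TC tt := TC_of_isT (by decide +kernel)
theorem TC_zc : TC zc := TC_of_isT (by decide +kernel)

theorem zc_comm_all : allb 1024 (fun i => force (dec i) fun c => Nat.beq (_root_.Cfsg.Agent.Held.ClosingCode.mt c zc) (_root_.Cfsg.Agent.Held.ClosingCode.mt zc c)) = true := by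
  decide +kernel

theorem zc_comm {c : ℕ} (h : TC c) : mu c zc = mu zc c := by
  obtain ⟨i, hi, rfl⟩ := h
  have h1 := of_allb zc_comm_all i hi
  rw [force_eq] at h1
  have h2 := Nat.eq_of_beq_eq_true h1
  rwa [mt_eq, mt_eq] at h2

end Cfsg.Agent.Held.ClosingT
end

-- part: Held/MaxStabC
section
/-!
# Maximal 2-subgroups in `H ∩ H^g`, version inside a subgroup of the normaliser

`R` a maximal stabiliser (`IsMaxStab H R g`), `N ≤ N_G(R)` with `N` not contained in `H`. Then
`(H ∩ N)R/R` is strongly embedded in `N/(N ∩ R)`.  With `N = C_G(R)` this gives a conjugating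
element centralising `R`.
-/

set_option autoImplicit false

namespace Cfsg.Agent.Held.MaxStabC

open Cfsg Subgroup Cfsg.Agent.Held.MaxStab

variable {G : Type*} [Group G]

/-- `R ∩ N` as a subgroup of `N` -/
abbrev RN (R N : Subgroup G) : Subgroup N := R.subgroupOf N

theorem RN_normal {R N : Subgroup G} (hN : N ≤ normalizer (R : Set G)) : (RN R N).Normal := by
  constructor
  intro n hn m
  have h1 : (n : G) ∈ R := hn
  have h2 : (m : G) ∈ normalizer (R : Set G) := hN m.2
  show (m : G) * n * (m : G)⁻¹ ∈ R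
  exact (Subgroup.mem_normalizer_iff.1 h2 n).1 h1

/-- the image of `H ∩ N` in `N/(R ∩ N)` -/
def KN (H R N : Subgroup G) [(RN R N).Normal] : Subgroup (N ⧸ RN R N) :=
  (H.subgroupOf N).map (QuotientGroup.mk' (RN R N))

theorem mem_KN {H R N : Subgroup G} [(RN R N).Normal] (hRH : R ≤ H) (n : N) :
    (QuotientGroup.mk' (RN R N) n) ∈ KN H R N ↔ (n : G) ∈ H := by
  constructor
  · rintro ⟨m, hm, hmn⟩
    have h1 : (m : N)⁻¹ * n ∈ RN R N := QuotientGroup.eq.1 hmn
    have h2 : ((m : N) : G)⁻¹ * n ∈ R := h1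
    have h3 : (n : G) = m * ((m : G)⁻¹ * n) := by group
    rw [h3]
    exact H.mul_mem hm (hRH h2)
  · intro hn
    exact ⟨n, hn, rfl⟩

theorem orderOf_mk {R N : Subgroup G} [(RN R N).Normal] (n : N) (h1 : (n : G) ∉ R)
    (h2 : (n : G) * n ∈ R) : orderOf (QuotientGroup.mk' (RN R N) n) = 2 := by
  apply orderOf_eq_prime
  · rw [← map_pow]
    show ((n ^ 2 : N) : N ⧸ RN R N) = 1
    rw [QuotientGroup.eq_one_iff]
    show ((n ^ 2 : N) : G) ∈ R
    rw [pow_two]; exact h2
  · intro h3
    apply h1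
    have h4 : ((n : N) : N ⧸ RN R N) = 1 := h3
    rw [QuotientGroup.eq_one_iff] at h4
    exact h4

theorem of_orderOf_mk {R N : Subgroup G} [(RN R N).Normal] (n : N)
    (h : orderOf (QuotientGroup.mk' (RN R N) n) = 2) : (n : G) ∉ R ∧ (n : G) * n ∈ R := by
  constructor
  · intro h1
    have h2 : QuotientGroup.mk' (RN R N) n = 1 := (QuotientGroup.eq_one_iff (N := RN R N) n).2 h1
    rw [h2, orderOf_one] at h
    exact absurd h (by norm_num)
  · have h1 : (QuotientGroup.mk' (RN R N) n) ^ 2 = 1 := by rw [← h]; exact pow_orderOf_eq_one _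
    rw [← map_pow] at h1
    have h2 : (n ^ 2 : N) ∈ RN R N := (QuotientGroup.eq_one_iff (N := RN R N) (n ^ 2)).1 h1
    have h3 : ((n ^ 2 : N) : G) ∈ R := h2
    rwa [pow_two] at h3

/-- `K = (H ∩ N)R/R` is strongly embedded. -/
theorem stronglyEmbedded [Finite G] {H R N : Subgroup G} {g : G} [(RN R N).Normal]
    (h : IsMaxStab H R g) (hN : N ≤ normalizer (R : Set G))
    (b : G) (hbN : b ∈ N) (hbH : b ∉ H)
    (a : G) (haN : a ∈ N) (haH : a ∈ H) (haR : a ∉ R) (haa : a * a ∈ R) :
    IsStronglyEmbedded (KN H R N) := by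
  refine ⟨?_, ?_, ?_⟩
  · intro htop
    have h1 : QuotientGroup.mk' (RN R N) ⟨b, hbN⟩ ∈ KN H R N := by rw [htop]; trivial
    exact hbH ((mem_KN h.le ⟨b, hbN⟩).1 h1)
  · have h1 : orderOf (⟨QuotientGroup.mk' (RN R N) ⟨a, haN⟩, (mem_KN h.le ⟨a, haN⟩).2 haH⟩ :
        KN H R N) = 2 := by
      rw [Subgroup.orderOf_mk]
      exact orderOf_mk ⟨a, haN⟩ haR haa
    rw [even_iff_two_dvd, ← h1]
    exact _root_.orderOf_dvd_natCard _
  · intro y hy
    obtain ⟨n, rfl⟩ := QuotientGroup.mk'_surjective (RN R N) y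
    rw [← Nat.not_even_iff_odd, even_iff_two_dvd]
    intro hdvd
    have f2 : Fact (Nat.Prime 2) := ⟨Nat.prime_two⟩
    obtain ⟨w, hw⟩ := exists_prime_orderOf_dvd_card' 2 hdvd
    obtain ⟨m, hm⟩ := QuotientGroup.mk'_surjective (RN R N) (w : N ⧸ RN R N)
    have hw1 : orderOf (w : N ⧸ RN R N) = 2 := by rw [← hw]; exact Subgroup.orderOf_coe w
    have hmK : QuotientGroup.mk' (RN R N) m ∈ KN H R N := by
      rw [hm]; exact w.2.1
    have hmH : (m : G) ∈ H := (mem_KN h.le m).1 hmK
    obtain ⟨hmR, hmm⟩ := of_orderOf_mk m (by rw [hm]; exact hw1)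
    have hnH : (n : G) ∉ H := by
      intro h1
      exact hy ((mem_KN h.le n).2 h1)
    have hmN : (m : G) ∈ normalizer (R : Set G) := hN m.2
    have hnN : (n : G) ∈ normalizer (R : Set G) := hN n.2
    have hmn : (n : G)⁻¹ * m * n ∈ H := by
      obtain ⟨v, hv, hvw⟩ := w.2.2
      have h1 : (QuotientGroup.mk' (RN R N) n) * v * (QuotientGroup.mk' (RN R N) n)⁻¹ =
          QuotientGroup.mk' (RN R N) m := by
        rw [hm]; exact hvw
      have h2 : v = QuotientGroup.mk' (RN R N) (n⁻¹ * m * n) := by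
        rw [map_mul, map_mul, ← h1, map_inv]; group
      rw [h2] at hv
      exact (mem_KN h.le (n⁻¹ * m * n)).1 hv
    have h2 := h.max (R ⊔ zpowers (m : G)) n (isPGroup_adjoin R h.two m hmN hmm) hnH
      (sup_le h.le (by rw [zpowers_le]; exact hmH)) (by
        have h3 : (R ⊔ zpowers (m : G)) ≤ H.map (MulAut.conj (n : G)).toMonoidHom := by
          apply sup_le
          · intro x hx
            have hx' : (n : G)⁻¹ * x * n ∈ R := by
              have h5 := (Subgroup.mem_normalizer_iff.1 ((normalizer (R : Set G)).inv_mem hnN) x).1 hx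
              simpa only [_root_.inv_inv] using h5
            exact ⟨(n : G)⁻¹ * x * n, h.le hx', by
              show (n : G) * ((n : G)⁻¹ * x * n) * (n : G)⁻¹ = x
              group⟩
          · rw [zpowers_le]
            exact ⟨(n : G)⁻¹ * m * n, hmn, by
              show (n : G) * ((n : G)⁻¹ * m * n) * (n : G)⁻¹ = m
              group⟩
        intro x hx
        obtain ⟨y, hy, hyx⟩ := h3 hx
        have h4 : (n : G)⁻¹ * x * n = y := by
          rw [← hyx]
          show (n : G)⁻¹ * ((n : G) * y * (n : G)⁻¹) * n = y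
          group
        rw [h4]; exact hy) le_sup_left
    apply hmR
    rw [← h2]
    exact (le_sup_right : zpowers (m : G) ≤ _) (mem_zpowers (m : G))

/-- fusion of the involutions of `N/(N ∩ R)`, with a conjugating element of `N` -/
theorem exists_conj_in [Finite G] {H R N : Subgroup G} {g : G}
    (h : IsMaxStab H R g) (hN : N ≤ normalizer (R : Set G))
    (b : G) (hbN : b ∈ N) (hbH : b ∉ H)
    (a : G) (haN : a ∈ N) (haH : a ∈ H) (haR : a ∉ R) (haa : a * a ∈ R)
    (x : G) (hxN : x ∈ N) (hxR : x ∉ R) (hxx : x * x ∈ R) :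
    ∃ n ∈ N, ∃ r ∈ R, n * a * n⁻¹ = x * r := by
  have := RN_normal hN
  have hSE := stronglyEmbedded h hN b hbN hbH a haN haH haR haa
  have hconj := TwoFusion.StronglyEmbeddedBasic.isConj_of_involutions hSE
    (QuotientGroup.mk' (RN R N) ⟨a, haN⟩) (QuotientGroup.mk' (RN R N) ⟨x, hxN⟩)
    (orderOf_mk ⟨a, haN⟩ haR haa) (orderOf_mk ⟨x, hxN⟩ hxR hxx)
  rw [isConj_iff] at hconj
  obtain ⟨c, hc⟩ := hconj
  obtain ⟨n, rfl⟩ := QuotientGroup.mk'_surjective (RN R N) c
  refine ⟨n, n.2, x⁻¹ * (n * a * (n : G)⁻¹), ?_, by group⟩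
  have h1 : QuotientGroup.mk' (RN R N) ⟨x, hxN⟩ =
      QuotientGroup.mk' (RN R N) (n * ⟨a, haN⟩ * n⁻¹) := by
    rw [map_mul, map_mul, map_inv]; exact hc.symm
  have h2 : (⟨x, hxN⟩ : N)⁻¹ * (n * ⟨a, haN⟩ * n⁻¹) ∈ RN R N := QuotientGroup.eq.1 h1
  exact h2

/-- **Key lemma, strong version.** Let `z` be an involution with `C_G(z) ≤ H` fixing only one point
of `G/H`, such that every 2-subgroup of `H` is centralised by an `H`-conjugate of `z`. If `R` is a
maximal stabiliser centralised by `z`, then every `x ∈ N_G(R) \ R` with `x² ∈ R` has, modulo `R`, the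
form `n z n⁻¹` with `n` centralising `R`. -/
theorem exists_conj_centralizer [Finite G] {H R : Subgroup G} {g : G} (h : IsMaxStab H R g)
    (z : G) (hz1 : z ≠ 1) (hzz : z * z = 1) (hzH : z ∈ H)
    (hfix : ∀ k : G, k * z * k⁻¹ ∈ H → k ∈ H)
    (hcen : ∀ P : Subgroup G, IsPGroup 2 P → P ≤ H → ∃ k ∈ H, ∀ x ∈ P, x * (k * z * k⁻¹) = k * z * k⁻¹ * x)
    (hzR : ∀ x ∈ R, x * z = z * x)
    (x : G) (hxN : x ∈ normalizer (R : Set G)) (hxR : x ∉ R) (hxx : x * x ∈ R) :
    ∃ n : G, (∀ y ∈ R, y * n = n * y) ∧ ∃ r ∈ R, n * z * n⁻¹ = x * r := by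
  have hzR' : z ∉ R := by
    intro hz
    have h1 := h.le' z hz
    have h2 : g⁻¹ ∈ H := hfix g⁻¹ (by simpa using h1)
    exact h.notMem (by simpa using H.inv_mem h2)
  -- a conjugate of z outside H which centralises R
  obtain ⟨b, hbC, hbH, hb1, hbb⟩ : ∃ b : G, (∀ y ∈ R, y * b = b * y) ∧ b ∉ H ∧ b ≠ 1 ∧ b * b = 1 := by
    obtain ⟨k, hk, hkc⟩ := hcen (R.map (MulAut.conj g⁻¹).toMonoidHom) (h.two.map _) (by
      rintro _ ⟨y, hy, rfl⟩
      show g⁻¹ * y * g⁻¹⁻¹ ∈ H
      rw [inv_inv]; exact h.le' y hy)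
    refine ⟨g * (k * z * k⁻¹) * g⁻¹, ?_, ?_, ?_, ?_⟩
    · intro y hy
      have h1 := hkc (g⁻¹ * y * g⁻¹⁻¹) ⟨y, hy, rfl⟩
      rw [inv_inv] at h1
      have h2 : g * ((g⁻¹ * y * g) * (k * z * k⁻¹)) * g⁻¹ = g * ((k * z * k⁻¹) * (g⁻¹ * y * g)) * g⁻¹ := by
        rw [h1]
      calc y * (g * (k * z * k⁻¹) * g⁻¹) = g * ((g⁻¹ * y * g) * (k * z * k⁻¹)) * g⁻¹ := by group
        _ = _ := h2
        _ = _ := by group
    · intro hH
      have h1 : (g * k) * z * (g * k)⁻¹ ∈ H := by
        have : (g * k) * z * (g * k)⁻¹ = g * (k * z * k⁻¹) * g⁻¹ := by group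
        rw [this]; exact hH
      have h2 := hfix _ h1
      apply h.notMem
      have : g = (g * k) * k⁻¹ := by group
      rw [this]; exact H.mul_mem h2 (H.inv_mem hk)
    · intro h1
      apply hz1
      have : z = k⁻¹ * (g⁻¹ * (g * (k * z * k⁻¹) * g⁻¹) * g) * k := by group
      rw [this, h1]; group
    · calc g * (k * z * k⁻¹) * g⁻¹ * (g * (k * z * k⁻¹) * g⁻¹) = g * (k * (z * z) * k⁻¹) * g⁻¹ := by group
        _ = 1 := by rw [hzz]; group
  have hCN : centralizer (R : Set G) ≤ normalizer (R : Set G) := by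
    intro c hc
    rw [Subgroup.mem_normalizer_iff]
    rw [Subgroup.mem_centralizer_iff] at hc
    intro y
    constructor
    · intro hy
      have := hc y hy
      have h2 : c * y * c⁻¹ = y := by rw [← this]; group
      rw [h2]; exact hy
    · intro hy
      have h1 := hc _ hy
      have h2 : y = c * y * c⁻¹ := by
        have h3 : c⁻¹ * (c * y * c⁻¹ * c) = c⁻¹ * (c * (c * y * c⁻¹)) := by rw [h1]
        calc y = c⁻¹ * (c * y * c⁻¹ * c) := by group
          _ = _ := h3
          _ = _ := by group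
      rw [h2]; exact hy
  have hbCR : b ∈ centralizer (R : Set G) := by
    rw [Subgroup.mem_centralizer_iff]; exact hbC
  have hzCR : z ∈ centralizer (R : Set G) := by
    rw [Subgroup.mem_centralizer_iff]; exact hzR
  have hzzR : z * z ∈ R := by rw [hzz]; exact R.one_mem
  -- first step: x is, mod R, conjugate to z in the normaliser
  obtain ⟨m, hmN, r, hr, hmr⟩ := exists_conj_in h (le_refl (normalizer (R : Set G))) b (hCN hbCR) hbH z
    (hCN hzCR) hzH hzR' hzzR x hxN hxR hxx
  have hcC : x * r ∈ centralizer (R : Set G) := by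
    rw [← hmr, Subgroup.mem_centralizer_iff]
    intro y hy
    have h1 : m⁻¹ * y * m ∈ R := by
      have := (Subgroup.mem_normalizer_iff.1 ((normalizer (R : Set G)).inv_mem hmN) y).1 hy
      simpa using this
    have h2 := hzR _ h1
    calc y * (m * z * m⁻¹) = m * ((m⁻¹ * y * m) * z) * m⁻¹ := by group
      _ = m * (z * (m⁻¹ * y * m)) * m⁻¹ := by rw [h2]
      _ = m * z * m⁻¹ * y := by group
  have hcR : x * r ∉ R := by
    intro h1
    apply hxR
    have : x = (x * r) * r⁻¹ := by group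
    rw [this]; exact R.mul_mem h1 (R.inv_mem hr)
  have hcc : (x * r) * (x * r) ∈ R := by
    rw [← hmr]
    have : m * z * m⁻¹ * (m * z * m⁻¹) = m * (z * z) * m⁻¹ := by group
    rw [this, hzz]
    have : m * 1 * m⁻¹ = 1 := by group
    rw [this]; exact R.one_mem
  obtain ⟨n, hn, r', hr', hnr⟩ := exists_conj_in h hCN b hbCR hbH z hzCR hzH hzR' hzzR (x * r) hcC hcR hcc
  refine ⟨n, ?_, r * r', R.mul_mem hr hr', by rw [hnr, mul_assoc]⟩
  rw [Subgroup.mem_centralizer_iff] at hn
  exact hn

end Cfsg.Agent.Held.MaxStabC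
end

-- part: Held/ClosingSound
section
/-!
# Soundness of the kernel search of `ClosingCode`
-/

set_option autoImplicit false

namespace Cfsg.Agent.Held.ClosingSound

open Cfsg.Agent.Lib.F2Mat Cfsg.Agent.Held.Code Cfsg.Agent.Held.ClosingCode Cfsg.Agent.Held.ClosingT
open Subgroup

variable {G : Type*} [Group G]

/-- `ph` is an embedding of the unitriangular codes in `G` with image `S`. -/
structure TD (z : G) (ph : ℕ → G) (S : Subgroup G) : Prop where
  mul : ∀ {a b : ℕ}, TC a → TC b → ph (mu a b) = ph a * ph b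
  inj : ∀ {a b : ℕ}, TC a → TC b → ph a = ph b → a = b
  surj : ∀ g : G, g ∈ S ↔ ∃ a, TC a ∧ ph a = g
  z_eq : ph zc = z

theorem TD.one {z : G} {ph : ℕ → G} {S : Subgroup G} (h : TD z ph S) : ph e1 = 1 := by
  have h1 := h.mul TC_e1 TC_e1
  have h2 : mu e1 e1 = e1 := mu_e1 (by norm_num)
  rw [h2] at h1
  exact (mul_eq_left.1 h1.symm)

/-- the list `L` of codes represents the subgroup `K` -/
def Rep (ph : ℕ → G) (K : Subgroup G) (L : List ℕ) : Prop :=
  (∀ a ∈ L, TC a) ∧ ∀ g : G, g ∈ K ↔ ∃ a ∈ L, ph a = g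

/-- In a 2-group, a proper subgroup is normalised by some `x` outside with `x²` inside. -/
theorem chain [Finite G] {R K : Subgroup G} (hR : IsPGroup 2 R) (hKR : K ≤ R) (hne : K ≠ R) :
    ∃ x ∈ R, x ∉ K ∧ x ∈ normalizer (K : Set G) ∧ x * x ∈ K := by
  have f2 : Fact (Nat.Prime 2) := ⟨Nat.prime_two⟩
  obtain ⟨N, hN⟩ := (IsPGroup.iff_card (p := 2)).1 hR
  have hK2 : IsPGroup 2 K := hR.to_le hKR
  obtain ⟨n, hn⟩ := (IsPGroup.iff_card (p := 2)).1 hK2
  have hlt : Nat.card K < Nat.card R := by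
    rcases lt_or_ge (Nat.card K) (Nat.card R) with h | h
    · exact h
    · exact absurd (Subgroup.eq_of_le_of_card_ge hKR h) hne
  have hnN : n < N := by
    rw [hn, hN] at hlt
    exact (Nat.pow_lt_pow_iff_right (by norm_num)).1 hlt
  let K' : Subgroup R := K.subgroupOf R
  have hK' : Nat.card K' = 2 ^ n := by
    rw [← hn]
    exact Nat.card_congr (Subgroup.subgroupOfEquivOfLe hKR).toEquiv
  obtain ⟨M, hM, hKM⟩ := Sylow.exists_subgroup_card_pow_succ (G := R) (p := 2) (n := n)
    (by rw [hN]; exact pow_dvd_pow 2 hnN) hK'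
  have hcard : Nat.card (K'.subgroupOf M) = 2 ^ n := by
    rw [← hK']
    exact Nat.card_congr (Subgroup.subgroupOfEquivOfLe hKM).toEquiv
  have hidx : (K'.subgroupOf M).index = 2 := by
    have h1 := (K'.subgroupOf M).card_mul_index
    rw [hcard, hM, pow_succ] at h1
    exact Nat.eq_of_mul_eq_mul_left (by positivity) h1
  have hnorm := Subgroup.normal_of_index_eq_two hidx
  obtain ⟨m, hm⟩ : ∃ m : M, m ∉ K'.subgroupOf M := by
    by_contra hcon
    push Not at hcon
    have : K'.subgroupOf M = ⊤ := eq_top_iff.2 fun x _ => hcon x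
    rw [this, Subgroup.index_top] at hidx
    exact absurd hidx (by norm_num)
  refine ⟨((m : R) : G), (m : R).2, ?_, ?_, ?_⟩
  · intro h; exact hm h
  · apply Subgroup.mem_normalizer_fintype
    intro k hk
    have hkR : k ∈ R := hKR hk
    have hkM : (⟨k, hkR⟩ : R) ∈ M := hKM hk
    have h1 : (⟨⟨k, hkR⟩, hkM⟩ : M) ∈ K'.subgroupOf M := hk
    exact hnorm.conj_mem _ h1 m
  · exact Subgroup.mul_self_mem_of_index_two hidx m

/-- `K ∪ xK` -/
def extK (K : Subgroup G) (x : G) (hx : x ∈ normalizer (K : Set G)) (hxx : x * x ∈ K) :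
    Subgroup G where
  carrier := {g | g ∈ K ∨ x⁻¹ * g ∈ K}
  one_mem' := Or.inl K.one_mem
  mul_mem' := by
    intro a b ha hb
    have hn : ∀ k ∈ K, x * k * x⁻¹ ∈ K := fun k hk => (Subgroup.mem_normalizer_iff.1 hx k).1 hk
    have hn' : ∀ k ∈ K, x⁻¹ * k * x ∈ K := fun k hk => by
      have := (Subgroup.mem_normalizer_iff.1 ((normalizer (K : Set G)).inv_mem hx) k).1 hk
      simpa using this
    rcases ha with ha | ha <;> rcases hb with hb | hb
    · exact Or.inl (K.mul_mem ha hb)
    · right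
      have : x⁻¹ * (a * b) = (x⁻¹ * a * x) * (x⁻¹ * b) := by group
      rw [this]; exact K.mul_mem (hn' a ha) hb
    · right
      have : x⁻¹ * (a * b) = (x⁻¹ * a) * b := by group
      rw [this]; exact K.mul_mem ha hb
    · left
      have : a * b = (x * (x⁻¹ * a) * x⁻¹) * (x * x) * (x⁻¹ * b) := by group
      rw [this]; exact K.mul_mem (K.mul_mem (hn _ ha) hxx) hb
  inv_mem' := by
    intro a ha
    have hn' : ∀ k ∈ K, x⁻¹ * k * x ∈ K := fun k hk => by
      have := (Subgroup.mem_normalizer_iff.1 ((normalizer (K : Set G)).inv_mem hx) k).1 hk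
      simpa using this
    rcases ha with ha | ha
    · exact Or.inl (K.inv_mem ha)
    · right
      have : x⁻¹ * a⁻¹ = (x⁻¹ * (x⁻¹ * a)⁻¹ * x) * (x * x)⁻¹ := by group
      rw [this]; exact K.mul_mem (hn' _ (K.inv_mem ha)) (K.inv_mem hxx)

theorem mem_extK {K : Subgroup G} {x : G} (hx : x ∈ normalizer (K : Set G)) (hxx : x * x ∈ K)
    (g : G) : g ∈ extK K x hx hxx ↔ g ∈ K ∨ x⁻¹ * g ∈ K := Iff.rfl

theorem extK_le {K R : Subgroup G} {x : G} (hx : x ∈ normalizer (K : Set G)) (hxx : x * x ∈ K)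
    (hKR : K ≤ R) (hxR : x ∈ R) : extK K x hx hxx ≤ R := by
  intro g hg
  rcases hg with h | h
  · exact hKR h
  · have : g = x * (x⁻¹ * g) := by group
    rw [this]; exact R.mul_mem hxR (hKR h)

theorem rep_ext {z : G} {ph : ℕ → G} {S : Subgroup G} (td : TD z ph S) {K : Subgroup G}
    {L : List ℕ} (hL : Rep ph K L) {c : ℕ} (hc : TC c) (hx : ph c ∈ normalizer (K : Set G))
    (hxx : ph c * ph c ∈ K) :
    Rep ph (extK K (ph c) hx hxx) ((L.map (_root_.Cfsg.Agent.Held.ClosingCode.mt c)).reverse ++ L) := by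
  constructor
  · intro a ha
    rw [List.mem_append, List.mem_reverse, List.mem_map] at ha
    rcases ha with ⟨b, hb, rfl⟩ | ha
    · rw [mt_eq]; exact hc.mul (hL.1 b hb)
    · exact hL.1 a ha
  · intro g
    rw [mem_extK, hL.2, hL.2]
    constructor
    · rintro (⟨a, ha, rfl⟩ | ⟨a, ha, h⟩)
      · exact ⟨a, by rw [List.mem_append]; exact Or.inr ha, rfl⟩
      · refine ⟨_root_.Cfsg.Agent.Held.ClosingCode.mt c a, ?_, ?_⟩
        · rw [List.mem_append, List.mem_reverse, List.mem_map]
          exact Or.inl ⟨a, ha, rfl⟩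
        · rw [mt_eq, td.mul hc (hL.1 a ha), h]; group
    · rintro ⟨a, ha, rfl⟩
      rw [List.mem_append, List.mem_reverse, List.mem_map] at ha
      rcases ha with ⟨b, hb, rfl⟩ | ha
      · right
        refine ⟨b, hb, ?_⟩
        rw [mt_eq, td.mul hc (hL.1 b hb)]; group
      · exact Or.inl ⟨a, ha, rfl⟩

theorem norm_of {z : G} {ph : ℕ → G} {S : Subgroup G} (td : TD z ph S) {K : Subgroup G}
    {L : List ℕ} (hL : Rep ph K L) {c : ℕ} (hc : TC c) (hx : ph c ∈ normalizer (K : Set G)) :
    _root_.Cfsg.Agent.Held.ClosingCode.norm L c ((L.map (_root_.Cfsg.Agent.Held.ClosingCode.mt c)).reverse) = true := by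
  unfold ClosingCode.norm
  rw [mapK_eq, alll_iff]
  intro y hy
  rw [memb_iff, List.mem_reverse, List.mem_map]
  rw [List.mem_reverse, List.mem_map] at hy
  obtain ⟨a, ha, rfl⟩ := hy
  have h1 : ph c * ph a * (ph c)⁻¹ ∈ K :=
    (Subgroup.mem_normalizer_iff.1 hx _).1 ((hL.2 _).2 ⟨a, ha, rfl⟩)
  obtain ⟨b, hb, hbe⟩ := (hL.2 _).1 h1
  refine ⟨b, hb, ?_⟩
  rw [mt_eq, mt_eq]
  apply td.inj ((hL.1 b hb).mul hc) (hc.mul (hL.1 a ha))
  rw [td.mul (hL.1 b hb) hc, td.mul hc (hL.1 a ha), hbe]
  group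

theorem of_norm [Finite G] {z : G} {ph : ℕ → G} {S : Subgroup G} (td : TD z ph S) {K : Subgroup G}
    {L : List ℕ} (hL : Rep ph K L) {c : ℕ} (hc : TC c)
    (h : _root_.Cfsg.Agent.Held.ClosingCode.norm L c ((L.map (_root_.Cfsg.Agent.Held.ClosingCode.mt c)).reverse) = true) : ph c ∈ normalizer (K : Set G) := by
  apply Subgroup.mem_normalizer_fintype
  intro g hg
  obtain ⟨a, ha, rfl⟩ := (hL.2 g).1 hg
  unfold ClosingCode.norm at h
  rw [mapK_eq, alll_iff] at h
  have h1 := h (_root_.Cfsg.Agent.Held.ClosingCode.mt c a) (by rw [List.mem_reverse, List.mem_map]; exact ⟨a, ha, rfl⟩)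
  rw [memb_iff, List.mem_reverse, List.mem_map] at h1
  obtain ⟨b, hb, hbe⟩ := h1
  rw [mt_eq, mt_eq] at hbe
  have h2 := congrArg ph hbe
  rw [td.mul (hL.1 b hb) hc, td.mul hc (hL.1 a ha)] at h2
  have h3 : ph c * ph a * (ph c)⁻¹ = ph b := by rw [← h2]; group
  show ph c * ph a * (ph c)⁻¹ ∈ K
  rw [h3]
  exact (hL.2 _).2 ⟨b, hb, rfl⟩

/-- The situation of `(***)`. -/
structure Star (z : G) (ph : ℕ → G) (S R : Subgroup G) (m : ℕ) : Prop where
  td : TD z ph S
  le : R ≤ S
  zt_iff : ∀ a, TC a → (zt m a = true ↔ IsConj z (ph a))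
  star : ∀ x ∈ S, x ∉ R → x ∈ normalizer (R : Set G) → x * x ∈ R →
    ∃ n : G, (∀ y ∈ R, y * n = n * y) ∧ ∃ r ∈ R, n * z * n⁻¹ = x * r
  pure : ∀ a, TC a → ph a ∈ R → zt m a = false

theorem isConj_congr_conj {z a n : G} : IsConj z (n * a * n⁻¹) ↔ IsConj z a := by
  constructor
  · intro h
    exact h.trans ((isConj_iff.2 ⟨n, rfl⟩).symm)
  · intro h
    exact h.trans (isConj_iff.2 ⟨n, rfl⟩)

theorem noc_false [Finite G] {z : G} {ph : ℕ → G} {S R : Subgroup G} {m : ℕ}
    (st : Star z ph S R m) {L : List ℕ} (hL : Rep ph R L) {c : ℕ} (hc : TC c)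
    (h : noc m L c = true) : False := by
  have td := st.td
  unfold noc at h
  rw [ab_iff, nb_iff, force_eq, ab_iff, mapK_eq, ab_iff] at h
  obtain ⟨h1, h2, h3, h4⟩ := h
  have hcR : ph c ∉ R := by
    intro h5
    obtain ⟨a, ha, hae⟩ := (hL.2 _).1 h5
    have := td.inj (hL.1 a ha) hc hae
    rw [this] at ha
    rw [(memb_iff).2 ha] at h1
    exact absurd h1 (by decide)
  have hcc : ph c * ph c ∈ R := by
    rw [memb_iff] at h2
    rw [← td.mul hc hc, ← mt_eq]
    exact (hL.2 _).2 ⟨_, h2, rfl⟩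
  have hcS : ph c ∈ S := (td.surj _).2 ⟨c, hc, rfl⟩
  obtain ⟨n, hn, r, hr, hnr⟩ := st.star (ph c) hcS hcR (of_norm td hL hc h3) hcc
  obtain ⟨a0, ha0, rfl⟩ := (hL.2 _).1 hr
  have hca : TC (mu c a0) := hc.mul (hL.1 a0 ha0)
  have hpc : ph (mu c a0) = n * z * n⁻¹ := by rw [td.mul hc (hL.1 a0 ha0), hnr]
  rw [alll_iff] at h4
  have h5 := h4 (_root_.Cfsg.Agent.Held.ClosingCode.mt c a0) (by rw [List.mem_reverse, List.mem_map]; exact ⟨a0, ha0, rfl⟩)
  rw [nb_iff, mt_eq] at h5
  have h6 : cnd m L (mu c a0) = true := by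
    unfold cnd
    rw [ab_iff, ab_iff]
    refine ⟨?_, ?_, ?_⟩
    · rw [st.zt_iff _ hca, hpc]
      exact isConj_iff.2 ⟨n, rfl⟩
    · rw [alll_iff]
      intro a ha
      have haR : ph a ∈ R := (hL.2 _).2 ⟨a, ha, rfl⟩
      have haS : ph a ∈ S := st.le haR
      have h7 : _root_.Cfsg.Agent.Held.ClosingCode.mt a (mu c a0) = _root_.Cfsg.Agent.Held.ClosingCode.mt (mu c a0) a := by
        rw [mt_eq, mt_eq]
        apply td.inj ((hL.1 a ha).mul hca) (hca.mul (hL.1 a ha))
        rw [td.mul (hL.1 a ha) hca, td.mul hca (hL.1 a ha), hpc]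
        have h8 : ph a * z = z * ph a := by
          rw [← td.z_eq, ← td.mul (hL.1 a ha) TC_zc, ← td.mul TC_zc (hL.1 a ha),
            zc_comm (hL.1 a ha)]
        have h9 := hn _ haR
        have h10 : ph a * n⁻¹ = n⁻¹ * ph a := by
          calc ph a * n⁻¹ = n⁻¹ * (n * ph a) * n⁻¹ := by group
            _ = n⁻¹ * (ph a * n) * n⁻¹ := by rw [h9]
            _ = n⁻¹ * ph a := by group
        calc ph a * (n * z * n⁻¹) = (ph a * n) * z * n⁻¹ := by group
          _ = n * (ph a * z) * n⁻¹ := by rw [h9]; group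
          _ = n * z * (ph a * n⁻¹) := by rw [h8]; group
          _ = n * z * n⁻¹ * ph a := by rw [h10]; group
      rw [h7]
      exact Nat.beq_refl _
    · rw [alll_iff]
      intro a ha
      have haR : ph a ∈ R := (hL.2 _).2 ⟨a, ha, rfl⟩
      rw [eqb_iff, mt_eq, mt_eq, Bool.eq_iff_iff, st.zt_iff _ (hca.mul (hL.1 a ha)),
        st.zt_iff _ (TC_zc.mul (hL.1 a ha)), td.mul hca (hL.1 a ha), td.mul TC_zc (hL.1 a ha),
        hpc, td.z_eq]
      have h9 := hn _ haR
      have h10 : n * z * n⁻¹ * ph a = n * (z * ph a) * n⁻¹ := by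
        calc n * z * n⁻¹ * ph a = n * z * (n⁻¹ * (ph a * n) * n⁻¹) := by group
          _ = n * z * (n⁻¹ * (n * ph a) * n⁻¹) := by rw [h9]
          _ = n * (z * ph a) * n⁻¹ := by group
      rw [h10]
      exact isConj_congr_conj
  rw [h6] at h5
  exact absurd h5 (by decide)

theorem good_false [Finite G] {z : G} {ph : ℕ → G} {S R : Subgroup G} {m : ℕ}
    (st : Star z ph S R m) {L W : List ℕ} (hL : Rep ph R L) (hW : alll isT W = true)
    (h : good m W L = true) : False := by
  unfold good at h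
  rw [anyl_iff] at h
  obtain ⟨a, ha, hn⟩ := h
  rw [alll_iff] at hW
  exact noc_false st hL (TC_of_isT (hW a ha)) hn

theorem buildAux_eq (p : ℕ → Bool) (k : List (ℕ × ℕ) → Bool) (N : ℕ) :
    ∀ acc : List (ℕ × ℕ), ∃ l : List (ℕ × ℕ), buildAux p k N acc = k l ∧
      (∀ x ∈ acc, x ∈ l) ∧ ∀ i < N, p (dec i) = true → (dec i, _root_.Cfsg.Agent.Held.ClosingCode.mt (dec i) (dec i)) ∈ l := by
  induction N with
  | zero => intro acc; exact ⟨acc, rfl, fun x h => h, fun i hi => absurd hi (Nat.not_lt_zero _)⟩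
  | succ N ih =>
    intro acc
    have h0 : buildAux p k (N + 1) acc = force (dec N) (fun c =>
      cond (p c) (force (_root_.Cfsg.Agent.Held.ClosingCode.mt c c) fun cc => buildAux p k N ((c, cc) :: acc)) (buildAux p k N acc)) :=
      rfl
    rw [force_eq, force_eq] at h0
    rcases hp : p (dec N) with _ | _
    · rw [hp, cond_false] at h0
      obtain ⟨l, h1, h2, h3⟩ := ih acc
      refine ⟨l, by rw [h0, h1], h2, ?_⟩
      intro i hi hpi
      rcases Nat.lt_succ_iff_lt_or_eq.1 hi with h | rfl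
      · exact h3 i h hpi
      · rw [hp] at hpi; exact absurd hpi Bool.false_ne_true
    · rw [hp, cond_true] at h0
      obtain ⟨l, h1, h2, h3⟩ := ih ((dec N, _root_.Cfsg.Agent.Held.ClosingCode.mt (dec N) (dec N)) :: acc)
      refine ⟨l, by rw [h0, h1], fun x hx => h2 x (List.mem_cons_of_mem _ hx), ?_⟩
      intro i hi hpi
      rcases Nat.lt_succ_iff_lt_or_eq.1 hi with h | rfl
      · exact h3 i h hpi
      · exact h2 _ List.mem_cons_self

/-- a minimal element of a nonempty list of numbers -/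
theorem exists_min {l : List ℕ} (h : l ≠ []) : ∃ x ∈ l, ∀ y ∈ l, x ≤ y := by
  classical
  obtain ⟨a, ha⟩ := List.exists_mem_of_ne_nil l h
  have hne : (l.toFinset).Nonempty := ⟨a, List.mem_toFinset.2 ha⟩
  refine ⟨l.toFinset.min' hne, List.mem_toFinset.1 (Finset.min'_mem _ _), ?_⟩
  intro y hy
  exact Finset.min'_le _ _ (List.mem_toFinset.2 hy)

theorem mem_cand {z : G} {ph : ℕ → G} {S R : Subgroup G} {m : ℕ} (st : Star z ph S R m)
    (ht : ph tt ∈ R) (hc : ∀ y ∈ R, y * ph tt = ph tt * y) {c : ℕ} (hTc : TC c) (hcR : ph c ∈ R)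
    (h1 : c ≠ e1) (h2 : c ≠ tt) : isCand m c = true := by
  have td := st.td
  unfold isCand
  rw [ab_iff, ab_iff, force_eq, ab_iff, ab_iff, nb_iff, nb_iff, nb_iff, nb_iff, mt_eq, mt_eq]
  have hne : ∀ a b : ℕ, a ≠ b → Nat.beq a b = false := by
    intro a b hab
    rcases h : Nat.beq a b with _ | _
    · rfl
    · exact absurd (Nat.eq_of_beq_eq_true h) hab
  refine ⟨hne _ _ h1, hne _ _ h2, ?_, st.pure c hTc hcR, ?_⟩
  · have : mu c tt = mu tt c := by
      apply td.inj (hTc.mul TC_tt) (TC_tt.mul hTc)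
      rw [td.mul hTc TC_tt, td.mul TC_tt hTc]
      exact hc _ hcR
    rw [this]; exact Nat.beq_refl _
  · apply st.pure _ (hTc.mul TC_tt)
    rw [td.mul hTc TC_tt]
    exact R.mul_mem hcR ht

/-- **Soundness of the search.** -/
theorem main_sound [Finite G] {z : G} {ph : ℕ → G} {S R : Subgroup G} {m v : ℕ} {W : List ℕ}
    (hm : main m v W = true) (hW : alll isT W = true) (st : Star z ph S R m)
    (h2 : IsPGroup 2 R) (ht : R = ⊥ ∨ (ph tt ∈ R ∧ ∀ y ∈ R, y * ph tt = ph tt * y)) :
    TC v ∧ ph v ∈ R := by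
  have td := st.td
  unfold main at hm
  rw [ab_iff, ab_iff] at hm
  obtain ⟨hm0, hm1, hm2⟩ := hm
  rcases ht with hbot | ⟨htR, htc⟩
  · exfalso
    refine good_false st ?_ hW hm0
    constructor
    · intro a ha
      rw [List.mem_singleton] at ha
      rw [ha]; exact TC_e1
    · intro g
      rw [hbot, Subgroup.mem_bot]
      constructor
      · rintro rfl; exact ⟨e1, List.mem_singleton.2 rfl, td.one⟩
      · rintro ⟨a, ha, rfl⟩
        rw [List.mem_singleton] at ha
        rw [ha]; exact td.one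
  obtain ⟨cand, hcd, -, hcand⟩ := buildAux_eq (isCand m) (fun cand => lev2 m v W cand) 1024 []
  have hm2' : lev2 m v W cand = true := by
    rw [← hcd]; exact hm2
  have hcand' : ∀ c, TC c → ph c ∈ R → c ≠ e1 → c ≠ tt → (c, _root_.Cfsg.Agent.Held.ClosingCode.mt c c) ∈ cand := by
    rintro c ⟨i, hi, rfl⟩ hcR h1 h3
    exact hcand i hi (mem_cand st htR htc ⟨i, hi, rfl⟩ hcR h1 h3)
  -- the subgroup generated by t
  have httm : mu tt tt = e1 := by decide +kernel
  have htt : ph tt * ph tt = 1 := by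
    rw [← td.mul TC_tt TC_tt, httm]; exact td.one
  have htne : tt ≠ e1 := by decide
  have ht1 : ph tt ≠ 1 := by
    rw [← td.one]
    intro h; exact htne (td.inj TC_tt TC_e1 h)
  let K1 : Subgroup G := extK ⊥ (ph tt) (by
    apply Subgroup.mem_normalizer_iff.2
    intro x
    constructor
    · intro hx
      have : x = 1 := hx
      subst this
      show ph tt * 1 * (ph tt)⁻¹ ∈ (⊥ : Subgroup G)
      rw [mul_one, mul_inv_cancel]; exact Subgroup.one_mem _
    · intro hx
      have h3 : ph tt * x * (ph tt)⁻¹ = 1 := hx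
      show x = 1
      calc x = (ph tt)⁻¹ * (ph tt * x * (ph tt)⁻¹) * ph tt := by group
        _ = 1 := by rw [h3]; group) (by rw [htt]; exact Subgroup.one_mem _)
  have hK1 : Rep ph K1 [tt, e1] := by
    constructor
    · intro a ha
      rcases List.mem_pair.1 ha with rfl | rfl
      · exact TC_tt
      · exact TC_e1
    · intro g
      rw [mem_extK, Subgroup.mem_bot, Subgroup.mem_bot]
      constructor
      · rintro (rfl | h)
        · exact ⟨e1, by simp, td.one⟩
        · refine ⟨tt, by simp, ?_⟩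
          have : g = ph tt * ((ph tt)⁻¹ * g) := by group
          rw [this, h, mul_one]
      · rintro ⟨a, ha, rfl⟩
        rcases List.mem_pair.1 ha with rfl | rfl
        · right; group
        · left; exact td.one
  have hK1R : K1 ≤ R := extK_le _ _ bot_le htR
  by_cases hR1 : K1 = R
  · exfalso
    rw [hR1] at hK1
    exact good_false st hK1 hW hm1
  -- order 4
  obtain ⟨s0, hs0R, hs0K, hs0N, hs0s⟩ := chain h2 hK1R hR1
  obtain ⟨c0, hc0, rfl⟩ := (td.surj _).1 (st.le hs0R)
  have hc0t : ph c0 * ph tt = ph tt * ph c0 := htc _ hs0R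
  -- choose the smaller one of c0, c0 t
  obtain ⟨s, hs, hsR, hsK, hss, hsle⟩ : ∃ s, TC s ∧ ph s ∈ R ∧ ph s ∉ K1 ∧ ph s * ph s ∈ K1 ∧
      s ≤ mu s tt := by
    rcases le_total c0 (mu c0 tt) with h | h
    · exact ⟨c0, hc0, hs0R, hs0K, hs0s, h⟩
    · have htK : ph tt ∈ K1 := (hK1.2 _).2 ⟨tt, by simp, rfl⟩
      refine ⟨mu c0 tt, hc0.mul TC_tt, ?_, ?_, ?_, ?_⟩
      · rw [td.mul hc0 TC_tt]; exact R.mul_mem hs0R htR
      · rw [td.mul hc0 TC_tt]
        intro h3
        apply hs0K
        have : ph c0 = ph c0 * ph tt * (ph tt)⁻¹ := by group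
        rw [this]; exact K1.mul_mem h3 (K1.inv_mem htK)
      · rw [td.mul hc0 TC_tt]
        have : ph c0 * ph tt * (ph c0 * ph tt) = ph c0 * ph c0 * (ph tt * ph tt) := by
          calc ph c0 * ph tt * (ph c0 * ph tt) = ph c0 * (ph tt * ph c0) * ph tt := by group
            _ = ph c0 * (ph c0 * ph tt) * ph tt := by rw [hc0t]
            _ = _ := by group
        rw [this, htt, mul_one]; exact hs0s
      · have : mu (mu c0 tt) tt = c0 := by
          rw [mu_assoc, httm, mu_e1 (lt_of_TC hc0)]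
        rw [this]; exact h
  have hst : ph s * ph tt = ph tt * ph s := htc _ hsR
  have hsN : ph s ∈ normalizer (K1 : Set G) := by
    apply Subgroup.mem_normalizer_iff.2
    intro x
    have hcomm : ∀ y ∈ K1, ph s * y * (ph s)⁻¹ = y := by
      intro y hy
      obtain ⟨a, ha, rfl⟩ := (hK1.2 _).1 hy
      rcases List.mem_pair.1 ha with rfl | rfl
      · rw [hst]; group
      · rw [td.one]; group
    constructor
    · intro hx
      have h3 := hcomm x hx
      show ph s * x * (ph s)⁻¹ ∈ K1
      rw [h3]; exact hx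
    · intro hx
      have hx' : ph s * x * (ph s)⁻¹ ∈ K1 := hx
      have h3 := hcomm _ hx'
      have h4 : x = ph s * x * (ph s)⁻¹ := by
        have h5 : ph s * (ph s * x * (ph s)⁻¹) * (ph s)⁻¹ = ph s * x * (ph s)⁻¹ := h3
        have h6 : ph s * x * (ph s)⁻¹ = x := by
          calc ph s * x * (ph s)⁻¹ = (ph s)⁻¹ * (ph s * (ph s * x * (ph s)⁻¹) * (ph s)⁻¹) * ph s := by
                group
            _ = (ph s)⁻¹ * (ph s * x * (ph s)⁻¹) * ph s := by rw [h5]
            _ = x := by group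
        exact h6.symm
      rw [h4]; exact hx'
  have hs1 : s ≠ e1 := by
    rintro rfl
    apply hsK
    rw [td.one]; exact K1.one_mem
  have hs2 : s ≠ tt := by
    rintro rfl
    exact hsK ((hK1.2 _).2 ⟨tt, by simp, rfl⟩)
  have hscand := hcand' s hs hsR hs1 hs2
  have hK2 := rep_ext td hK1 hs hsN hss
  set K2 : Subgroup G := extK K1 (ph s) hsN hss with hK2def
  have hlist : (List.map (_root_.Cfsg.Agent.Held.ClosingCode.mt s) [tt, e1]).reverse ++ [tt, e1] = [s, _root_.Cfsg.Agent.Held.ClosingCode.mt s tt, tt, e1] := by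
    have : _root_.Cfsg.Agent.Held.ClosingCode.mt s e1 = s := by rw [mt_eq, mu_e1 (lt_of_TC hs)]
    simp [this]
  rw [hlist] at hK2
  have hK2' : Rep ph K2 [_root_.Cfsg.Agent.Held.ClosingCode.mt s tt, s, tt, e1] := by
    constructor
    · intro a ha
      apply hK2.1
      simp only [List.mem_cons, List.not_mem_nil, or_false] at ha ⊢
      exact or_left_comm.1 ha
    · intro g
      rw [hK2.2]
      simp only [List.mem_cons, List.not_mem_nil, or_false, exists_eq_or_imp, exists_eq_left]
      exact or_left_comm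
  have hK2R : K2 ≤ R := extK_le _ _ hK1R hsR
  unfold lev2 at hm2'
  rw [allp_iff] at hm2'
  have hm3 := hm2' _ hscand
  simp only at hm3
  have hmem1 : memb (_root_.Cfsg.Agent.Held.ClosingCode.mt s s) [e1, tt] = true := by
    rw [memb_iff]
    rw [← td.mul hs hs, hK1.2] at hss
    obtain ⟨a, ha, hae⟩ := hss
    have h3 := td.inj (hK1.1 a ha) (hs.mul hs) hae
    rw [mt_eq, ← h3]
    rcases List.mem_pair.1 ha with rfl | rfl
    · simp
    · simp
  rw [hmem1, cond_true, force_eq] at hm3
  have hleq : leq s (_root_.Cfsg.Agent.Held.ClosingCode.mt s tt) = true := by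
    rw [mt_eq]; exact Nat.ble_eq_true_of_le hsle
  rw [hleq, cond_true, ab_iff] at hm3
  obtain ⟨hm4, hm5⟩ := hm3
  by_cases hR2 : K2 = R
  · exfalso
    rw [hR2] at hK2'
    exact good_false st hK2' hW hm4
  -- order 8
  obtain ⟨x0, hx0R, hx0K, hx0N, hx0s⟩ := chain h2 hK2R hR2
  obtain ⟨d0, hd0, rfl⟩ := (td.surj _).1 (st.le hx0R)
  set L2 : List ℕ := [_root_.Cfsg.Agent.Held.ClosingCode.mt s tt, s, tt, e1] with hL2
  obtain ⟨x, hxm, hxmin⟩ := exists_min (l := (L2.map (_root_.Cfsg.Agent.Held.ClosingCode.mt d0)).reverse) (by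
    rw [hL2]; simp)
  have hxm' := hxm
  rw [List.mem_reverse, List.mem_map] at hxm'
  obtain ⟨a0, ha0, hxe⟩ := hxm'
  have ha0T : TC a0 := hK2'.1 a0 ha0
  have ha0K : ph a0 ∈ K2 := (hK2'.2 _).2 ⟨a0, ha0, rfl⟩
  have hx : TC x := by rw [← hxe, mt_eq]; exact hd0.mul ha0T
  have hpx : ph x = ph d0 * ph a0 := by rw [← hxe, mt_eq, td.mul hd0 ha0T]
  have hxR : ph x ∈ R := by rw [hpx]; exact R.mul_mem hx0R (hK2R ha0K)
  have hxK : ph x ∉ K2 := by
    rw [hpx]
    intro h3
    apply hx0K
    have : ph d0 = ph d0 * ph a0 * (ph a0)⁻¹ := by group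
    rw [this]; exact K2.mul_mem h3 (K2.inv_mem ha0K)
  have hxN : ph x ∈ normalizer (K2 : Set G) := by
    rw [hpx]
    exact (normalizer (K2 : Set G)).mul_mem hx0N (Subgroup.le_normalizer ha0K)
  have hxx : ph x * ph x ∈ K2 := by
    rw [hpx]
    have h3 : (ph d0)⁻¹ * ph a0 * ph d0 ∈ K2 := by
      have := (Subgroup.mem_normalizer_iff.1 ((normalizer (K2 : Set G)).inv_mem hx0N) (ph a0)).1 ha0K
      simpa using this
    have : ph d0 * ph a0 * (ph d0 * ph a0) = (ph d0 * ph d0) * ((ph d0)⁻¹ * ph a0 * ph d0) * ph a0 := by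
      group
    rw [this]
    exact K2.mul_mem (K2.mul_mem hx0s h3) ha0K
  -- the coset of x
  have hcoset : ∀ y, y ∈ (L2.map (_root_.Cfsg.Agent.Held.ClosingCode.mt x)).reverse → y ∈ (L2.map (_root_.Cfsg.Agent.Held.ClosingCode.mt d0)).reverse := by
    intro y hy
    rw [List.mem_reverse, List.mem_map] at hy
    obtain ⟨b, hb, rfl⟩ := hy
    have hbT : TC b := hK2'.1 b hb
    have hbK : ph b ∈ K2 := (hK2'.2 _).2 ⟨b, hb, rfl⟩
    obtain ⟨c, hc, hce⟩ := (hK2'.2 _).1 (K2.mul_mem ha0K hbK)
    rw [List.mem_reverse, List.mem_map]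
    refine ⟨c, hc, ?_⟩
    rw [mt_eq, mt_eq]
    apply td.inj (hd0.mul (hK2'.1 c hc)) (hx.mul hbT)
    rw [td.mul hd0 (hK2'.1 c hc), td.mul hx hbT, hpx, hce, mul_assoc]
  have hx1 : x ≠ e1 := by
    rintro rfl
    apply hxK; rw [td.one]; exact K2.one_mem
  have hx2 : x ≠ tt := by
    rintro rfl
    exact hxK ((hK2'.2 _).2 ⟨tt, by rw [hL2]; simp, rfl⟩)
  have hxcand := hcand' x hx hxR hx1 hx2
  unfold lev3 at hm5
  rw [allp_iff] at hm5
  have hm6 := hm5 _ hxcand
  simp only at hm6
  have hmem2 : memb (_root_.Cfsg.Agent.Held.ClosingCode.mt x x) L2 = true := by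
    rw [memb_iff]
    have hxx' := hxx
    rw [← td.mul hx hx, hK2'.2] at hxx'
    obtain ⟨a, ha, hae⟩ := hxx'
    have h3 := td.inj (hK2'.1 a ha) (hx.mul hx) hae
    rw [mt_eq, ← h3]; exact ha
  have hmem3 : memb x L2 = false := by
    rcases h : memb x L2 with _ | _
    · rfl
    · rw [memb_iff] at h
      exact absurd ((hK2'.2 _).2 ⟨x, h, rfl⟩) hxK
  have hK3 := rep_ext td hK2' hx hxN hxx
  set! K3 : Subgroup G := extK K2 (ph x) hxN hxx with hK3def; rewrite [← hK3def] at hK3
  have hK3R : K3 ≤ R := extK_le _ _ hK2R hxR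
  have hnoz : anyl (zt m) (L2.map (_root_.Cfsg.Agent.Held.ClosingCode.mt x)).reverse = false := by
    rcases h : anyl (zt m) (L2.map (_root_.Cfsg.Agent.Held.ClosingCode.mt x)).reverse with _ | _
    · rfl
    · rw [anyl_iff] at h
      obtain ⟨y, hy, hyz⟩ := h
      have hy' : y ∈ (L2.map (_root_.Cfsg.Agent.Held.ClosingCode.mt x)).reverse ++ L2 := List.mem_append_left _ hy
      have hyR : ph y ∈ R := hK3R ((hK3.2 _).2 ⟨y, hy', rfl⟩)
      rw [st.pure y (hK3.1 y hy') hyR] at hyz
      exact absurd hyz Bool.false_ne_true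
  have hmin : alll (fun c => leq x c) (L2.map (_root_.Cfsg.Agent.Held.ClosingCode.mt x)).reverse = true := by
    rw [alll_iff]
    intro c hc
    exact Nat.ble_eq_true_of_le (hxmin c (hcoset c hc))
  rw [hmem2, cond_true, hmem3, cond_false, mapK_eq, norm_of td hK2' hx hxN, cond_true, hnoz,
    cond_false, hmin, cond_true, ab_iff] at hm6
  obtain ⟨hm7, hm8⟩ := hm6
  set! L3 : List ℕ := (L2.map (_root_.Cfsg.Agent.Held.ClosingCode.mt x)).reverse ++ L2 with hL3; rewrite [← hL3] at hm8 hm7 hK3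
  by_cases hR3 : K3 = R
  · rcases hv : memb v L3 with _ | _
    · exfalso
      rw [hv, cond_false] at hm7
      rw [hR3] at hK3
      exact good_false st hK3 hW hm7
    · rw [memb_iff] at hv
      exact ⟨hK3.1 v hv, hK3R ((hK3.2 _).2 ⟨v, hv, rfl⟩)⟩
  -- order 16
  exfalso
  obtain ⟨y0, hy0R, hy0K, hy0N, hy0s⟩ := chain h2 hK3R hR3
  obtain ⟨y, hy, rfl⟩ := (td.surj _).1 (st.le hy0R)
  have hy1 : y ≠ e1 := by
    rintro rfl
    apply hy0K; rw [td.one]; exact K3.one_mem
  have hy2 : y ≠ tt := by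
    rintro rfl
    exact hy0K ((hK3.2 _).2 ⟨tt, by rw [hL3, hL2]; simp, rfl⟩)
  have hycand := hcand' y hy hy0R hy1 hy2
  unfold noext at hm8
  rw [allp_iff] at hm8
  have hm9 := hm8 _ hycand
  simp only at hm9
  have hmem4 : memb (_root_.Cfsg.Agent.Held.ClosingCode.mt y y) L3 = true := by
    rw [memb_iff]
    have hyy' := hy0s
    rw [← td.mul hy hy, hK3.2] at hyy'
    obtain ⟨a, ha, hae⟩ := hyy'
    have h3 := td.inj (hK3.1 a ha) (hy.mul hy) hae
    rw [mt_eq, ← h3]; exact ha
  have hmem5 : memb y L3 = false := by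
    rcases h : memb y L3 with _ | _
    · rfl
    · rw [memb_iff] at h
      exact absurd ((hK3.2 _).2 ⟨y, h, rfl⟩) hy0K
  rw [hmem4, cond_true, hmem5, cond_false, mapK_eq, norm_of td hK3 hy hy0N, cond_true,
    anyl_iff] at hm9
  obtain ⟨w, hw, hwz⟩ := hm9
  rw [List.mem_reverse, List.mem_map] at hw
  obtain ⟨b, hb, rfl⟩ := hw
  rw [mt_eq] at hwz
  have hbR : ph b ∈ R := hK3R ((hK3.2 _).2 ⟨b, hb, rfl⟩)
  have h3 : ph (mu y b) ∈ R := by
    rw [td.mul hy (hK3.1 b hb)]; exact R.mul_mem hy0R hbR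
  rw [st.pure _ (hy.mul (hK3.1 b hb)) h3] at hwz
  exact Bool.false_ne_true hwz

end Cfsg.Agent.Held.ClosingSound
end

-- part: Held/Closing
section
/-!
# The closing theorem, at the level of the Sylow 2-subgroup

`G` finite, `S` a Sylow 2-subgroup isomorphic to `UT(5, 2)` via `ph`, `z` the central involution of
`S`, `H` a subgroup containing `C_G(z)` such that the involutions of `S` fall in two `H`-classes:
those `H`-conjugate to `z` and those `H`-conjugate to `t = ph tt`, and `z`, `t` are not conjugate in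
`G`. If the kernel search `main m v W` succeeds, then `H = G`, provided (case `He`)
`C_G(⟨t, ph v⟩) ≤ H`.
-/

set_option autoImplicit false

namespace Cfsg.Agent.Held.Closing

open Cfsg.Agent.Lib.F2Mat Cfsg.Agent.Held.Code Cfsg.Agent.Held.ClosingCode Cfsg.Agent.Held.ClosingT
open Cfsg.Agent.Held.ClosingSound Cfsg.Agent.Held.MaxStab Cfsg.Agent.Held.MaxStabC
open Subgroup

variable {G : Type*} [Group G]

/-- Sylow's theorem inside a subgroup `D`. -/
theorem conj_into [Finite G] (D P R : Subgroup G) (hP : IsPGroup 2 P) (hPD : P ≤ D)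
    (hmax : ∀ Q : Subgroup G, Q ≤ D → IsPGroup 2 Q → Nat.card Q ≤ Nat.card P)
    (hR : IsPGroup 2 R) (hRD : R ≤ D) : ∃ d ∈ D, ∀ x ∈ R, d * x * d⁻¹ ∈ P := by
  have f2 : Fact (Nat.Prime 2) := ⟨Nat.prime_two⟩
  have hP' : IsPGroup 2 (P.subgroupOf D) :=
    hP.of_equiv (Subgroup.subgroupOfEquivOfLe hPD).symm
  have hR' : IsPGroup 2 (R.subgroupOf D) :=
    hR.of_equiv (Subgroup.subgroupOfEquivOfLe hRD).symm
  obtain ⟨Q, hQ⟩ := hP'.exists_le_sylow
  obtain ⟨Q2, hQ2⟩ := hR'.exists_le_sylow
  have hcard : Nat.card Q ≤ Nat.card (P.subgroupOf D) := by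
    have h1 := hmax ((Q : Subgroup D).map D.subtype) (Subgroup.map_subtype_le _) (Q.2.map _)
    have h2 : Nat.card ((Q : Subgroup D).map D.subtype) = Nat.card Q :=
      Subgroup.card_map_of_injective D.subtype_injective
    rw [h2] at h1
    rw [Nat.card_congr (Subgroup.subgroupOfEquivOfLe hPD).toEquiv]
    exact h1
  have hPQ : P.subgroupOf D = Q := Subgroup.eq_of_le_of_card_ge hQ hcard
  obtain ⟨d, hd⟩ := MulAction.exists_smul_eq D Q2 Q
  refine ⟨d, d.2, ?_⟩
  intro x hx
  have h1 : (⟨x, hRD hx⟩ : D) ∈ Q2 := hQ2 hx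
  have h2 : d * ⟨x, hRD hx⟩ * d⁻¹ ∈ (d • Q2 : Sylow 2 D) :=
    Subgroup.smul_mem_pointwise_smul _ (MulAut.conj d) _ h1
  rw [hd] at h2
  have h3 : d * ⟨x, hRD hx⟩ * d⁻¹ ∈ P.subgroupOf D := by rw [hPQ]; exact h2
  exact h3

/-- Conjugating a maximal stabiliser by an element of `H`. -/
theorem IsMaxStab_conj {H R : Subgroup G} {g : G} (h : IsMaxStab H R g) {w : G} (hw : w ∈ H) :
    IsMaxStab H (R.map (MulAut.conj w).toMonoidHom) (w * g) := by
  refine ⟨h.two.map _, ?_, ?_, ?_, ?_⟩
  · intro hg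
    apply h.notMem
    have : g = w⁻¹ * (w * g) := by group
    rw [this]; exact H.mul_mem (H.inv_mem hw) hg
  · rintro _ ⟨x, hx, rfl⟩
    exact H.mul_mem (H.mul_mem hw (h.le hx)) (H.inv_mem hw)
  · rintro _ ⟨x, hx, rfl⟩
    show (w * g)⁻¹ * (w * x * w⁻¹) * (w * g) ∈ H
    have : (w * g)⁻¹ * (w * x * w⁻¹) * (w * g) = g⁻¹ * x * g := by group
    rw [this]; exact h.le' x hx
  · intro R' g' h1 h2 h3 h4 h5
    have h6 := h.max (R'.map (MulAut.conj w⁻¹).toMonoidHom) (w⁻¹ * g') (h1.map _) (by
      intro hg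
      apply h2
      have : g' = w * (w⁻¹ * g') := by group
      rw [this]; exact H.mul_mem hw hg) (by
      rintro _ ⟨x, hx, rfl⟩
      exact H.mul_mem (H.mul_mem (H.inv_mem hw) (h3 hx)) (H.inv_mem (H.inv_mem hw))) (by
      rintro _ ⟨x, hx, rfl⟩
      show (w⁻¹ * g')⁻¹ * (w⁻¹ * x * w⁻¹⁻¹) * (w⁻¹ * g') ∈ H
      have : (w⁻¹ * g')⁻¹ * (w⁻¹ * x * w⁻¹⁻¹) * (w⁻¹ * g') = g'⁻¹ * x * g' := by group
      rw [this]; exact h4 x hx) (by
      intro x hx
      refine ⟨w * x * w⁻¹, h5 ⟨x, hx, rfl⟩, ?_⟩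
      show w⁻¹ * (w * x * w⁻¹) * w⁻¹⁻¹ = x
      group)
    apply le_antisymm _ h5
    intro x hx
    have h7 : w⁻¹ * x * w⁻¹⁻¹ ∈ R := by rw [← h6]; exact ⟨x, hx, rfl⟩
    exact ⟨w⁻¹ * x * w⁻¹⁻¹, h7, by
      show w * (w⁻¹ * x * w⁻¹⁻¹) * w⁻¹ = x
      group⟩

/-- a nontrivial 2-group has a central involution -/
theorem exists_central_involution [Finite G] {R : Subgroup G} (hR : IsPGroup 2 R) (hne : R ≠ ⊥) :
    ∃ t ∈ R, t ≠ 1 ∧ t * t = 1 ∧ ∀ y ∈ R, y * t = t * y := by
  have f2 : Fact (Nat.Prime 2) := ⟨Nat.prime_two⟩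
  have hnt : Nontrivial R := (Subgroup.nontrivial_iff_ne_bot R).2 hne
  have hc : Nontrivial (Subgroup.center R) := hR.center_nontrivial
  have hcp : IsPGroup 2 (Subgroup.center R) := hR.to_subgroup _
  obtain ⟨n, hn⟩ := (IsPGroup.iff_card (p := 2)).1 hcp
  have hn0 : n ≠ 0 := by
    rintro rfl
    rw [pow_zero] at hn
    have := (Nat.card_eq_one_iff_unique.1 hn).1
    exact not_subsingleton _ this
  have hdvd : 2 ∣ Nat.card (Subgroup.center R) := by
    rw [hn]; exact dvd_pow_self 2 hn0
  obtain ⟨t, ht⟩ := exists_prime_orderOf_dvd_card' 2 hdvd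
  refine ⟨((t : R) : G), (t : R).2, ?_, ?_, ?_⟩
  · intro h1
    have h2 : t = 1 := Subtype.ext (Subtype.ext h1)
    rw [h2, orderOf_one] at ht
    exact absurd ht (by norm_num)
  · have h1 : t ^ 2 = 1 := by rw [← ht]; exact pow_orderOf_eq_one t
    have h2 : ((t : R) : G) ^ 2 = 1 := by
      have := congrArg (fun x : Subgroup.center R => ((x : R) : G)) h1
      exact this
    rwa [pow_two] at h2
  · intro y hy
    have h1 := Subgroup.mem_center_iff.1 t.2 ⟨y, hy⟩
    exact congrArg Subtype.val h1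

/-- counting -/
def countb (p : ℕ → Bool) (N : ℕ) : ℕ := Nat.rec 0 (fun i ih => cond (p i) (Nat.succ ih) ih) N

theorem countb_eq (p : ℕ → Bool) (N : ℕ) :
    countb p N = ((Finset.range N).filter (fun i => p i = true)).card := by
  induction N with
  | zero => rfl
  | succ N ih =>
    have h : countb p (N + 1) = cond (p N) (Nat.succ (countb p N)) (countb p N) := rfl
    rw [h, Finset.range_add_one, Finset.filter_insert]
    rcases hp : p N with _ | _
    · simp [ih]
    · rw [cond_true, if_pos rfl, Finset.card_insert_of_notMem (by simp), ih]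

/-- number of codes commuting with `tt` -/
theorem comm_tt_count : countb (fun i => force (dec i) fun c => Nat.beq (_root_.Cfsg.Agent.Held.ClosingCode.mt c tt) (_root_.Cfsg.Agent.Held.ClosingCode.mt tt c)) 1024 =
    512 := by decide +kernel

/-- centre of `T` -/
theorem centre_all : allb 1024 (fun i => force (dec i) fun c =>
    cond (ab (Nat.beq (_root_.Cfsg.Agent.Held.ClosingCode.mt c (X 0 1)) (_root_.Cfsg.Agent.Held.ClosingCode.mt (X 0 1) c)) (ab (Nat.beq (_root_.Cfsg.Agent.Held.ClosingCode.mt c (X 1 2)) (_root_.Cfsg.Agent.Held.ClosingCode.mt (X 1 2) c))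
      (ab (Nat.beq (_root_.Cfsg.Agent.Held.ClosingCode.mt c (X 2 3)) (_root_.Cfsg.Agent.Held.ClosingCode.mt (X 2 3) c)) (Nat.beq (_root_.Cfsg.Agent.Held.ClosingCode.mt c (X 3 4)) (_root_.Cfsg.Agent.Held.ClosingCode.mt (X 3 4) c)))))
      (memb c [e1, zc]) true) = true := by decide +kernel

theorem eq_of_beq {a b : ℕ} (h : Nat.beq a b = true) : a = b := Nat.eq_of_beq_eq_true h

theorem centre_code {c : ℕ} (hc : TC c) (h : ∀ d, TC d → mu c d = mu d c) : c = e1 ∨ c = zc := by
  obtain ⟨i, hi, rfl⟩ := hc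
  have h1 := of_allb centre_all i hi
  rw [force_eq] at h1
  have hX : ∀ a b : ℕ, TC (X a b) → Nat.beq (_root_.Cfsg.Agent.Held.ClosingCode.mt (dec i) (X a b)) (_root_.Cfsg.Agent.Held.ClosingCode.mt (X a b) (dec i)) = true := by
    intro a b hab
    rw [mt_eq, mt_eq, h _ hab]
    exact Nat.beq_refl _
  rw [hX 0 1 (TC_of_isT (by decide +kernel)), hX 1 2 (TC_of_isT (by decide +kernel)),
    hX 2 3 (TC_of_isT (by decide +kernel)), hX 3 4 (TC_of_isT (by decide +kernel))] at h1
  have h2 : memb (dec i) [e1, zc] = true := h1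
  rw [memb_iff] at h2
  rcases List.mem_pair.1 h2 with h3 | h3
  · exact Or.inl h3
  · exact Or.inr h3

theorem dec_inj {i j : ℕ} (hi : i < 1024) (hj : j < 1024) (h : dec i = dec j) : i = j := by
  have k : allb 1024 (fun i => Nat.beq (idx (dec i)) i) = true := by decide +kernel
  rw [← eq_of_beq (of_allb k i hi), ← eq_of_beq (of_allb k j hj), h]

/-- cardinality of a subgroup given by a finite set of indices -/
theorem card_of_indices {z : G} {ph : ℕ → G} {S : Subgroup G} (td : TD z ph S) (K : Subgroup G)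
    (F : Finset ℕ) (hF : ∀ i ∈ F, i < 1024) (hK : ∀ g : G, g ∈ K ↔ ∃ i ∈ F, ph (dec i) = g) :
    Nat.card K = F.card := by
  classical
  have h1 : (K : Set G) = ((F.image fun i => ph (dec i) : Finset G) : Set G) := by
    ext g
    simp only [SetLike.mem_coe, Finset.coe_image, Set.mem_image, Finset.mem_coe]
    exact hK g
  have h2 : Nat.card K = (K : Set G).ncard := rfl
  rw [h2, h1, Set.ncard_coe_finset, Finset.card_image_of_injOn]
  intro i hi j hj hij
  have hi' := hF i hi
  have hj' := hF j hj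
  exact dec_inj hi' hj' (td.inj ⟨i, hi', rfl⟩ ⟨j, hj', rfl⟩ hij)

theorem card_S {z : G} {ph : ℕ → G} {S : Subgroup G} (td : TD z ph S) : Nat.card S = 1024 := by
  rw [card_of_indices td S (Finset.range 1024) (fun i hi => Finset.mem_range.1 hi) ?_,
    Finset.card_range]
  intro g
  rw [td.surj]
  constructor
  · rintro ⟨a, ⟨i, hi, rfl⟩, h⟩; exact ⟨i, Finset.mem_range.2 hi, h⟩
  · rintro ⟨i, hi, h⟩; exact ⟨dec i, ⟨i, Finset.mem_range.1 hi, rfl⟩, h⟩

theorem comm_iff {z : G} {ph : ℕ → G} {S : Subgroup G} (td : TD z ph S) {a b : ℕ} (ha : TC a)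
    (hb : TC b) : ph a * ph b = ph b * ph a ↔ mu a b = mu b a := by
  rw [← td.mul ha hb, ← td.mul hb ha]
  constructor
  · exact td.inj (ha.mul hb) (hb.mul ha)
  · intro h; rw [h]

theorem card_St {z : G} {ph : ℕ → G} {S : Subgroup G} (td : TD z ph S) :
    Nat.card (S ⊓ centralizer {ph tt} : Subgroup G) = 512 := by
  rw [card_of_indices td _ ((Finset.range 1024).filter fun i =>
    (force (dec i) fun c => Nat.beq (_root_.Cfsg.Agent.Held.ClosingCode.mt c tt) (_root_.Cfsg.Agent.Held.ClosingCode.mt tt c)) = true)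
    (fun i hi => Finset.mem_range.1 (Finset.mem_filter.1 hi).1) ?_, ← countb_eq, comm_tt_count]
  intro g
  rw [Subgroup.mem_inf, td.surj, Subgroup.mem_centralizer_singleton_iff]
  constructor
  · rintro ⟨⟨a, ⟨i, hi, rfl⟩, rfl⟩, h⟩
    refine ⟨i, Finset.mem_filter.2 ⟨Finset.mem_range.2 hi, ?_⟩, rfl⟩
    rw [force_eq, mt_eq, mt_eq]
    have h1 : mu (dec i) tt = mu tt (dec i) := by
      first
        | exact (comm_iff td ⟨i, hi, rfl⟩ TC_tt).1 h
        | exact (comm_iff td ⟨i, hi, rfl⟩ TC_tt).1 h.symm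
    rw [h1]; exact Nat.beq_refl _
  · rintro ⟨i, hi, rfl⟩
    obtain ⟨hi1, hi2⟩ := Finset.mem_filter.1 hi
    rw [force_eq, mt_eq, mt_eq] at hi2
    have hi3 := Finset.mem_range.1 hi1
    have h1 := (comm_iff td ⟨i, hi3, rfl⟩ TC_tt).2 (eq_of_beq hi2)
    refine ⟨⟨dec i, ⟨i, hi3, rfl⟩, rfl⟩, ?_⟩
    first
      | exact h1
      | exact h1.symm

/-- Hypotheses of the closing theorem. `m` is the mask of the `z`-type elements of `T`. -/
structure Hyp (z : G) (ph : ℕ → G) (S : Sylow 2 G) (H : Subgroup G) (m : ℕ) : Prop where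
  td : TD z ph (S : Subgroup G)
  cent : ∀ g : G, g * z = z * g → g ∈ H
  zt_fus : ∀ a, TC a → zt m a = true → ∃ h ∈ H, h * z * h⁻¹ = ph a
  inv : ∀ a, TC a → zt m a = true → mu a a = e1 ∧ a ≠ e1
  tt_fus : ∀ a, TC a → mu a a = e1 → a ≠ e1 → zt m a = false → ∃ h ∈ H, h * ph tt * h⁻¹ = ph a
  tt_not : ¬ IsConj z (ph tt)

namespace Hyp

variable {z : G} {ph : ℕ → G} {S : Sylow 2 G} {H : Subgroup G} {m : ℕ}

theorem S_cent (h : Hyp z ph S H m) : ∀ x ∈ (S : Subgroup G), x * z = z * x := by
  intro x hx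
  obtain ⟨a, ha, rfl⟩ := (h.td.surj x).1 hx
  rw [← h.td.z_eq]
  exact (comm_iff h.td ha TC_zc).2 (zc_comm ha)

theorem S_le (h : Hyp z ph S H m) : (S : Subgroup G) ≤ H := fun x hx => h.cent x (h.S_cent x hx)

theorem zz (h : Hyp z ph S H m) : z * z = 1 := by
  rw [← h.td.z_eq, ← h.td.mul TC_zc TC_zc]
  have : mu zc zc = e1 := by decide +kernel
  rw [this]; exact h.td.one

theorem z_ne (h : Hyp z ph S H m) : z ≠ 1 := by
  rw [← h.td.z_eq, ← h.td.one]
  intro h1
  exact absurd (h.td.inj TC_zc TC_e1 h1) (by decide)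

theorem zt_iff (h : Hyp z ph S H m) {a : ℕ} (ha : TC a) : zt m a = true ↔ IsConj z (ph a) := by
  constructor
  · intro h1
    obtain ⟨g, -, hg⟩ := h.zt_fus a ha h1
    exact isConj_iff.2 ⟨g, hg⟩
  · intro h1
    rcases h2 : zt m a with _ | _
    · exfalso
      obtain ⟨g, hg⟩ := isConj_iff.1 h1
      have haa : mu a a = e1 := by
        apply h.td.inj (ha.mul ha) TC_e1
        rw [h.td.mul ha ha, h.td.one, ← hg]
        have : g * z * g⁻¹ * (g * z * g⁻¹) = g * (z * z) * g⁻¹ := by group
        rw [this, h.zz]; group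
      have ha1 : a ≠ e1 := by
        rintro rfl
        apply h.z_ne
        rw [h.td.one] at hg
        have : z = g⁻¹ * (g * z * g⁻¹) * g := by group
        rw [this, hg]; group
      obtain ⟨k, -, hk⟩ := h.tt_fus a ha haa ha1 h2
      exact h.tt_not (h1.trans (isConj_iff.2 ⟨k, hk⟩).symm)
    · rfl

/-- 2-subgroups of `H` are conjugate into `S` by elements of `H`. -/
theorem conj_S [Finite G] (h : Hyp z ph S H m) (P : Subgroup G) (hP : IsPGroup 2 P) (hPH : P ≤ H) :
    ∃ d ∈ H, ∀ x ∈ P, d * x * d⁻¹ ∈ (S : Subgroup G) := by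
  have f2 : Fact (Nat.Prime 2) := ⟨Nat.prime_two⟩
  apply conj_into H S P S.2 h.S_le _ hP hPH
  intro Q _ hQ
  obtain ⟨Q', hQ'⟩ := hQ.exists_le_sylow
  have h1 : Nat.card Q ≤ Nat.card Q' := Subgroup.card_le_of_le hQ'
  rwa [Sylow.card_eq_multiplicity, ← Sylow.card_eq_multiplicity S] at h1

theorem fix [Finite G] (h : Hyp z ph S H m) : ∀ k : G, k * z * k⁻¹ ∈ H → k ∈ H := by
  intro k hk
  have hord : IsPGroup 2 (zpowers (k * z * k⁻¹)) := by
    intro x
    obtain ⟨n, hn⟩ := Subgroup.mem_zpowers_iff.1 x.2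
    refine ⟨1, Subtype.ext ?_⟩
    show (x : G) ^ 2 ^ 1 = 1
    rw [← hn, pow_one, ← zpow_natCast, ← zpow_mul, mul_comm, zpow_mul]
    have : (k * z * k⁻¹) ^ ((2 : ℕ) : ℤ) = 1 := by
      rw [zpow_natCast, pow_two]
      have h1 : k * z * k⁻¹ * (k * z * k⁻¹) = k * (z * z) * k⁻¹ := by group
      rw [h1, h.zz]; group
    rw [this, one_zpow]
  obtain ⟨d, hd, hdc⟩ := h.conj_S _ hord (by rw [zpowers_le]; exact hk)
  have h1 := hdc _ (mem_zpowers _)
  obtain ⟨a, ha, hae⟩ := (h.td.surj _).1 h1
  have h2 : IsConj z (ph a) := by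
    rw [hae]
    exact isConj_iff.2 ⟨d * k, by group⟩
  obtain ⟨e, he, hee⟩ := h.zt_fus a ha ((h.zt_iff ha).2 h2)
  have h3 : (e⁻¹ * d * k) * z = z * (e⁻¹ * d * k) := by
    have h4 : e * z * e⁻¹ = d * (k * z * k⁻¹) * d⁻¹ := by rw [hee, hae]
    calc (e⁻¹ * d * k) * z = e⁻¹ * (d * (k * z * k⁻¹) * d⁻¹) * (d * k) := by group
      _ = e⁻¹ * (e * z * e⁻¹) * (d * k) := by rw [h4]
      _ = z * (e⁻¹ * d * k) := by group
  have h4 := h.cent _ h3
  have : k = d⁻¹ * (e * (e⁻¹ * d * k)) := by group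
  rw [this]
  exact H.mul_mem (H.inv_mem hd) (H.mul_mem he h4)

theorem not_conj_of_stab [Finite G] (h : Hyp z ph S H m) {R : Subgroup G} {g : G}
    (hR : IsMaxStab H R g) {x : G} (hx : x ∈ R) : ¬ IsConj z x := by
  intro hc
  obtain ⟨k, hk⟩ := isConj_iff.1 hc
  have h1 := h.fix k (by rw [hk]; exact hR.le hx)
  have h2 := h.fix (g⁻¹ * k) (by
    have : g⁻¹ * k * z * (g⁻¹ * k)⁻¹ = g⁻¹ * (k * z * k⁻¹) * g := by group
    rw [this, hk]; exact hR.le' x hx)
  apply hR.notMem
  have : g = k * (g⁻¹ * k)⁻¹ := by group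
  rw [this]
  exact H.mul_mem h1 (H.inv_mem h2)

/-- a 2-subgroup centralising `ph tt` has order at most `512` -/
theorem card_le_512 [Finite G] (h : Hyp z ph S H m) (Q : Subgroup G) (hQ : IsPGroup 2 Q)
    (hQc : Q ≤ centralizer {ph tt}) : Nat.card Q ≤ 512 := by
  have f2 : Fact (Nat.Prime 2) := ⟨Nat.prime_two⟩
  by_contra hcon
  push Not at hcon
  obtain ⟨Q', hQ'⟩ := hQ.exists_le_sylow
  have hcS : Nat.card Q' = 1024 := by
    rw [Sylow.card_eq_multiplicity, ← Sylow.card_eq_multiplicity S]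
    exact card_S h.td
  obtain ⟨n, hn⟩ := (IsPGroup.iff_card (p := 2)).1 hQ
  have hdvd : Nat.card Q ∣ Nat.card Q' := Subgroup.card_dvd_of_le hQ'
  have hQeq : Nat.card Q = 1024 := by
    rw [hcS] at hdvd
    rw [hn] at hdvd hcon ⊢
    have h3 : 9 < n := by
      by_contra hc
      have : 2 ^ n ≤ 2 ^ 9 := Nat.pow_le_pow_right (by norm_num) (by omega)
      omega
    have h4 : n ≤ 10 := by
      have h5 := Nat.le_of_dvd (by norm_num) hdvd
      by_contra hc
      have : 2 ^ 11 ≤ 2 ^ n := Nat.pow_le_pow_right (by norm_num) (by omega)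
      omega
    have h5 : n = 10 := by omega
    rw [h5]; norm_num
  have hQQ : Q = Q' := Subgroup.eq_of_le_of_card_ge hQ' (by rw [hQeq, hcS])
  -- `ph tt` lies in `Q'`
  have htS : ph tt ∈ (S : Subgroup G) := (h.td.surj _).2 ⟨tt, TC_tt, rfl⟩
  have httm : ph tt * ph tt = 1 := by
    rw [← h.td.mul TC_tt TC_tt]
    have : mu tt tt = e1 := by decide +kernel
    rw [this]; exact h.td.one
  have hpz : IsPGroup 2 (zpowers (ph tt)) := S.2.to_le (by rw [zpowers_le]; exact htS)
  have hnorm : zpowers (ph tt) ≤ normalizer (Q : Set G) := by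
    rw [zpowers_le, Subgroup.mem_normalizer_iff]
    have hcm : ∀ y ∈ Q, ph tt * y * (ph tt)⁻¹ = y := by
      intro y hy
      have h1 := Subgroup.mem_centralizer_singleton_iff.1 (hQc hy)
      have h2 : ph tt * y = y * ph tt := by
        first
          | exact h1
          | exact h1.symm
      rw [h2]; group
    intro y
    constructor
    · intro hy
      show ph tt * y * (ph tt)⁻¹ ∈ Q
      rw [hcm y hy]; exact hy
    · intro hy
      have hy' : ph tt * y * (ph tt)⁻¹ ∈ Q := hy
      have h3 := hcm _ hy'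
      have h4 : ph tt * y * (ph tt)⁻¹ = y := by
        have h5 := congrArg (fun w => (ph tt)⁻¹ * w * ph tt) h3
        calc ph tt * y * (ph tt)⁻¹ =
              (ph tt)⁻¹ * (ph tt * (ph tt * y * (ph tt)⁻¹) * (ph tt)⁻¹) * ph tt := by group
          _ = (ph tt)⁻¹ * (ph tt * y * (ph tt)⁻¹) * ph tt := h5
          _ = y := by group
      rw [h4] at hy'; exact hy'
  have hbig : IsPGroup 2 (Q ⊔ zpowers (ph tt) : Subgroup G) := hQ.to_sup_of_normal_left' hpz hnorm
  have h6 : Q ⊔ zpowers (ph tt) = Q' := by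
    rw [hQQ] at hbig ⊢
    exact Q'.3 hbig le_sup_left
  have htQ : ph tt ∈ Q := by
    rw [hQQ, ← h6]; exact (le_sup_right : zpowers (ph tt) ≤ _) (mem_zpowers _)
  -- conjugate `Q'` to `S`
  obtain ⟨d, hd⟩ := MulAction.exists_smul_eq G Q' S
  have hmem : ∀ y, y ∈ Q → d * y * d⁻¹ ∈ (S : Subgroup G) := by
    intro y hy
    have h7 : y ∈ (Q' : Subgroup G) := by rw [← hQQ]; exact hy
    have h8 : d * y * d⁻¹ ∈ (d • Q' : Sylow 2 G) :=
      Subgroup.smul_mem_pointwise_smul _ (MulAut.conj d) _ h7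
    rw [hd] at h8
    exact h8
  have hmem' : ∀ y, y ∈ (S : Subgroup G) → d⁻¹ * y * d ∈ Q := by
    intro y hy
    have h7 : y ∈ (d • Q' : Sylow 2 G) := by rw [hd]; exact hy
    obtain ⟨w, hw, hwe⟩ := h7
    have h8 : d * w * d⁻¹ = y := hwe
    rw [← h8, hQQ]
    have : d⁻¹ * (d * w * d⁻¹) * d = w := by group
    rw [this]; exact hw
  obtain ⟨a, ha, hae⟩ := (h.td.surj _).1 (hmem _ htQ)
  have hcen : ∀ b, TC b → mu a b = mu b a := by
    intro b hb
    rw [← comm_iff h.td ha hb, hae]
    have h9 : ph b ∈ (S : Subgroup G) := (h.td.surj _).2 ⟨b, hb, rfl⟩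
    have h10 := Subgroup.mem_centralizer_singleton_iff.1 (hQc (hmem' _ h9))
    have h11 : ph tt * (d⁻¹ * ph b * d) = (d⁻¹ * ph b * d) * ph tt := by
      first
        | exact h10
        | exact h10.symm
    calc d * ph tt * d⁻¹ * ph b = d * (ph tt * (d⁻¹ * ph b * d)) * d⁻¹ := by group
      _ = d * ((d⁻¹ * ph b * d) * ph tt) * d⁻¹ := by rw [h11]
      _ = ph b * (d * ph tt * d⁻¹) := by group
  rcases centre_code ha hcen with rfl | rfl
  · rw [h.td.one] at hae
    have h12 : ph tt = 1 := by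
      calc ph tt = d⁻¹ * (d * ph tt * d⁻¹) * d := by group
        _ = 1 := by rw [← hae]; group
    rw [← h.td.one] at h12
    exact absurd (h.td.inj TC_tt TC_e1 h12) (by decide)
  · rw [h.td.z_eq] at hae
    exact h.tt_not (isConj_iff.2 ⟨d⁻¹, by rw [hae]; group⟩)

end Hyp

/-- **The closing theorem.** -/
theorem closing [Finite G] {z : G} {ph : ℕ → G} {S : Sylow 2 G} {H : Subgroup G} {m v : ℕ}
    {W : List ℕ} (h : Hyp z ph S H m) (hm : main m v W = true) (hW : alll isT W = true)
    (hv : TC v → ∀ g : G, g * ph tt = ph tt * g → g * ph v = ph v * g → g ∈ H) : H = ⊤ := by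
  by_contra hne
  have f2 : Fact (Nat.Prime 2) := ⟨Nat.prime_two⟩
  have td := h.td
  obtain ⟨R, g, hR⟩ := exists_isMaxStab H hne
  -- replace `R` by a suitable conjugate
  obtain ⟨R, g, hR, hRS, hRt⟩ : ∃ (R : Subgroup G) (g : G), IsMaxStab H R g ∧
      R ≤ (S : Subgroup G) ∧ (R = ⊥ ∨ (ph tt ∈ R ∧ ∀ y ∈ R, y * ph tt = ph tt * y)) := by
    by_cases hbot : R = ⊥
    · exact ⟨R, g, hR, by rw [hbot]; exact bot_le, Or.inl hbot⟩
    obtain ⟨t, htR, ht1, htt, htc⟩ := exists_central_involution hR.two hbot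
    obtain ⟨d, hd, hdS⟩ := h.conj_S R hR.two hR.le
    obtain ⟨a, ha, hae⟩ := (td.surj _).1 (hdS t htR)
    have haa : mu a a = e1 := by
      apply td.inj (ha.mul ha) TC_e1
      rw [td.mul ha ha, td.one, hae]
      have : d * t * d⁻¹ * (d * t * d⁻¹) = d * (t * t) * d⁻¹ := by group
      rw [this, htt]; group
    have ha1 : a ≠ e1 := by
      rintro rfl
      rw [td.one] at hae
      apply ht1
      calc t = d⁻¹ * (d * t * d⁻¹) * d := by group
        _ = 1 := by rw [← hae]; group
    have hza : zt m a = false := by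
      rcases hz : zt m a with _ | _
      · rfl
      · exfalso
        have h1 := (h.zt_iff ha).1 hz
        rw [hae] at h1
        exact h.not_conj_of_stab hR htR (isConj_congr_conj.1 h1)
    obtain ⟨e, he, hee⟩ := h.tt_fus a ha haa ha1 hza
    -- c conjugates t to `ph tt`
    have hcH : e⁻¹ * d ∈ H := H.mul_mem (H.inv_mem he) hd
    have hct : (e⁻¹ * d) * t * (e⁻¹ * d)⁻¹ = ph tt := by
      calc (e⁻¹ * d) * t * (e⁻¹ * d)⁻¹ = e⁻¹ * (d * t * d⁻¹) * e := by group
        _ = e⁻¹ * (e * ph tt * e⁻¹) * e := by rw [← hae, hee]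
        _ = ph tt := by group
    set c := e⁻¹ * d with hc
    have hR1 := IsMaxStab_conj hR hcH
    set R1 := R.map (MulAut.conj c).toMonoidHom with hR1def
    have hR1c : R1 ≤ H ⊓ centralizer {ph tt} := by
      rintro _ ⟨x, hx, rfl⟩
      refine Subgroup.mem_inf.2 ⟨hR1.le ⟨x, hx, rfl⟩, Subgroup.mem_centralizer_singleton_iff.2 ?_⟩
      show c * x * c⁻¹ * ph tt = ph tt * (c * x * c⁻¹)
      rw [← hct]
      have h2 := htc x hx
      calc c * x * c⁻¹ * (c * t * c⁻¹) = c * (x * t) * c⁻¹ := by group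
        _ = c * (t * x) * c⁻¹ := by rw [h2]
        _ = _ := by group
    obtain ⟨f, hf, hfc⟩ := conj_into (H ⊓ centralizer {ph tt})
      ((S : Subgroup G) ⊓ centralizer {ph tt}) R1 (S.2.to_le inf_le_left)
      (inf_le_inf_right _ h.S_le) (by
        intro Q hQ hQ2
        rw [card_St td]
        exact h.card_le_512 Q hQ2 (hQ.trans inf_le_right)) hR1.two hR1c
    have hR2 := IsMaxStab_conj hR1 hf.1
    refine ⟨_, _, hR2, ?_, Or.inr ⟨?_, ?_⟩⟩
    · rintro _ ⟨x, hx, rfl⟩
      exact (hfc x hx).1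
    · refine ⟨ph tt, ?_, ?_⟩
      · exact ⟨t, htR, hct⟩
      · have h3 := Subgroup.mem_centralizer_singleton_iff.1 hf.2
        show f * ph tt * f⁻¹ = ph tt
        have h4 : f * ph tt = ph tt * f := by
          first
            | exact h3
            | exact h3.symm
        rw [h4]; group
    · rintro _ ⟨x, hx, rfl⟩
      have h3 := Subgroup.mem_centralizer_singleton_iff.1 (hfc x hx).2
      first
        | exact h3
        | exact h3.symm
  have hzH : z ∈ H := h.cent z rfl
  have hcen : ∀ P : Subgroup G, IsPGroup 2 P → P ≤ H →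
      ∃ k ∈ H, ∀ x ∈ P, x * (k * z * k⁻¹) = k * z * k⁻¹ * x := by
    intro P hP hPH
    obtain ⟨d, hd, hdS⟩ := h.conj_S P hP hPH
    refine ⟨d⁻¹, H.inv_mem hd, ?_⟩
    intro x hx
    have h1 := h.S_cent _ (hdS x hx)
    calc x * (d⁻¹ * z * d⁻¹⁻¹) = d⁻¹ * ((d * x * d⁻¹) * z) * d := by group
      _ = d⁻¹ * (z * (d * x * d⁻¹)) * d := by rw [h1]
      _ = d⁻¹ * z * d⁻¹⁻¹ * x := by group
  have hzR : ∀ x ∈ R, x * z = z * x := fun x hx => h.S_cent x (hRS hx)
  have st : _root_.Cfsg.Agent.Held.ClosingSound.Star z ph (S : Subgroup G) R m := by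
    refine ⟨td, hRS, fun a ha => h.zt_iff ha, ?_, ?_⟩
    · intro x _ hxR hxN hxx
      exact exists_conj_centralizer hR z h.z_ne h.zz hzH h.fix hcen hzR x hxN hxR hxx
    · intro a ha haR
      rcases hz : zt m a with _ | _
      · rfl
      · exact absurd ((h.zt_iff ha).1 hz) (h.not_conj_of_stab hR haR)
  obtain ⟨hvT, hvR⟩ := main_sound hm hW st hR.two hRt
  have hcH := hv hvT
  -- a conjugate of `z` centralising `R` outside `H`
  obtain ⟨k, hk, hkc⟩ := hcen (R.map (MulAut.conj g⁻¹).toMonoidHom) (hR.two.map _) (by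
    rintro _ ⟨y, hy, rfl⟩
    show g⁻¹ * y * g⁻¹⁻¹ ∈ H
    rw [inv_inv]; exact hR.le' y hy)
  have hbc : ∀ y ∈ R, (g * (k * z * k⁻¹) * g⁻¹) * y = y * (g * (k * z * k⁻¹) * g⁻¹) := by
    intro y hy
    have h1 := hkc (g⁻¹ * y * g⁻¹⁻¹) ⟨y, hy, rfl⟩
    rw [inv_inv] at h1
    calc (g * (k * z * k⁻¹) * g⁻¹) * y = g * ((k * z * k⁻¹) * (g⁻¹ * y * g)) * g⁻¹ := by group
      _ = g * ((g⁻¹ * y * g) * (k * z * k⁻¹)) * g⁻¹ := by rw [h1]
      _ = _ := by group
  have hbR : (g * (k * z * k⁻¹) * g⁻¹) ∈ H := by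
    rcases hRt with hbot | ⟨htR, -⟩
    · exfalso
      rw [hbot, Subgroup.mem_bot, ← td.one] at hvR
      have hv1 := td.inj hvT TC_e1 hvR
      -- then `R = 1` is impossible: use the search again
      have hm' := hm
      unfold main at hm'
      rw [ab_iff] at hm'
      refine good_false st ?_ hW hm'.1
      constructor
      · intro a ha
        rw [List.mem_singleton] at ha
        rw [ha]; exact TC_e1
      · intro x
        rw [hbot, Subgroup.mem_bot]
        constructor
        · rintro rfl; exact ⟨e1, List.mem_singleton.2 rfl, td.one⟩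
        · rintro ⟨a, ha, rfl⟩
          rw [List.mem_singleton] at ha
          rw [ha]; exact td.one
    · exact hcH _ (hbc _ htR) (hbc _ hvR)
  apply hR.notMem
  have h2 := h.fix (g * k) (by
    have : (g * k) * z * (g * k)⁻¹ = g * (k * z * k⁻¹) * g⁻¹ := by group
    rw [this]; exact hbR)
  have : g = (g * k) * k⁻¹ := by group
  rw [this]; exact H.mul_mem h2 (H.inv_mem hk)

end Cfsg.Agent.Held.Closing
end

-- part: Held/CentV
section
/-!
# A closing argument for the Held group

`not_stronglyEmbedded`: in a finite group `Y` a subgroup `K` in which `C_K(z)` is a Sylow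
2-subgroup `J` of order 64 with the shape of the one of `L3(4)` is not strongly embedded.
`centralizer_le`: hence `C_G(B) ≤ H` for suitable four-groups `B`.
-/

set_option autoImplicit false

namespace Cfsg.Agent.Held.CentV

open Cfsg Subgroup

/-- In a group of order 60 with a subgroup `D` of order 15, some element of order 5 of `D`
commutes with all commutators. -/
theorem exists_five {L : Type*} [Group L] [Finite L] (D : Subgroup L) (hD : Nat.card D = 15)
    (hL : Nat.card L = 60) : ∃ δ ∈ D, orderOf δ = 5 ∧ ∀ a b : L, Commute δ (a * b * a⁻¹ * b⁻¹) := by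
  have f5 : Fact (Nat.Prime 5) := ⟨by norm_num⟩
  obtain ⟨δ', hδ'⟩ := exists_prime_orderOf_dvd_card' (G := D) 5 (by rw [hD]; norm_num)
  obtain ⟨δ, hδD⟩ := δ'
  have hδ : orderOf δ = 5 := by rwa [Subgroup.orderOf_mk] at hδ'
  -- the subgroup generated by δ is normal in D
  have hP : Nat.card (zpowers δ) = 5 := by rw [Nat.card_zpowers, hδ]
  have hPD : zpowers δ ≤ D := by rw [zpowers_le]; exact hδD
  have hnD : ((zpowers δ).subgroupOf D).Normal := by
    apply Subgroup.normal_of_index_eq_minFac_card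
    rw [hD]
    have h1 : Nat.card ((zpowers δ).subgroupOf D) = 5 := by
      rw [← hP]
      exact Nat.card_congr (Subgroup.subgroupOfEquivOfLe hPD).toEquiv
    have h2 := Subgroup.card_mul_index ((zpowers δ).subgroupOf D)
    rw [h1, hD] at h2
    have h3 : ((zpowers δ).subgroupOf D).index = 3 := by omega
    rw [h3]; norm_num
  have hDN : D ≤ normalizer (zpowers δ : Set L) :=
    (Subgroup.normal_subgroupOf_iff_le_normalizer hPD).1 hnD
  -- Sylow
  have hidx : D.index = 4 := by
    have := Subgroup.card_mul_index D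
    rw [hD, hL] at this; omega
  let P : Sylow 5 L := Sylow.ofCard (zpowers δ) (by
    rw [hP, hL]
    have : (60 : ℕ).factorization 5 = 1 := by
      rw [show (60 : ℕ) = 5 ^ 1 * 12 by norm_num, Nat.factorization_mul (by norm_num) (by norm_num)]
      simp only [Finsupp.add_apply, Nat.factorization_pow, Finsupp.smul_apply]
      rw [Nat.Prime.factorization_self (by norm_num),
        Nat.factorization_eq_zero_of_not_dvd (by norm_num : ¬ 5 ∣ 12)]
      norm_num
    rw [this]; norm_num)
  have hcoe : (P : Subgroup L) = zpowers δ := rfl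
  have h1 : Nat.card (Sylow 5 L) ≡ 1 [MOD 5] := card_sylow_modEq_one 5 L
  have h2 : Nat.card (Sylow 5 L) = (normalizer (P : Set L)).index := P.card_eq_index_normalizer
  have h3 : (normalizer (zpowers δ : Set L)).index ∣ 4 := by
    rw [← hidx]; exact Subgroup.index_dvd_of_le hDN
  have h4 : (normalizer (zpowers δ : Set L)).index = 1 := by
    have h5 : Nat.card (Sylow 5 L) = (normalizer (zpowers δ : Set L)).index := h2
    rw [h5] at h1
    have h6 : (normalizer (zpowers δ : Set L)).index ≤ 4 := Nat.le_of_dvd (by norm_num) h3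
    generalize (normalizer (zpowers δ : Set L)).index = n at *
    interval_cases n
    · exact absurd h1 (by decide)
    · rfl
    · exact absurd h1 (by decide)
    · exact absurd h1 (by decide)
    · exact absurd h1 (by decide)
  have hn : (zpowers δ).Normal := by
    rw [Subgroup.index_eq_one] at h4
    exact Subgroup.normalizer_eq_top_iff.1 h4
  refine ⟨δ, hδD, hδ, ?_⟩
  intro a b
  have hcomm : ∀ f g : MulAut (zpowers δ), f * g = g * f := by
    intro f g
    apply (IsCyclic.mulAutMulEquiv (zpowers δ)).injective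
    rw [map_mul, map_mul, mul_comm]
  have h5 : MulAut.conjNormal (H := zpowers δ) (a * b * a⁻¹ * b⁻¹) = 1 := by
    rw [map_mul, map_mul, map_mul, map_inv, map_inv, hcomm (MulAut.conjNormal a)]
    group
  have h6 := congrArg (fun f => ((f ⟨δ, mem_zpowers δ⟩ : zpowers δ) : L)) h5
  simp only [MulAut.conjNormal_apply, MulAut.one_apply] at h6
  have h7 : (a * b * a⁻¹ * b⁻¹) * δ = δ * (a * b * a⁻¹ * b⁻¹) := by
    rw [mul_inv_eq_iff_eq_mul] at h6
    exact h6
  exact h7.symm

/-- a `2`-element of an odd order subgroup is trivial -/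
theorem eq_one_of_mem_of_mem {Y : Type*} [Group Y] [Finite Y] {D J : Subgroup Y}
    (hD : Odd (Nat.card D)) (hJ : ∃ n, Nat.card J = 2 ^ n) {x : Y} (h1 : x ∈ D) (h2 : x ∈ J) :
    x = 1 := by
  obtain ⟨n, hn⟩ := hJ
  have a1 : orderOf x ∣ Nat.card D := D.orderOf_dvd_natCard h1
  have a2 : orderOf x ∣ 2 ^ n := by rw [← hn]; exact J.orderOf_dvd_natCard h2
  have h3 : Nat.Coprime (Nat.card D) (2 ^ n) := by
    apply Nat.Coprime.pow_right
    exact Nat.coprime_two_right.2 hD
  rw [← orderOf_eq_one_iff]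
  exact Nat.eq_one_of_dvd_coprimes h3 a1 a2

/-- The configuration of `L3(4)` is not a strongly embedded subgroup. -/
theorem not_stronglyEmbedded {Y : Type*} [Group Y] [Finite Y] (K : Subgroup Y)
    (hK : IsStronglyEmbedded K) (z : Y) (hz : orderOf z = 2) (J V X : Subgroup Y)
    (hJK : J ≤ K) (hJ : Nat.card J = 64) (hV : Nat.card V = 16) (hX : Nat.card X = 4)
    (hXV : X ≤ V) (hVJ : V ≤ J) (hzX : z ∈ X) (hVe : ∀ v ∈ V, v * v = 1)
    (hC : ∀ x, x * z = z * x → x ∈ J)
    (hVw : ∀ g, (∀ v ∈ V, g * v * g⁻¹ ∈ J) → g ∈ normalizer (V : Set Y))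
    (hXc : ∀ g, (∀ j ∈ J, g * j * g⁻¹ ∈ J) → g ∈ normalizer (X : Set Y))
    (hJV : J ≤ normalizer (V : Set Y)) (y : Y) (hy : y ∈ K) (hyV : y ∈ normalizer (V : Set Y))
    (hyJ : ∀ j ∈ J, ∃ a ∈ J, ∃ v ∈ V, j = a * y * a⁻¹ * y⁻¹ * v) : False := by
  obtain ⟨u, huK, hu⟩ := TwoFusion.StronglyEmbeddedBasic.exists_involution_notMem hK
  set! D : Subgroup Y := K ⊓ K.map (MulAut.conj u).toMonoidHom with hDdef
  have hDodd : Odd (Nat.card D) := hK.2.2 u huK
  have hVab : ∀ v ∈ V, ∀ w ∈ V, v * w = w * v := by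
    intro v hv w hw
    have h1 := hVe (v * w) (V.mul_mem hv hw)
    have h2 := hVe v hv
    have h3 := hVe w hw
    calc v * w = v * w * (v * w) * (v * w)⁻¹ := by group
      _ = (v * w)⁻¹ := by rw [h1, one_mul]
      _ = w⁻¹ * v⁻¹ := by group
      _ = w * v := by rw [inv_eq_of_mul_eq_one_left h2, inv_eq_of_mul_eq_one_left h3]
  have hzV : z ∈ V := hXV hzX
  have hzK : z ∈ K := hJK (hVJ hzV)
  have hz1 : z ≠ 1 := by
    intro h; rw [h, orderOf_one] at hz; exact absurd hz (by norm_num)
  have hJ2 : ∃ n, Nat.card J = 2 ^ n := ⟨6, by rw [hJ]; norm_num⟩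
  have hV2 : ∃ n, Nat.card V = 2 ^ n := ⟨4, by rw [hV]; norm_num⟩
  set! D1 : Subgroup Y := D ⊓ normalizer (V : Set Y) with hD1
  have hDtrans : ∀ v ∈ V, v ≠ 1 → ∃ d ∈ D1, d * z * d⁻¹ = v := by
    intro v hv hv1
    have hv2 : orderOf v = 2 := orderOf_eq_prime (by rw [pow_two]; exact hVe v hv) hv1
    obtain ⟨d, hdD, hd⟩ := (S1225.result K hK u hu huK z v hz hzK hv2 (hJK (hVJ hv))).1
    refine ⟨d, ⟨hdD, ?_⟩, hd⟩
    have h1 : d⁻¹ ∈ normalizer (V : Set Y) := by
      apply hVw
      intro w hw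
      apply hC
      have h2 : w * (d * z * d⁻¹) = (d * z * d⁻¹) * w := by rw [hd]; exact hVab w hw v hv
      calc d⁻¹ * w * d⁻¹⁻¹ * z = d⁻¹ * (w * (d * z * d⁻¹)) * d := by group
        _ = d⁻¹ * ((d * z * d⁻¹) * w) * d := by rw [h2]
        _ = z * (d⁻¹ * w * d⁻¹⁻¹) := by group
    have h2 := (normalizer (V : Set Y)).inv_mem h1
    rwa [inv_inv] at h2
  have hDJ : ∀ d ∈ D1, d ∈ J → d = 1 := fun d hd hdJ => eq_one_of_mem_of_mem hDodd hJ2 hd.1 hdJ
  have hnorm : ∀ g ∈ normalizer (V : Set Y), ∀ v, v ∈ V ↔ g * v * g⁻¹ ∈ V := fun g hg v =>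
    Subgroup.mem_normalizer_iff.1 hg v
  -- the order of D1
  have hD1card : Nat.card D1 = 15 := by
    have h15 : Nat.card {v : V // v ≠ 1} = 15 := by
      have h1 : Nat.card {v : V // v ≠ 1} = Nat.card V - 1 := by
        have : Fintype V := Fintype.ofFinite V
        classical
        rw [Nat.card_eq_fintype_card, Nat.card_eq_fintype_card, Fintype.card_subtype_compl,
          Fintype.card_subtype_eq]
      rw [h1, hV]
    rw [← h15]
    refine Nat.card_congr (Equiv.ofBijective (fun d : D1 => (⟨⟨(d : Y) * z * (d : Y)⁻¹,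
      (hnorm d d.2.2 z).1 hzV⟩, ?_⟩ : {v : V // v ≠ 1})) ⟨?_, ?_⟩)
    · intro h
      have h1 : (d : Y) * z * (d : Y)⁻¹ = 1 := congrArg Subtype.val h
      apply hz1
      calc z = (d : Y)⁻¹ * ((d : Y) * z * (d : Y)⁻¹) * d := by group
        _ = 1 := by rw [h1]; group
    · intro d d' h
      have h1 : (d : Y) * z * (d : Y)⁻¹ = (d' : Y) * z * (d' : Y)⁻¹ :=
        congrArg (fun w => ((w.1 : V) : Y)) h
      have h2 : (d' : Y)⁻¹ * d ∈ J := by
        apply hC
        calc (d' : Y)⁻¹ * d * z = (d' : Y)⁻¹ * ((d : Y) * z * (d : Y)⁻¹) * d := by group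
          _ = (d' : Y)⁻¹ * ((d' : Y) * z * (d' : Y)⁻¹) * d := by rw [h1]
          _ = z * ((d' : Y)⁻¹ * d) := by group
      have h3 := hDJ _ (D1.mul_mem (D1.inv_mem d'.2) d.2) h2
      apply Subtype.ext
      exact (inv_mul_eq_one.1 h3).symm
    · rintro ⟨⟨v, hv⟩, hv1⟩
      obtain ⟨d, hd, hdv⟩ := hDtrans v hv (fun h => hv1 (Subtype.ext h))
      exact ⟨⟨d, hd⟩, Subtype.ext (Subtype.ext hdv)⟩
  -- L = N_K(V)
  set! L : Subgroup Y := K ⊓ normalizer (V : Set Y) with hLdef
  have hJL : J ≤ L := le_inf hJK hJV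
  have hD1L : D1 ≤ L := fun d hd => ⟨hd.1.1, hd.2⟩
  have hVL : V ≤ L := hVJ.trans hJL
  have hLcard : Nat.card L = 15 * 64 := by
    rw [← hD1card, ← hJ, ← Nat.card_prod]
    symm
    refine Nat.card_congr (Equiv.ofBijective (fun p : D1 × J => (⟨(p.1 : Y) * p.2,
      L.mul_mem (hD1L p.1.2) (hJL p.2.2)⟩ : L)) ⟨?_, ?_⟩)
    · rintro ⟨⟨d, hd⟩, ⟨j, hj⟩⟩ ⟨⟨d', hd'⟩, ⟨j', hj'⟩⟩ h
      have h1 : d * j = d' * j' := congrArg Subtype.val h
      have h2 : d'⁻¹ * d = j' * j⁻¹ := by
        calc d'⁻¹ * d = d'⁻¹ * (d * j) * j⁻¹ := by group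
          _ = d'⁻¹ * (d' * j') * j⁻¹ := by rw [h1]
          _ = j' * j⁻¹ := by group
      have h3 := hDJ _ (D1.mul_mem (D1.inv_mem hd') hd) (by
        rw [h2]; exact J.mul_mem hj' (J.inv_mem hj))
      have h4 : d = d' := (inv_mul_eq_one.1 h3).symm
      subst h4
      have h5 : j = j' := mul_left_cancel h1
      subst h5
      rfl
    · rintro ⟨l, hl⟩
      have h1 : l * z * l⁻¹ ∈ V := (hnorm l hl.2 z).1 hzV
      have h2 : l * z * l⁻¹ ≠ 1 := by
        intro h
        apply hz1
        calc z = l⁻¹ * (l * z * l⁻¹) * l := by group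
          _ = 1 := by rw [h]; group
      obtain ⟨d, hd, hdv⟩ := hDtrans _ h1 h2
      have h3 : d⁻¹ * l ∈ J := by
        apply hC
        calc d⁻¹ * l * z = d⁻¹ * (l * z * l⁻¹) * l := by group
          _ = d⁻¹ * (d * z * d⁻¹) * l := by rw [hdv]
          _ = z * (d⁻¹ * l) := by group
      exact ⟨⟨⟨d, hd⟩, ⟨_, h3⟩⟩, Subtype.ext (by show d * (d⁻¹ * l) = l; group)⟩
  -- the quotient L / V
  have hVn : (V.subgroupOf L).Normal :=
    (Subgroup.normal_subgroupOf_iff_le_normalizer hVL).2 inf_le_right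
  let q : L →* L ⧸ V.subgroupOf L := QuotientGroup.mk' _
  have hqcard : Nat.card (L ⧸ V.subgroupOf L) = 60 := by
    have h1 := Subgroup.card_eq_card_quotient_mul_card_subgroup (V.subgroupOf L)
    have h2 : Nat.card (V.subgroupOf L) = 16 := by
      rw [← hV]; exact Nat.card_congr (Subgroup.subgroupOfEquivOfLe hVL).toEquiv
    rw [h2, hLcard] at h1
    omega
  have hqD : Nat.card ((D1.subgroupOf L).map q) = 15 := by
    rw [← hD1card]
    have h1 : Function.Injective (fun d : D1 => (⟨q ⟨d, hD1L d.2⟩, ⟨⟨d, hD1L d.2⟩, d.2, rfl⟩⟩ :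
        (D1.subgroupOf L).map q)) := by
      intro d d' h
      have h2 : q ⟨d, hD1L d.2⟩ = q ⟨d', hD1L d'.2⟩ := congrArg Subtype.val h
      have h3 : (⟨d, hD1L d.2⟩ : L)⁻¹ * ⟨d', hD1L d'.2⟩ ∈ V.subgroupOf L := QuotientGroup.eq.1 h2
      have h4 : (d : Y)⁻¹ * d' ∈ V := h3
      have h5 := hDJ _ (D1.mul_mem (D1.inv_mem d.2) d'.2) (hVJ h4)
      exact Subtype.ext (inv_mul_eq_one.1 h5)
    refine (Nat.card_congr (Equiv.ofBijective _ ⟨h1, ?_⟩)).symm
    rintro ⟨_, ⟨l, hl, rfl⟩⟩
    exact ⟨⟨l, hl⟩, rfl⟩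
  obtain ⟨δ', hδ', hδ5, hδc⟩ := exists_five _ hqD hqcard
  obtain ⟨⟨δ, hδL⟩, hδD, rfl⟩ := hδ'
  have hδD' : δ ∈ D1 := hδD
  have hδ5' : δ ^ 5 = 1 := by
    apply hDJ _ (D1.pow_mem hδD' 5)
    apply hVJ
    have h1 : q ⟨δ, hδL⟩ ^ 5 = 1 := by rw [← hδ5]; exact pow_orderOf_eq_one _
    rw [← map_pow] at h1
    have h2 : (⟨δ, hδL⟩ : L) ^ 5 ∈ V.subgroupOf L := (QuotientGroup.eq_one_iff _).1 h1
    exact h2
  have hyL : y ∈ L := ⟨hy, hyV⟩
  have hδJ : ∀ j ∈ J, δ * j * δ⁻¹ ∈ J := by
    intro j hj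
    obtain ⟨a, ha, v, hv, hjv⟩ := hyJ j hj
    have h1 := hδc (q ⟨a, hJL ha⟩) (q ⟨y, hyL⟩)
    have h2 : q (⟨δ, hδL⟩ * (⟨a, hJL ha⟩ * ⟨y, hyL⟩ * ⟨a, hJL ha⟩⁻¹ * ⟨y, hyL⟩⁻¹)) =
        q ((⟨a, hJL ha⟩ * ⟨y, hyL⟩ * ⟨a, hJL ha⟩⁻¹ * ⟨y, hyL⟩⁻¹) * ⟨δ, hδL⟩) := by
      rw [map_mul, map_mul, map_mul, map_mul, map_mul, map_inv, map_inv]
      exact h1.eq
    have h3' : (⟨δ, hδL⟩ * (⟨a, hJL ha⟩ * ⟨y, hyL⟩ * ⟨a, hJL ha⟩⁻¹ * ⟨y, hyL⟩⁻¹) : L)⁻¹ *
        ((⟨a, hJL ha⟩ * ⟨y, hyL⟩ * ⟨a, hJL ha⟩⁻¹ * ⟨y, hyL⟩⁻¹) * ⟨δ, hδL⟩) ∈ V.subgroupOf L :=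
      QuotientGroup.eq.1 h2
    have h3 : (δ * (a * y * a⁻¹ * y⁻¹))⁻¹ * ((a * y * a⁻¹ * y⁻¹) * δ) ∈ V := h3'
    have h4 : δ ∈ normalizer (V : Set Y) := hδD'.2
    -- δ c δ⁻¹ ∈ V c
    set! c := a * y * a⁻¹ * y⁻¹ with hc; rewrite [← hc] at h3 hjv
    have h5 : c ∈ J := by
      have : c = j * v⁻¹ := by rw [hjv]; group
      rw [this]; exact J.mul_mem hj (J.inv_mem (hVJ hv))
    have h6 : δ * c * δ⁻¹ = c * ((δ) * ((δ * c)⁻¹ * (c * δ)) * δ⁻¹)⁻¹ := by group
    rw [hjv]
    have h7 : δ * (c * v) * δ⁻¹ = (δ * c * δ⁻¹) * (δ * v * δ⁻¹) := by group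
    rw [h7, h6]
    refine J.mul_mem (J.mul_mem h5 (J.inv_mem (hVJ ?_))) (hVJ ((hnorm δ h4 v).1 hv))
    exact (hnorm δ h4 _).1 h3
  have hδX := hXc δ hδJ
  -- δ commutes with X
  have hδz : δ * z = z * δ := by
    let φ : normalizer (X : Set Y) →* MulAut X := X.normalizerMonoidHom
    let ψ : MulAut X →* Equiv.Perm X := MulAut.toPerm X
    have h1 : (ψ (φ ⟨δ, hδX⟩)) ^ 5 = 1 := by
      rw [← map_pow, ← map_pow]
      have : (⟨δ, hδX⟩ : normalizer (X : Set Y)) ^ 5 = 1 := Subtype.ext hδ5'
      rw [this, map_one, map_one]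
    have h2 : orderOf (ψ (φ ⟨δ, hδX⟩)) ∣ 5 := orderOf_dvd_of_pow_eq_one h1
    have h3 : orderOf (ψ (φ ⟨δ, hδX⟩)) ∣ 24 := by
      have : Nat.card (Equiv.Perm X) = 24 := by
        rw [Nat.card_perm, hX]; rfl
      rw [← this]; exact _root_.orderOf_dvd_natCard _
    have h4 : orderOf (ψ (φ ⟨δ, hδX⟩)) = 1 :=
      Nat.eq_one_of_dvd_coprimes (by norm_num : Nat.Coprime 5 24) h2 h3
    rw [orderOf_eq_one_iff] at h4
    have h5 : (ψ (φ ⟨δ, hδX⟩)) ⟨z, hzX⟩ = ⟨z, hzX⟩ := by rw [h4]; rfl
    have h6 : δ * z * δ⁻¹ = z := congrArg Subtype.val h5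
    rw [mul_inv_eq_iff_eq_mul] at h6
    exact h6
  have h1 := hDJ δ hδD' (hC δ hδz)
  rw [show (⟨δ, hδL⟩ : L) = 1 from Subtype.ext h1, map_one, orderOf_one] at hδ5
  exact absurd hδ5 (by norm_num)

/-- the order of the image in the quotient -/
theorem card_map_mk {Y : Type*} [Group Y] [Finite Y] (N A : Subgroup Y) [N.Normal] (h : N ≤ A) :
    Nat.card (A.map (QuotientGroup.mk' N)) * Nat.card N = Nat.card A := by
  have h1 : (A.map (QuotientGroup.mk' N)).index = A.index := by
    apply Subgroup.index_map_eq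
    · exact QuotientGroup.mk'_surjective N
    · rw [QuotientGroup.ker_mk']; exact h
  have h2 := Subgroup.card_mul_index (A.map (QuotientGroup.mk' N))
  have h3 := Subgroup.card_mul_index A
  have h4 := Subgroup.card_eq_card_quotient_mul_card_subgroup N
  rw [h1] at h2
  have h5 : 0 < A.index := Nat.pos_of_ne_zero Subgroup.index_ne_zero_of_finite
  apply Nat.eq_of_mul_eq_mul_right h5
  calc Nat.card (A.map (QuotientGroup.mk' N)) * Nat.card N * A.index
      = (Nat.card (A.map (QuotientGroup.mk' N)) * A.index) * Nat.card N := by ring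
    _ = Nat.card Y := by rw [h2, h4]
    _ = _ := h3.symm

/-- some power of `x` lies outside `J` and has its square in `J` -/
theorem exists_sq {Y : Type*} [Group Y] {J : Subgroup Y} {x : Y} (hx : x ∉ J) {k : ℕ}
    (hk : x ^ 2 ^ k ∈ J) : ∃ i, x ^ 2 ^ i ∉ J ∧ x ^ 2 ^ i * x ^ 2 ^ i ∈ J := by
  induction k with
  | zero => exact absurd (by simpa using hk) hx
  | succ k ih =>
    by_cases h : x ^ 2 ^ k ∈ J
    · exact ih h
    · refine ⟨k, h, ?_⟩
      rw [← pow_add]
      have : 2 ^ k + 2 ^ k = 2 ^ (k + 1) := by ring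
      rw [this]; exact hk

/-- A `2`-subgroup `J` such that no element `x ∉ J` normalises `J` with `x ^ 2 ∈ J` contains a
conjugate of every `2`-element. -/
theorem exists_conj_mem {M : Type*} [Group M] [Finite M] (J : Subgroup M) (hJ : IsPGroup 2 J)
    (hS : ∀ x : M, (∀ j ∈ J, x * j * x⁻¹ ∈ J) → x * x ∈ J → x ∈ J) (m : M) (k : ℕ)
    (hm : m ^ 2 ^ k = 1) : ∃ h : M, h * m * h⁻¹ ∈ J := by
  have f2 : Fact (Nat.Prime 2) := ⟨Nat.prime_two⟩
  obtain ⟨S, hJS⟩ := hJ.exists_le_sylow
  have hSJ : (S : Subgroup M) ≤ J := by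
    by_contra hcon
    have h1 : J.subgroupOf S < ⊤ := by
      rw [lt_top_iff_ne_top]
      intro h
      apply hcon
      rwa [Subgroup.subgroupOf_eq_top] at h
    have hnil : Group.IsNilpotent S := S.isPGroup'.isNilpotent
    have hnc : NormalizerCondition S := Group.normalizerCondition_of_isNilpotent
    have h2 := hnc _ h1
    obtain ⟨x, hxN, hxJ⟩ := SetLike.exists_of_lt h2
    obtain ⟨k, hk⟩ := S.isPGroup' x
    obtain ⟨i, hi1, hi2⟩ := exists_sq hxJ (k := k) (by rw [hk]; exact one_mem _)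
    have hxi : x ^ 2 ^ i ∈ normalizer ((J.subgroupOf S : Subgroup S) : Set S) :=
      Subgroup.pow_mem _ hxN _
    apply hi1
    show ((x ^ 2 ^ i : S) : M) ∈ J
    apply hS
    · intro j hj
      exact (Subgroup.mem_normalizer_iff.1 hxi ⟨j, hJS hj⟩).1 hj
    · exact hi2
  have hmp : IsPGroup 2 (zpowers m) := by
    intro y
    obtain ⟨n, hn⟩ := Subgroup.mem_zpowers_iff.1 y.2
    refine ⟨k, Subtype.ext ?_⟩
    show (y : M) ^ 2 ^ k = 1
    rw [← hn, ← zpow_natCast, ← zpow_mul, mul_comm, zpow_mul, zpow_natCast, hm, one_zpow]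
  obtain ⟨Q, hQ⟩ := hmp.exists_le_sylow
  obtain ⟨h, hh⟩ := MulAction.exists_smul_eq M Q S
  refine ⟨h, hSJ ?_⟩
  rw [← hh]
  show h * m * h⁻¹ ∈ ((h • Q : Sylow 2 M) : Subgroup M)
  rw [Sylow.coe_subgroup_smul]
  have := Subgroup.smul_mem_pointwise_smul m (MulAut.conj h) (Q : Subgroup M) (hQ (mem_zpowers m))
  simpa only [_root_.MulAut.smul_def, _root_.MulAut.conj_apply] using this

/-- The closing argument for a four-group `B` consisting of non-conjugates of `z`:
`C_G(B) ≤ H`. -/
theorem centralizer_le {G : Type*} [Group G] [Finite G] (z : G) (H B X V J : Subgroup G) (hA : ∀ g, g * z * g⁻¹ ∈ H → g ∈ H) (hBX : B ≤ X) (hXV : X ≤ V)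
    (hVJ : V ≤ J) (hJH : J ≤ H) (hB : Nat.card B = 4) (hX : Nat.card X = 16)
    (hV : Nat.card V = 64) (hJ : Nat.card J = 256) (hVe : ∀ v ∈ V, v * v = 1) (hzX : z ∈ X)
    (hzB : z ∉ B) (hJB : J ≤ centralizer (B : Set G))
    (hCzB : ∀ x, x * z = z * x → x ∈ centralizer (B : Set G) → x ∈ J)
    (hJz : ∀ x ∈ J, x * z = z * x)
    (hJS : ∀ x ∈ centralizer (B : Set G), (∀ j ∈ J, x * j * x⁻¹ ∈ J) → x * x ∈ J → x ∈ J)
    (hcoset : ∀ x ∈ J, x ∉ B → x * x ∈ B → ∃ b ∈ B, ∃ g, g * z * g⁻¹ = x * b)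
    (hVw : ∀ g, (∀ v ∈ V, g * v * g⁻¹ ∈ J) → g ∈ normalizer (V : Set G))
    (hXc : ∀ g, (∀ j ∈ J, g * j * g⁻¹ ∈ J) → g ∈ normalizer (X : Set G))
    (hJV : J ≤ normalizer (V : Set G)) (y : G) (hyH : y ∈ H)
    (hyB : y ∈ centralizer (B : Set G)) (hyV : y ∈ normalizer (V : Set G))
    (hyJ : ∀ j ∈ J, ∃ a ∈ J, ∃ v ∈ V, j = a * y * a⁻¹ * y⁻¹ * v) :
    centralizer (B : Set G) ≤ H := by
  have f2 : Fact (Nat.Prime 2) := ⟨Nat.prime_two⟩
  by_contra hYH
  set Y : Subgroup G := centralizer (B : Set G) with hY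
  have hBY : B ≤ Y := (hBX.trans (hXV.trans hVJ)).trans hJB
  have hBH : B ≤ H := (hBX.trans (hXV.trans hVJ)).trans hJH
  have hJp : IsPGroup 2 J := IsPGroup.of_card (n := 8) (by rw [hJ]; norm_num)
  have hcomm : ∀ y ∈ Y, ∀ b ∈ B, y * b = b * y := by
    intro y hy b hb
    exact (Subgroup.mem_centralizer_iff.1 hy b hb).symm
  -- a 2-element of H ∩ Y modulo B is conjugate into J
  have step0 : ∀ x ∈ H, x ∈ Y → x * x ∈ B → ∃ h ∈ H, h ∈ Y ∧ h * x * h⁻¹ ∈ J := by
    intro x hxH hxY hxx
    let M : Subgroup G := H ⊓ Y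
    have hJM : J ≤ M := le_inf hJH hJB
    obtain ⟨h, hh⟩ := exists_conj_mem (M := M) (J.subgroupOf M)
      (hJp.comap_of_injective M.subtype M.subtype_injective) (by
        intro x h1 h2
        exact hJS (x : G) x.2.2 (fun j hj => h1 ⟨j, hJM hj⟩ hj) h2)
      ⟨x, hxH, hxY⟩ 2 (by
        apply Subtype.ext
        show x ^ 2 ^ 2 = 1
        have h1 := hVe _ (hXV (hBX hxx))
        calc x ^ 2 ^ 2 = (x * x) * (x * x) := by norm_num [pow_succ, mul_assoc]
          _ = 1 := h1)
    exact ⟨h, h.2.1, h.2.2, hh⟩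
  have step1 : ∀ n ∈ Y, ∀ x ∈ H, x ∈ Y → x ∉ B → x * x ∈ B → n⁻¹ * x * n ∈ H → n ∈ H := by
    intro n hn x hxH hxY hxB hxx hnx
    obtain ⟨h, hhH, hhY, hhx⟩ := step0 x hxH hxY hxx
    have h1 : h * x * h⁻¹ ∉ B := by
      intro h1
      apply hxB
      have h2 : h⁻¹ * (h * x * h⁻¹) * h = h * x * h⁻¹ := by
        rw [mul_assoc, ← hcomm h hhY _ h1]; group
      have h3 : x = h * x * h⁻¹ := by
        rw [← h2]; group
      rw [h3]; exact h1
    have h2 : (h * x * h⁻¹) * (h * x * h⁻¹) ∈ B := by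
      have : (h * x * h⁻¹) * (h * x * h⁻¹) = x * x := by
        calc (h * x * h⁻¹) * (h * x * h⁻¹) = h * (x * x) * h⁻¹ := by group
          _ = x * x := by rw [hcomm h hhY _ hxx]; group
      rw [this]; exact hxx
    obtain ⟨b, hb, g, hg⟩ := hcoset _ hhx h1 h2
    have h3 : g ∈ H := by
      apply hA
      rw [hg]
      exact H.mul_mem (H.mul_mem (H.mul_mem hhH hxH) (H.inv_mem hhH)) (hBH hb)
    have h4 : n⁻¹ * h⁻¹ * g ∈ H := by
      apply hA
      have h5 : n⁻¹ * h⁻¹ * g * z * (n⁻¹ * h⁻¹ * g)⁻¹ = (n⁻¹ * x * n) * b := by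
        calc n⁻¹ * h⁻¹ * g * z * (n⁻¹ * h⁻¹ * g)⁻¹
            = n⁻¹ * h⁻¹ * (g * z * g⁻¹) * h * n := by group
          _ = n⁻¹ * (x * (h⁻¹ * (b * h))) * n := by rw [hg]; group
          _ = n⁻¹ * (x * b) * n := by rw [← hcomm h hhY b hb]; group
          _ = (n⁻¹ * x * n) * (n⁻¹ * (b * n)) := by group
          _ = (n⁻¹ * x * n) * b := by rw [← hcomm n hn b hb]; group
      rw [h5]
      exact H.mul_mem hnx (hBH hb)
    have h5 : n⁻¹ = (n⁻¹ * h⁻¹ * g) * g⁻¹ * h := by group
    have h6 : n⁻¹ ∈ H := by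
      rw [h5]
      exact H.mul_mem (H.mul_mem h4 (H.inv_mem h3)) hhH
    have h7 := H.inv_mem h6
    rwa [inv_inv] at h7
  -- the quotient
  let B' : Subgroup Y := B.subgroupOf Y
  have hB'n : B'.Normal := by
    constructor
    intro b hb g
    have h1 : (b : G) ∈ B := hb
    show (g : G) * b * (g : G)⁻¹ ∈ B
    rw [hcomm g g.2 b h1]
    simpa using h1
  let q : Y →* Y ⧸ B' := QuotientGroup.mk' B'
  have hqker : ∀ n : Y, q n = 1 ↔ (n : G) ∈ B := fun n => QuotientGroup.eq_one_iff n
  -- images of subgroups between B and Y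
  have himg : ∀ A : Subgroup G, B ≤ A → ∀ n : Y, q n ∈ (A.subgroupOf Y).map q ↔ (n : G) ∈ A := by
    intro A hBA n
    constructor
    · rintro ⟨m, hm, hmn⟩
      have h1 : (m : Y)⁻¹ * n ∈ B' := QuotientGroup.eq.1 hmn
      have h2 : ((m : Y) : G)⁻¹ * n ∈ B := h1
      have h3 : (n : G) = m * ((m : G)⁻¹ * n) := by group
      rw [h3]
      exact A.mul_mem hm (hBA h2)
    · intro hn
      exact ⟨n, hn, rfl⟩
  have hcard : ∀ A : Subgroup G, B ≤ A → A ≤ Y →
      Nat.card ((A.subgroupOf Y).map q) * 4 = Nat.card A := by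
    intro A hBA hAY
    have h1 := card_map_mk B' (A.subgroupOf Y) (by
      intro x hx
      exact hBA hx)
    have h2 : Nat.card B' = 4 := by
      rw [← hB]; exact Nat.card_congr (Subgroup.subgroupOfEquivOfLe hBY).toEquiv
    have h3 : Nat.card (A.subgroupOf Y) = Nat.card A :=
      Nat.card_congr (Subgroup.subgroupOfEquivOfLe hAY).toEquiv
    rw [h2, h3] at h1
    exact h1
  let K := (H.subgroupOf Y).map q
  have hzY : z ∈ Y := hJB (hVJ (hXV hzX))
  have hVY : V ≤ Y := hVJ.trans hJB
  have hXY : X ≤ Y := hXV.trans hVY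
  have hBV : B ≤ V := hBX.trans hXV
  have hBJ : B ≤ J := hBV.trans hVJ
  have hzz : z * z = 1 := hVe z (hXV hzX)
  have hqz : orderOf (q ⟨z, hzY⟩) = 2 := by
    apply orderOf_eq_prime
    · rw [← map_pow, hqker]
      show z ^ 2 ∈ B
      rw [pow_two, hzz]; exact B.one_mem
    · rw [Ne, hqker]; exact hzB
  have hSE : IsStronglyEmbedded K := by
    refine ⟨?_, ?_, ?_⟩
    · intro htop
      apply hYH
      intro n hn
      have h1 : q ⟨n, hn⟩ ∈ K := by rw [htop]; trivial
      exact (himg H hBH ⟨n, hn⟩).1 h1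
    · have hzK : q ⟨z, hzY⟩ ∈ K := (himg H hBH ⟨z, hzY⟩).2 (hJH (hVJ (hXV hzX)))
      have h1 : orderOf (⟨q ⟨z, hzY⟩, hzK⟩ : K) = 2 := by
        rw [Subgroup.orderOf_mk]; exact hqz
      rw [even_iff_two_dvd, ← h1]
      exact _root_.orderOf_dvd_natCard _
    · intro w hw
      obtain ⟨n, rfl⟩ := QuotientGroup.mk'_surjective B' w
      rw [← Nat.not_even_iff_odd, even_iff_two_dvd]
      intro hdvd
      obtain ⟨w, hw2⟩ := exists_prime_orderOf_dvd_card' 2 hdvd
      obtain ⟨m, hm⟩ := QuotientGroup.mk'_surjective B' (w : Y ⧸ B')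
      have hw1 : orderOf (w : Y ⧸ B') = 2 := by rw [← hw2]; exact Subgroup.orderOf_coe w
      have hm' : q m = w := hm
      apply hw
      show q n ∈ K
      rw [himg H hBH]
      apply step1 n n.2 m
      · rw [← himg H hBH, hm']
        exact w.2.1
      · exact m.2
      · rw [← hqker, hm']
        intro h
        rw [h, orderOf_one] at hw1
        exact absurd hw1 (by norm_num)
      · have h1 : (w : Y ⧸ B') * w = 1 := by
          have := pow_orderOf_eq_one (w : Y ⧸ B')
          rwa [hw1, pow_two] at this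
        rw [← hm', ← map_mul, hqker] at h1
        exact h1
      · obtain ⟨v, hv, hvw⟩ := w.2.2
        have h1 : q n * v * (q n)⁻¹ = q m := by rw [hm']; exact hvw
        have h2 : v = q (n⁻¹ * m * n) := by
          rw [map_mul, map_mul, ← h1, map_inv]; group
        rw [h2] at hv
        exact (himg H hBH (n⁻¹ * m * n)).1 hv
  have hYmul : ∀ a ∈ Y, ∀ b ∈ Y, a * b * a⁻¹ ∈ Y := fun a ha b hb =>
    Y.mul_mem (Y.mul_mem ha hb) (Y.inv_mem ha)
  have hnrm : ∀ A : Subgroup G, B ≤ A → ∀ n : Y, (n : G) ∈ normalizer (A : Set G) →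
      q n ∈ normalizer (((A.subgroupOf Y).map q : Subgroup (Y ⧸ B')) : Set (Y ⧸ B')) := by
    intro A hBA n hn
    rw [Subgroup.mem_normalizer_iff]
    intro w
    obtain ⟨m, rfl⟩ := QuotientGroup.mk'_surjective B' w
    show q m ∈ (A.subgroupOf Y).map q ↔ q n * q m * (q n)⁻¹ ∈ (A.subgroupOf Y).map q
    rw [← map_inv, ← map_mul, ← map_mul, himg A hBA, himg A hBA]
    exact Subgroup.mem_normalizer_iff.1 hn m
  refine not_stronglyEmbedded K hSE (q ⟨z, hzY⟩) hqz ((J.subgroupOf Y).map q)
    ((V.subgroupOf Y).map q) ((X.subgroupOf Y).map q) ?_ ?_ ?_ ?_ ?_ ?_ ?_ ?_ ?_ ?_ ?_ ?_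
    (q ⟨y, hyB⟩) ?_ ?_ ?_
  · exact Subgroup.map_mono (fun x hx => hJH hx)
  · have := hcard J hBJ hJB
    rw [hJ] at this; omega
  · have := hcard V hBV hVY
    rw [hV] at this; omega
  · have := hcard X hBX hXY
    rw [hX] at this; omega
  · exact Subgroup.map_mono (fun x hx => hXV hx)
  · exact Subgroup.map_mono (fun x hx => hVJ hx)
  · exact (himg X hBX ⟨z, hzY⟩).2 hzX
  · rintro _ ⟨v, hv, rfl⟩
    rw [← map_mul, hqker]
    show (v : G) * v ∈ B
    rw [hVe v hv]; exact B.one_mem
  · intro w hw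
    obtain ⟨x, rfl⟩ := QuotientGroup.mk'_surjective B' w
    show q x ∈ (J.subgroupOf Y).map q
    rw [himg J hBJ]
    have h1 : q (x * ⟨z, hzY⟩) = q (⟨z, hzY⟩ * x) := by
      rw [map_mul, map_mul]; exact hw
    have h2 : (x * ⟨z, hzY⟩)⁻¹ * (⟨z, hzY⟩ * x) ∈ B' := QuotientGroup.eq.1 h1
    have h3' : ((x : G) * z)⁻¹ * (z * x) ∈ B := h2
    obtain ⟨b, hb⟩ : ∃ b, b = ((x : G) * z)⁻¹ * (z * x) := ⟨_, rfl⟩
    have h3 : b ∈ B := by rw [hb]; exact h3'
    have h4 : z * x = x * z * b := by rw [hb]; group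
    have hbb : b * b = 1 := hVe b (hBV h3)
    have hxb := hcomm x x.2 b h3
    have hzb := hcomm z hzY b h3
    -- x z x⁻¹ = z b
    have h5 : (x : G) * z * (x : G)⁻¹ = z * b := by
      rw [mul_inv_eq_iff_eq_mul]
      calc (x : G) * z = x * z * b * b := by rw [mul_assoc, hbb, mul_one]
        _ = z * x * b := by rw [← h4]
        _ = z * b * x := by rw [mul_assoc, hxb, ← mul_assoc]
    have hcz : ∀ j : G, j * z = z * j → j ∈ Y → ((x : G) * j * (x : G)⁻¹) * z = z * (x * j * (x : G)⁻¹) := by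
      intro j hj hjY
      have h6 : ((x : G) * j * (x : G)⁻¹) * (z * b) = (z * b) * (x * j * (x : G)⁻¹) := by
        rw [← h5]
        calc (x : G) * j * (x : G)⁻¹ * (x * z * (x : G)⁻¹) = x * (j * z) * (x : G)⁻¹ := by group
          _ = x * (z * j) * (x : G)⁻¹ := by rw [hj]
          _ = _ := by group
      have h7 := hcomm _ (hYmul x x.2 j hjY) b h3
      have h8 : ((x : G) * j * (x : G)⁻¹) * z * b = z * (x * j * (x : G)⁻¹) * b := by
        calc ((x : G) * j * (x : G)⁻¹) * z * b = ((x : G) * j * (x : G)⁻¹) * (z * b) := by group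
          _ = (z * b) * (x * j * (x : G)⁻¹) := h6
          _ = z * (b * (x * j * (x : G)⁻¹)) := by group
          _ = z * ((x * j * (x : G)⁻¹) * b) := by rw [h7]
          _ = _ := by group
      exact mul_right_cancel h8
    apply hJS x x.2
    · intro j hj
      exact hCzB _ (hcz j (hJz j hj) (hJB hj)) (hYmul x x.2 j (hJB hj))
    · apply hCzB _ _ (Y.mul_mem x.2 x.2)
      have h6 : (x : G) * x * z * ((x : G) * x)⁻¹ = z := by
        calc (x : G) * x * z * ((x : G) * x)⁻¹ = x * (x * z * (x : G)⁻¹) * (x : G)⁻¹ := by group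
          _ = x * (z * b) * (x : G)⁻¹ := by rw [h5]
          _ = (x * z * (x : G)⁻¹) * (x * b * (x : G)⁻¹) := by group
          _ = z * b * b := by rw [h5, hxb]; group
          _ = z := by rw [mul_assoc, hbb, mul_one]
      rw [mul_inv_eq_iff_eq_mul] at h6
      exact h6
  · intro w hw
    obtain ⟨g, rfl⟩ := QuotientGroup.mk'_surjective B' w
    apply hnrm V hBV
    apply hVw
    intro v hv
    have h1 := hw (q ⟨v, hVY hv⟩) ((himg V hBV ⟨v, hVY hv⟩).2 hv)
    have h2 : q (g * ⟨v, hVY hv⟩ * g⁻¹) ∈ (J.subgroupOf Y).map q := by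
      rw [map_mul, map_mul, map_inv]; exact h1
    exact (himg J hBJ _).1 h2
  · intro w hw
    obtain ⟨g, rfl⟩ := QuotientGroup.mk'_surjective B' w
    apply hnrm X hBX
    apply hXc
    intro v hv
    have h1 := hw (q ⟨v, hJB hv⟩) ((himg J hBJ ⟨v, hJB hv⟩).2 hv)
    have h2 : q (g * ⟨v, hJB hv⟩ * g⁻¹) ∈ (J.subgroupOf Y).map q := by
      rw [map_mul, map_mul, map_inv]; exact h1
    exact (himg J hBJ _).1 h2
  · rintro _ ⟨j, hj, rfl⟩
    exact hnrm V hBV j (hJV hj)
  · exact (himg H hBH ⟨y, hyB⟩).2 hyH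
  · exact hnrm V hBV ⟨y, hyB⟩ hyV
  · rintro _ ⟨j, hj, rfl⟩
    obtain ⟨a, ha, v, hv, hjv⟩ := hyJ j hj
    refine ⟨q ⟨a, hJB ha⟩, (himg J hBJ ⟨a, hJB ha⟩).2 ha, q ⟨v, hVY hv⟩,
      (himg V hBV ⟨v, hVY hv⟩).2 hv, ?_⟩
    rw [← map_mul, ← map_inv, ← map_mul, ← map_inv, ← map_mul, ← map_mul]
    congr 1
    exact Subtype.ext hjv

end Cfsg.Agent.Held.CentV
end

-- part: Held/Fus8
section
/-!
# Fusion of the involutions of `T` in a subgroup containing `C_G(z)`, `y1`, `y2`

`tc n`, `n < 1024`, are the codes of the unitriangular matrices; `kf n` is `0` if `tc n` is not an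
involution and otherwise `1 +` the number of the `C`-class: `0 = z`, `1 = a1` (row `0`),
`2 = a2` (column `4`), `3 = b`, `4 = d`, `5 = z d`, `6 = e1` (meets `V1` only), `7 = e2` (meets
`V2` only).
-/

set_option autoImplicit false
set_option linter.unusedSectionVars false

namespace Cfsg.Agent.Held.Fus8

open Cfsg.Agent.Held.Code Cfsg.Agent.Held.SideDef Cfsg.Agent.Held.Acts Cfsg.Agent.Held.Mirror
  Cfsg.Agent.Lib.F2Mat

/-- the code of the unitriangular matrix with index `n` -/
def tc (n : ℕ) : ℕ :=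
  Nat.add (Nat.add (Nat.add (Nat.add 17043521 (Nat.mul 2 (Nat.mod n 16)))
    (Nat.mul 128 (Nat.mod (Nat.div n 16) 8))) (Nat.mul 8192 (Nat.mod (Nat.div n 128) 4)))
    (Nat.mul 524288 (Nat.div n 512))

/-- the classes, packed -/
def KF : ℕ := 0x8000008080000080000000000000000000000000000000004404003044040030800000808000008000000000000000000000000000000004400004344000043000000000000000000000000000000000000000000000000000000000000000000000000000000000000000000000000000000000000000000000000000000000000000000000000000000000000000000000808000008084040040340400403000000000000000000000000000000000000080800000808000044430000444300000000000000007005700670067005000000000000000000080008000800080000000000000000000800080008000800000000000000000075007600760075000000000000000000080008000800080000000000000000400440034004400300000000000000000008000800080008000000000000000000440043004400430000000000000000000800080008000800000000000000000008000800080008000000000000000070067006700570050000000000000000007600760075007505070706060707050705070607060705070705060707060504040403040404030607070605070705070607060705070507070606070705052222222122222220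

/-- the words, packed -/
def WD : ℕ := 0x1ca00000000000000000000000000000000025c00000000015c00000000000000000000000000000000005c00000000000000000000000000000000000000000000000000000000000000000000000000000000000000000000000000000000000000000000000000000000000000000000000000000000000000000000000000000000000000000000000000000000018c00018b000000001b5900000000000000018b00000000008c00008b000000000b5900000000000000008b00000000012c00000000000000000000000000000000002c00000000001c00000000000000000000000000000000000c0000000000000000000000000000000000000000000000000000000000000000000000000000000000000000000000000000000000000000000000000000000000000000000000000000000000000000000000000000000000000000000000000018b500185c0000000000000000000000000018b600185c0008b500085c0000000000000000000000000008b600085c0000000000000000000000000000000000000000000000000000000000000000000000000000000000000000000000000000000000000000000000000000000000000000000000000000000000000000000000000000000000000000000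00000000000000000000000000000000000000000000000000000000000000000000000000000000000000000000000000000000000000000000000000000000000000000000000000000000000000000000000000000000000000000000000000000000000000000000000000000000000000000000000000000000000000000000000000000000000000000000000000000000000000000000000000000000000000000000000000000000000000000000000000000000000000000000000000000000000000000000000000000000000000000000000000000000000000000000000000000000000000000000000000000000000000000000000000000000000000000000000000000000000000000000000000000000000000000000000000000000000000000000000000000000000000000000000000000000000000000000000000000000000000000000000000000000000000000000000000000000000000000000000000000000000000000000000000000000000000000000000000000000000000000000000000000000000001c9a0000000025c90000000000000000000000000000000015c90000000005c90001b500000000001b0000000000000018c900000000001b0000b500000000000b0000000000000008c900000000000b000000000000000000000000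0000000000000000000000000000000000000000000000000000000000000000000000000000000000000000000000000000000000000000000000000000000000000000000000000000000000000000000000000000000000000000000000000000000012c90000000002c90000000000000000000000000000000001c90000000000c9000000000000000000000000001b560185c90001b60001b6000000000000000000000000000b560085c90000b60000b600000000000000000000000000000000000000000000000000000000000000000000000000000000000000000000000000018d000000000000019ac800087d000000000000009ac80008d6000000000000019ac800008d000000000000009ac800000000000000000000000000000000000000000000000000000000000000000000000000000000000000000000000000000000000000000000082500000000000000000000028500000000000000000000018500000000000000000000008500000000000000000000000000000000000000000000000000000000000000000000000000000000000000000000000000000000000000000000008200000000000000000000002800000000000000000000001800000000000000000000000800000000000000000000000000000000000000000000000000000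000000000000000000000000000000000000000000000000000000000185d18567b00000000000000857d08567b0000000000000085d618567b00000000000000085d08567b00000000000000000000000000000000000000000000000000000000000000000000000000000000000000000000000000000000000000000000001d0000000000000000000000250000000000000000000000150000000000000000000000050000000000000000000000000000000000000000000000000000000000000000000000000000000000000000000000000001c8000000000000000018001c860000000000000000180000c8000000000000000008000c8600000000000000000800000000000000000000000000000000000000000000000000000000000000000000000000000000000000000000000000000000000000000000001200000000000000000000000200000000000000000000000100000000000000000000000000000000000000000000000000000000000000000000000000000000000000000000000000000000000000000000000000000000000000185b0001850000000000000185b600018500000000000000085b0000850000000000000085b60000850000000000000000000000000000000000000000000000000000000000000000000000000000000000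0000000000000000000000000000000000018d00000000000000000000025800000000000000000000015800000000000000000000005800000000000000000000000000000000000000000000000000000000000000000000000000000000000000000000000000000000000000000000185d0000000000000000000025850000000000000000000015850000000000000000000005850000000000000000000000000000000000000000000000000000000000000000000000000000000000000000000000000001870000000000000019c80000870000000000000009c80000180000000000000019c80000080000000000000009c800000000000000000000000000000000000000000000000000000000000000000000000000000000000000000000000000000000000000185701856b00000000000000085700856b00000000000000018501856b00000000000000008500856b00000000019a0000000001cd0000000000ca00000000009a00000000019a0000000001ca0000000000cd00000000009a00000000001d0000000019ac0000000000ad0000000009ac0000000000d90000000019ac00000000000d0000000009ac000000000c9a000000001cd900000000001a00000000000a000000000cd9000000001c9a00000000001a00000000000a00000000001c0000000000010000000001c900000000000100000000000c0000000000000000000000c90000000000000000000000190000000001ac0000000000ac00000000000900000000001900000000001c00000000000c00000000000900000000001a00000000019c00000000000a00000000009c00000000000100000000019c00000000000000000000009c000000000ac9000000001ac90000000000010000000000000000000000c90000000001c9000000000001000000000000000b570000ca0000b700000d00b567000c9a000b670000000000b500000c00000b000000000b560000c90000b6000000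

/-- `0` if `tc n` is not an involution, `1 +` class number otherwise -/
def kf (n : ℕ) : ℕ := Nat.land (Nat.shiftRight KF (Nat.mul 4 n)) 15

/-- the word conjugating `tc n` to the representative -/
def wd (n : ℕ) : ℕ := Nat.land (Nat.shiftRight WD (Nat.mul 24 n)) 16777215

/-- generators (transvections of `C`) -/
def gn (d : ℕ) : ℕ :=
  match d with
  | 1 => 17043523
  | 2 => 17043525
  | 3 => 17043529
  | 4 => 17043537
  | 5 => 17043649
  | 6 => 17043777
  | 7 => 17044033
  | 8 => 17045569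
  | 9 => 17051713
  | 10 => 17059905
  | 11 => 17109057
  | 12 => 17174593
  | 13 => 17567809
  | _ => 17043521

/-- conjugation by an involution -/
def cj (g a : ℕ) : ℕ := mu (mu g a) g

/-- conjugation by a packed word -/
def run : ℕ → ℕ → ℕ → ℕ
  | 0, _, a => a
  | k + 1, w, a => run k (Nat.shiftRight w 4) (cj (gn (Nat.land w 15)) a)

/-- representatives of the classes -/
def rp (r : ℕ) : ℕ :=
  match r with
  | 0 => 17043537
  | 1 => 17043529
  | 2 => 17044033
  | 3 => 17044041
  | 4 => 17043649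
  | 5 => 17043665
  | 6 => 17043781
  | 7 => 17060161
  | _ => 17043521

theorem rp0 : rp 0 = zc := by decide +kernel
theorem rp1 : rp 1 = X 0 3 := by decide +kernel
theorem rp2 : rp 2 = X 1 4 := by decide +kernel
theorem rp3 : rp 3 = mu (X 0 3) (X 1 4) := by decide +kernel
theorem rp4 : rp 4 = X 1 2 := by decide +kernel
theorem rp5 : rp 5 = mu (X 0 4) (X 1 2) := by decide +kernel
theorem rp6 : rp 6 = mu (X 0 2) (X 1 3) := by decide +kernel
theorem gn_ck : allb 16 (fun d => isC (gn d) (gn d)) = true := by decide +kernel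

theorem tc_ck : allb 1024 (fun n => cond (Nat.beq (kf n) 0)
    (not (Nat.beq (mu (tc n) (tc n)) e1) || Nat.beq n 0)
    (Nat.ble (kf n) 8 && (isC (tc n) (tc n) &&
      Nat.beq (run 6 (wd n) (tc n)) (rp (Nat.pred (kf n)))))) = true := by
  decide +kernel

section

variable {G : Type*} [Group G] {z : G} {ph : ℕ → G} {H : Subgroup G}

/-- conjugacy under `H` -/
def HC (H : Subgroup G) (x y : G) : Prop := ∃ h ∈ H, h * x * h⁻¹ = y

theorem HC.refl (x : G) : HC H x x := ⟨1, H.one_mem, by group⟩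

theorem HC.symm {x y : G} (h : HC H x y) : HC H y x := by
  obtain ⟨g, hg, rfl⟩ := h
  exact ⟨g⁻¹, H.inv_mem hg, by group⟩

theorem HC.trans {x y w : G} (h : HC H x y) (h' : HC H y w) : HC H x w := by
  obtain ⟨g, hg, rfl⟩ := h
  obtain ⟨k, hk, rfl⟩ := h'
  exact ⟨k * g, H.mul_mem hk hg, by group⟩

theorem HC_of_eq {a b y : G} (hy : y ∈ H) (h : a * y = y * b) : HC H a b :=
  ⟨y⁻¹, H.inv_mem hy, by rw [inv_inv, mul_assoc, h, inv_mul_cancel_left]⟩

theorem isC_mu {g : ℕ} (hg : isC g g = true) : C g ∧ mu g g = e1 := by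
  refine ⟨C_of_isC hg, ?_⟩
  unfold isC at hg
  simp only [Bool.and_eq_true] at hg
  exact Nat.eq_of_beq_eq_true hg.1.2

theorem HC_cj (E : Emb z ph) (hH : ∀ c, C c → ph c ∈ H) {g a : ℕ} (hg : isC g g = true)
    (ha : C a) : C (cj g a) ∧ HC H (ph a) (ph (cj g a)) := by
  obtain ⟨hC, hgg⟩ := isC_mu hg
  have hga : C (mu g a) := hC.mul ha
  refine ⟨hga.mul hC, ph g, hH g hC, ?_⟩
  have h1 : (ph g)⁻¹ = ph g := E.inv_eq hC hC hgg
  rw [h1]
  show ph g * ph a * ph g = ph (mu (mu g a) g)
  rw [E.mul hga hC, E.mul hC ha]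

theorem gn_isC (w : ℕ) : isC (gn (Nat.land w 15)) (gn (Nat.land w 15)) = true :=
  of_allb gn_ck _ (Nat.lt_of_le_of_lt Nat.and_le_right (by norm_num))

theorem HC_run (E : Emb z ph) (hH : ∀ c, C c → ph c ∈ H) (k : ℕ) : ∀ (w : ℕ) {a : ℕ}, C a →
    C (run k w a) ∧ HC H (ph a) (ph (run k w a)) := by
  induction k with
  | zero => intro w a ha; exact ⟨ha, HC.refl _⟩
  | succ k ih =>
    intro w a ha
    obtain ⟨h1, h2⟩ := HC_cj E hH (gn_isC w) ha
    obtain ⟨h3, h4⟩ := ih (Nat.shiftRight w 4) h1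
    exact ⟨h3, h2.trans h4⟩

theorem tc_spec {n : ℕ} (hn : n < 1024) (h0 : kf n ≠ 0) :
    kf n ≤ 8 ∧ isC (tc n) (tc n) = true ∧ run 6 (wd n) (tc n) = rp (Nat.pred (kf n)) := by
  have h := of_allb tc_ck n hn
  have hb : Nat.beq (kf n) 0 = false := by
    cases hk : Nat.beq (kf n) 0 with
    | false => rfl
    | true => exact absurd (Nat.eq_of_beq_eq_true hk) h0
  rw [hb] at h
  simp only [cond_false, Bool.and_eq_true] at h
  exact ⟨Nat.le_of_ble_eq_true h.1, h.2.1, Nat.eq_of_beq_eq_true h.2.2⟩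

/-- if `tc n` squares to the identity and `n ≠ 0` then `kf n ≠ 0`. -/
theorem kf_ne_zero {n : ℕ} (hn : n < 1024) (h0 : n ≠ 0) (h : mu (tc n) (tc n) = e1) :
    kf n ≠ 0 := by
  intro hk
  have h1 := of_allb tc_ck n hn
  rw [hk] at h1
  have h2 : Nat.beq (mu (tc n) (tc n)) e1 = true := by rw [h]; exact Nat.beq_refl _
  have h3 : Nat.beq n 0 = false := by
    cases h4 : Nat.beq n 0 with
    | false => rfl
    | true => exact absurd (Nat.eq_of_beq_eq_true h4) h0
  rw [h2, h3] at h1
  exact absurd (show false = true from h1) (by decide)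

theorem HC_rp (E : Emb z ph) (hH : ∀ c, C c → ph c ∈ H) {n : ℕ} (hn : n < 1024)
    (h0 : kf n ≠ 0) : HC H (ph (tc n)) (ph (rp (Nat.pred (kf n)))) := by
  obtain ⟨_, h1, h2⟩ := tc_spec hn h0
  have h3 := (HC_run E hH 6 (wd n) (isC_mu h1).1).2
  rwa [h2] at h3

theorem HC_rp' (E : Emb z ph) (hH : ∀ c, C c → ph c ∈ H) (n r : ℕ) {c : ℕ} (hn : n < 1024)
    (hc : tc n = c) (hk : kf n = r + 1) : HC H (ph c) (ph (rp r)) := by
  have h := HC_rp E hH hn (by rw [hk]; exact Nat.succ_ne_zero r)
  rw [hk, hc] at h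
  exact h

/-- Boolean function: is the class `k - 1` fused to `z`? -/
def zt (t1 t2 : Bool) (k : ℕ) : Bool :=
  match k with
  | 1 => true
  | 2 => true
  | 3 => true
  | 5 => true
  | 7 => t1
  | 8 => t2
  | _ => false

variable {t1 t2 : Bool} {y1 y2 : G}

theorem a1_z (E : Emb z ph) (s1 : Side z ph t1 y1) (hy1 : y1 ∈ H) :
    HC H (ph (X 0 3)) z := by
  rw [← ph_z E]
  exact HC_of_eq hy1 s1.a03

theorem a2_z (E : Emb z ph) (s2 : Side2 z ph t2 y2) (hy2 : y2 ∈ H) :
    HC H (ph (X 1 4)) z := by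
  rw [← ph_z E]
  exact HC_of_eq hy2 s2.b14

theorem d_a1 (E : Emb z ph) (hH : ∀ c, C c → ph c ∈ H) (s2 : Side2 z ph t2 y2)
    (hy2 : y2 ∈ H) : HC H (ph (X 1 2)) (ph (X 0 3)) := by
  rw [← rp1]
  exact (HC_of_eq hy2 s2.b12).trans
    (HC_rp' E hH 2 1 (by norm_num) (by decide +kernel) (by decide +kernel))

theorem CC (i j : ℕ) (h : isC (X i j) (X i j) = true) : C (X i j) := C_of_isC h

theorem zd_b (E : Emb z ph) (hH : ∀ c, C c → ph c ∈ H) (s2 : Side2 z ph t2 y2)
    (hy2 : y2 ∈ H) : HC H (ph (mu (X 0 4) (X 1 2))) (ph (rp 3)) := by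
  have c04 : C (X 0 4) := CC 0 4 (by decide +kernel)
  have c12 : C (X 1 2) := CC 1 2 (by decide +kernel)
  have c14 : C (X 1 4) := CC 1 4 (by decide +kernel)
  have c02 : C (X 0 2) := CC 0 2 (by decide +kernel)
  have h : ph (mu (X 0 4) (X 1 2)) * y2 = y2 * ph (mu (mu (X 1 4) (X 0 4)) (X 0 2)) := by
    rw [E.mul c04 c12, E.mul (c14.mul c04) c02, E.mul c14 c04, mul_assoc, s2.b12, ← mul_assoc,
      s2.b04, mul_assoc]
  exact (HC_of_eq hy2 h).trans
    (HC_rp' E hH 74 3 (by norm_num) (by decide +kernel) (by decide +kernel))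

theorem e1_true (E : Emb z ph) (hH : ∀ c, C c → ph c ∈ H) (s1 : Side z ph true y1)
    (hy1 : y1 ∈ H) : HC H (ph (X 1 2)) (ph (rp 6)) := by
  have c04 : C (X 0 4) := CC 0 4 (by decide +kernel)
  have c12 : C (X 1 2) := CC 1 2 (by decide +kernel)
  have c03 : C (X 0 3) := CC 0 3 (by decide +kernel)
  have hzz : z * z = 1 := by
    rw [← ph_z E, ← E.mul c04 c04, show mu (X 0 4) (X 0 4) = e1 by decide +kernel, E.one]
  have h1 : ph (X 1 2) * z * y1 = y1 * (ph (X 1 2) * z) := s1.a12
  have h2 : z * y1 = y1 * (ph (X 0 3) * z) := by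
    have := s1.a04
    rwa [ph_z E] at this
  have h : ph (X 1 2) * y1 = y1 * ph (mu (X 1 2) (X 0 3)) := by
    rw [E.mul c12 c03]
    have h03 : ph (X 0 3) * z = z * ph (X 0 3) := E.comm c03
    calc ph (X 1 2) * y1 = ph (X 1 2) * z * (z * y1) := by
          rw [mul_assoc, ← mul_assoc z z y1, hzz, one_mul]
      _ = ph (X 1 2) * z * y1 * (ph (X 0 3) * z) := by rw [h2]; simp only [mul_assoc]
      _ = y1 * (ph (X 1 2) * z) * (z * ph (X 0 3)) := by rw [h1, h03]
      _ = y1 * (ph (X 1 2) * (z * z) * ph (X 0 3)) := by simp only [mul_assoc]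
      _ = y1 * (ph (X 1 2) * ph (X 0 3)) := by rw [hzz, mul_one]
  exact (HC_of_eq hy1 h).trans
    (HC_rp' E hH 20 6 (by norm_num) (by decide +kernel) (by decide +kernel))

theorem e1_false (E : Emb z ph) (hH : ∀ c, C c → ph c ∈ H) (s1 : Side z ph false y1)
    (hy1 : y1 ∈ H) : HC H (ph (rp 3)) (ph (rp 6)) := by
  have c01 : C (X 0 1) := CC 0 1 (by decide +kernel)
  have c23 : C (X 2 3) := CC 2 3 (by decide +kernel)
  have c24 : C (X 2 4) := CC 2 4 (by decide +kernel)
  have h1 : ph (X 0 1) * y1 = y1 * ph (X 0 1) := by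
    have := s1.a01
    rwa [show tw false (ph (X 0 3) * ph (X 2 3)) = 1 from rfl, mul_one] at this
  have h : ph (mu (X 0 1) (X 2 3)) * y1 = y1 * ph (mu (X 0 1) (X 2 4)) := by
    rw [E.mul c01 c23, E.mul c01 c24, mul_assoc, s1.a23, ← mul_assoc, h1, mul_assoc]
  have h2 : HC H (ph (mu (X 0 1) (X 2 3))) (ph (rp 6)) :=
    HC_rp' E hH 129 6 (by norm_num) (by decide +kernel) (by decide +kernel)
  have h3 : HC H (ph (mu (X 0 1) (X 2 4))) (ph (rp 3)) :=
    HC_rp' E hH 257 3 (by norm_num) (by decide +kernel) (by decide +kernel)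
  exact (h3.symm.trans (HC_of_eq hy1 h).symm).trans h2

theorem e2_true (E : Emb z ph) (hH : ∀ c, C c → ph c ∈ H) (s2 : Side2 z ph true y2)
    (hy2 : y2 ∈ H) : HC H (ph (rp 4)) (ph (rp 7)) := by
  have c04 : C (X 0 4) := CC 0 4 (by decide +kernel)
  have c23 : C (X 2 3) := CC 2 3 (by decide +kernel)
  have c14 : C (X 1 4) := CC 1 4 (by decide +kernel)
  have hzz : z * z = 1 := by
    rw [← ph_z E, ← E.mul c04 c04, show mu (X 0 4) (X 0 4) = e1 by decide +kernel, E.one]
  have h1 : ph (X 2 3) * z * y2 = y2 * (ph (X 2 3) * z) := s2.b23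
  have h2 : z * y2 = y2 * (ph (X 1 4) * z) := by
    have := s2.b04
    rwa [ph_z E] at this
  have h : ph (X 2 3) * y2 = y2 * ph (mu (X 2 3) (X 1 4)) := by
    rw [E.mul c23 c14]
    have h14 : ph (X 1 4) * z = z * ph (X 1 4) := E.comm c14
    calc ph (X 2 3) * y2 = ph (X 2 3) * z * (z * y2) := by
          rw [mul_assoc, ← mul_assoc z z y2, hzz, one_mul]
      _ = ph (X 2 3) * z * y2 * (ph (X 1 4) * z) := by rw [h2]; simp only [mul_assoc]
      _ = y2 * (ph (X 2 3) * z) * (z * ph (X 1 4)) := by rw [h1, h14]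
      _ = y2 * (ph (X 2 3) * (z * z) * ph (X 1 4)) := by simp only [mul_assoc]
      _ = y2 * (ph (X 2 3) * ph (X 1 4)) := by rw [hzz, mul_one]
  have h3 : HC H (ph (X 2 3)) (ph (rp 4)) :=
    HC_rp' E hH 128 4 (by norm_num) (by decide +kernel) (by decide +kernel)
  exact (h3.symm.trans (HC_of_eq hy2 h)).trans
    (HC_rp' E hH 192 7 (by norm_num) (by decide +kernel) (by decide +kernel))

theorem e2_false (E : Emb z ph) (hH : ∀ c, C c → ph c ∈ H) (s2 : Side2 z ph false y2)
    (hy2 : y2 ∈ H) : HC H (ph (rp 3)) (ph (rp 7)) := by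
  have c34 : C (X 3 4) := CC 3 4 (by decide +kernel)
  have c12 : C (X 1 2) := CC 1 2 (by decide +kernel)
  have c02 : C (X 0 2) := CC 0 2 (by decide +kernel)
  have h1 : ph (X 3 4) * y2 = y2 * ph (X 3 4) := by
    have := s2.b34
    rwa [show tw false (ph (X 1 4) * ph (X 1 2)) = 1 from rfl, mul_one] at this
  have h : ph (mu (X 1 2) (X 3 4)) * y2 = y2 * ph (mu (X 0 2) (X 3 4)) := by
    rw [E.mul c12 c34, E.mul c02 c34, mul_assoc, h1, ← mul_assoc, s2.b12, mul_assoc]
  have h2 : HC H (ph (mu (X 1 2) (X 3 4))) (ph (rp 7)) :=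
    HC_rp' E hH 528 7 (by norm_num) (by decide +kernel) (by decide +kernel)
  have h3 : HC H (ph (mu (X 0 2) (X 3 4))) (ph (rp 3)) :=
    HC_rp' E hH 514 3 (by norm_num) (by decide +kernel) (by decide +kernel)
  exact (h3.symm.trans (HC_of_eq hy2 h).symm).trans h2

/-- **Fusion of the involutions of `T`.** Every involution `ph (tc n)` of `T` is conjugate in `H`
to `z` (if `zt t1 t2 (kf n)`) or to `b = x03 x14` (otherwise). -/
theorem fus (E : Emb z ph) (hH : ∀ c, C c → ph c ∈ H) (s1 : Side z ph t1 y1)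
    (s2 : Side2 z ph t2 y2) (hy1 : y1 ∈ H) (hy2 : y2 ∈ H) {n : ℕ} (hn : n < 1024)
    (h0 : kf n ≠ 0) :
    (zt t1 t2 (kf n) = true → HC H z (ph (tc n))) ∧
    (zt t1 t2 (kf n) = false → HC H (ph (mu (X 0 3) (X 1 4))) (ph (tc n))) := by
  have h := HC_rp E hH hn h0
  have h8 := (tc_spec hn h0).1
  have hz1 : HC H (ph (rp 1)) z := by rw [rp1]; exact a1_z E s1 hy1
  have hz4 : HC H (ph (rp 4)) z := by
    rw [rp4]
    have := d_a1 E hH s2 hy2
    rw [← rp1] at this
    exact this.trans hz1
  rw [← rp3]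
  generalize kf n = k at *
  have hk : k = 1 ∨ k = 2 ∨ k = 3 ∨ k = 4 ∨ k = 5 ∨ k = 6 ∨ k = 7 ∨ k = 8 := by omega
  rcases hk with rfl | rfl | rfl | rfl | rfl | rfl | rfl | rfl
  · refine ⟨fun _ => ?_, fun e => absurd (show true = false from e) (by decide)⟩
    have h' : HC H (ph (tc n)) (ph (rp 0)) := h
    rw [rp0, E.z_eq] at h'
    exact h'.symm
  · refine ⟨fun _ => ?_, fun e => absurd (show true = false from e) (by decide)⟩
    have h' : HC H (ph (tc n)) (ph (rp 1)) := h
    exact (h'.trans hz1).symm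
  · refine ⟨fun _ => ?_, fun e => absurd (show true = false from e) (by decide)⟩
    have h' : HC H (ph (tc n)) (ph (rp 2)) := h
    rw [rp2] at h'
    exact (h'.trans (a2_z E s2 hy2)).symm
  · refine ⟨fun e => absurd (show false = true from e) (by decide), fun _ => ?_⟩
    have h' : HC H (ph (tc n)) (ph (rp 3)) := h
    exact h'.symm
  · refine ⟨fun _ => ?_, fun e => absurd (show true = false from e) (by decide)⟩
    have h' : HC H (ph (tc n)) (ph (rp 4)) := h
    exact (h'.trans hz4).symm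
  · refine ⟨fun e => absurd (show false = true from e) (by decide), fun _ => ?_⟩
    have h' : HC H (ph (tc n)) (ph (rp 5)) := h
    have h5 := zd_b E hH s2 hy2
    rw [← rp5] at h5
    exact (h'.trans h5).symm
  · have h' : HC H (ph (tc n)) (ph (rp 6)) := h
    cases t1 with
    | false =>
      refine ⟨fun e => absurd (show false = true from e) (by decide), fun _ => ?_⟩
      exact (e1_false E hH s1 hy1).trans h'.symm
    | true =>
      refine ⟨fun _ => ?_, fun e => absurd (show true = false from e) (by decide)⟩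
      have h6 := e1_true E hH s1 hy1
      rw [← rp4] at h6
      exact (h'.trans (h6.symm.trans hz4)).symm
  · have h' : HC H (ph (tc n)) (ph (rp 7)) := h
    cases t2 with
    | false =>
      refine ⟨fun e => absurd (show false = true from e) (by decide), fun _ => ?_⟩
      exact (e2_false E hH s2 hy2).trans h'.symm
    | true =>
      refine ⟨fun _ => ?_, fun e => absurd (show true = false from e) (by decide)⟩
      exact (h'.trans ((e2_true E hH s2 hy2).symm.trans hz4)).symm

theorem HC.isConj {x y : G} (h : HC H x y) : IsConj x y := by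
  obtain ⟨g, _, e⟩ := h
  exact isConj_iff.2 ⟨g, e⟩

/-- the involutions of `T` of the other types are not conjugate to `z`. -/
theorem fus_not (E : Emb z ph) (hH : ∀ c, C c → ph c ∈ H) (s1 : Side z ph t1 y1)
    (s2 : Side2 z ph t2 y2) (hy1 : y1 ∈ H) (hy2 : y2 ∈ H)
    (hb : ¬ IsConj z (ph (mu (X 0 3) (X 1 4)))) {n : ℕ} (hn : n < 1024)
    (h0 : kf n ≠ 0) (hz : zt t1 t2 (kf n) = false) : ¬ IsConj z (ph (tc n)) := fun h =>
  hb (h.trans ((fus E hH s1 s2 hy1 hy2 hn h0).2 hz).isConj.symm)

theorem tc_C_ck : allb 1024 (fun n => isC (tc n) (force (mu (tc n) (tc n)) fun a2 =>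
    force (mu a2 (tc n)) fun a3 => mu (mu a3 a3) (tc n))) = true := by decide +kernel

/-- all `tc n` are codes of elements of the model. -/
theorem tc_C {n : ℕ} (hn : n < 1024) : C (tc n) := C_of_isC (of_allb tc_C_ck n hn)

end

end Cfsg.Agent.Held.Fus8
end

-- part: Held/CentB
section
/-!
# The four-group `BB = C_FF(y1 y2)` and the closing argument for the Held group
-/

set_option autoImplicit false

namespace Cfsg.Agent.Held.CentB

open Matrix Cfsg.Agent.SporadicRecognition.HeldModel Cfsg.Agent.Lib.F2Mat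
  Cfsg.Agent.Held.NoBModel Cfsg.Agent.Held.Pattern

/-! ### Model computations -/

theorem beq_of_eq {a b : ℕ} (h : a = b) : Nat.beq a b = true := by
  subst h; exact Nat.beq_refl a

theorem ve_inv (a : Fin 64) : (ve a)⁻¹ = ve a :=
  inv_eq_of_mul_eq_one_right (sq_V1 (ve_mem a))

theorem ve_zero : ve 0 = 1 := by
  apply cd_inj
  rw [cd_ve, cd_one]; decide +kernel

theorem ve_four : ve 4 = zz := by
  apply cd_inj
  rw [cd_ve, cd_zz]; decide +kernel

/-- indices of the elements of `BB` -/
def bi (a : Fin 64) : Bool := Nat.beq a 0 || Nat.beq a 34 || Nat.beq a 52 || Nat.beq a 22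

private noncomputable def _root_.Cfsg.Agent.KO187d71c.k5 : type_of% @Decidable.decide := @(fun x0 x1 => @Decidable.rec.{1} _ @(fun x2 => @Bool) @(fun x2 => @Bool.false) @(fun x2 => @Bool.true) @x1)
private theorem _root_.Cfsg.Agent.KO187d71c.e5 : @Decidable.decide = @_root_.Cfsg.Agent.KO187d71c.k5 := by delta _root_.Cfsg.Agent.KO187d71c.k5; rfl'
private noncomputable def _root_.Cfsg.Agent.KO187d71c.k32l (n : Nat) (P : ∀ k, k < n → Prop) (H : ∀ k h, Decidable (P k h)) (m : Nat) : m ≤ n → Bool := @Nat.rec (fun m => m ≤ n → Bool) (fun _ => true) (fun k ih h => @Decidable.rec (P k h) (fun _ => Bool) (fun _ => false) (fun _ => ih (Nat.le_of_succ_le h)) (H k h)) m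
private theorem _root_.Cfsg.Agent.KO187d71c.k32ls (n : Nat) (P : ∀ k, k < n → Prop) (H : ∀ k h, Decidable (P k h)) (m : Nat) : ∀ h : m ≤ n, _root_.Cfsg.Agent.KO187d71c.k32l n P H m h = true ↔ ∀ k (g : k < m), P k (Nat.lt_of_lt_of_le g h) := by induction m with | zero => exact fun _ => ⟨fun _ _ g => absurd g (Nat.not_lt_zero _), fun _ => rfl⟩ | succ m ih => intro h; show @Decidable.rec (P m h) (fun _ => Bool) (fun _ => false) (fun _ => _root_.Cfsg.Agent.KO187d71c.k32l n P H m (Nat.le_of_succ_le h)) (H m h) = true ↔ _; cases H m h with | isFalse q => exact ⟨fun g => absurd g Bool.false_ne_true, fun g => absurd (g m (Nat.lt_succ_self m)) q⟩ | isTrue q => exact ⟨fun g k hk => (Nat.lt_succ_iff_lt_or_eq.1 hk).elim ((ih _).1 g k) fun e => by subst e; exact q, fun g => (ih _).2 fun k hk => g k (Nat.lt_succ_of_lt hk)⟩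
private noncomputable def _root_.Cfsg.Agent.KO187d71c.k32 (n : Nat) (P : ∀ k, k < n → Prop) (H : ∀ k h, Decidable (P k h)) : Decidable (∀ k h, P k h) := @Bool.rec (fun b => _root_.Cfsg.Agent.KO187d71c.k32l n P H n (Nat.le_refl n) = b → Decidable (∀ k h, P k h)) (fun g => isFalse fun q => Bool.false_ne_true (g.symm.trans ((_root_.Cfsg.Agent.KO187d71c.k32ls n P H n _).2 fun k h => q k h))) (fun g => isTrue fun k h => (_root_.Cfsg.Agent.KO187d71c.k32ls n P H n _).1 g k h) (_root_.Cfsg.Agent.KO187d71c.k32l n P H n (Nat.le_refl n)) rfl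
private theorem _root_.Cfsg.Agent.KO187d71c.e32 : @Nat.decidableBallLT = @_root_.Cfsg.Agent.KO187d71c.k32 := funext fun _ => funext fun _ => funext fun _ => Subsingleton.elim _ _
private noncomputable def _root_.Cfsg.Agent.KO187d71c.k33 : type_of% @Nat.decidableForallFin := @(fun x0 x1 x2 => @Decidable.rec.{1} _ @(fun x3 => @Decidable ((x4 : @Fin @x0) → @x1 @x4)) @(fun x3 => @Decidable.isFalse _ (@decidable_of_decidable_of_iff._proof_1 _ _ (@Nat.decidableForallFin._proof_1 _ @x1) @x3)) @(fun x3 => @Decidable.isTrue _ (@Iff.mp _ _ (@Nat.decidableForallFin._proof_1 _ @x1) @x3)) (@Cfsg.Agent.KO187d71c.k32 @x0 @(fun x3 x4 => @x1 (@Fin.mk _ @x3 @x4)) @(fun x3 x4 => @x2 (@Fin.mk _ @x3 @x4))))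
private theorem _root_.Cfsg.Agent.KO187d71c.e33 : @Nat.decidableForallFin = @_root_.Cfsg.Agent.KO187d71c.k33 := by delta _root_.Cfsg.Agent.KO187d71c.k33; rewrite [← Cfsg.Agent.KO187d71c.e32]; rfl'
private noncomputable def _root_.Cfsg.Agent.KO187d71c.k34 : type_of% @forall_prop_decidable := @(fun x0 x1 x2 x3 => @Decidable.rec.{1} _ @(fun x4 => @Decidable ((x5 : @x0) → @x1 @x5)) @(fun x4 => @Decidable.isTrue _ (@forall_prop_decidable._proof_2 _ @x1 @x4)) @(fun x4 => @Decidable.rec.{1} _ @(fun x5 => @Decidable ((x6 : @x0) → @x1 @x6)) @(fun x5 => @Decidable.isFalse _ (@decidable_of_decidable_of_iff._proof_1 _ _ (@forall_prop_decidable._proof_1 _ @x1 @x4) @x5)) @(fun x5 => @Decidable.isTrue _ (@Iff.mp _ _ (@forall_prop_decidable._proof_1 _ @x1 @x4) @x5)) (@x3 @x4)) @x2)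
private theorem _root_.Cfsg.Agent.KO187d71c.e34 : @forall_prop_decidable = @_root_.Cfsg.Agent.KO187d71c.k34 := by delta _root_.Cfsg.Agent.KO187d71c.k34; rfl'
private noncomputable def _root_.Cfsg.Agent.KO187d71c.k35 : type_of% @Bool.decEq := @(fun x0 x1 => @Bool.rec.{1} @(fun x2 => @Decidable (@Eq.{1} _ @x2 @x1)) (@Bool.rec.{1} @(fun x2 => @Decidable (@Eq.{1} _ @Bool.false @x2)) (@Decidable.isTrue _ (@rfl.{1} _ _)) (@Decidable.isFalse _ @(fun x2 => @Bool.noConfusion.{0} _ _ _ @x2)) @x1) (@Bool.rec.{1} @(fun x2 => @Decidable (@Eq.{1} _ @Bool.true @x2)) (@Decidable.isFalse _ @(fun x2 => @Bool.noConfusion.{0} _ _ _ @x2)) (@Decidable.isTrue _ (@rfl.{1} _ _)) @x1) @x0)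
private theorem _root_.Cfsg.Agent.KO187d71c.e35 : @Bool.decEq = @_root_.Cfsg.Agent.KO187d71c.k35 := by delta _root_.Cfsg.Agent.KO187d71c.k35; rfl'
private noncomputable def _root_.Cfsg.Agent.KO187d71c.k36 : type_of% @instDecidableEqBool := @Cfsg.Agent.KO187d71c.k35
private theorem _root_.Cfsg.Agent.KO187d71c.e36 : @instDecidableEqBool = @_root_.Cfsg.Agent.KO187d71c.k36 := by delta _root_.Cfsg.Agent.KO187d71c.k36; rewrite [← Cfsg.Agent.KO187d71c.e35]; rfl'
private noncomputable def _root_.Cfsg.Agent.KO187d71c.k37 : (by first | exact type_of% @Cfsg.Agent.Held.CentB.bi | exact Unit : Sort _) := by first | (refine @Subtype.val _ (fun g => @Cfsg.Agent.Held.CentB.bi = @g) (@Subtype.mk _ _ (@(fun x0 => @Bool.rec.{1} @(fun x1 => @Bool) (@Nat.beq (@Fin.val _ @x0) (nat_lit 22)) @Bool.true (@Bool.rec.{1} @(fun x1 => @Bool) (@Nat.beq (@Fin.val _ @x0) (nat_lit 52)) @Bool.true (@Bool.rec.{1} @(fun x1 => @Bool) (@Nat.beq (@Fin.val _ @x0) (nat_lit 34)) @Bool.true (@Nat.beq (@Fin.val _ @x0)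 (nat_lit 0)))))) ?_); rfl') | exact @Cfsg.Agent.Held.CentB.bi | exact ()
private theorem _root_.Cfsg.Agent.KO187d71c.e37 : (by first | exact @Cfsg.Agent.Held.CentB.bi = @_root_.Cfsg.Agent.KO187d71c.k37 | exact True : Prop) := by first | (delta _root_.Cfsg.Agent.KO187d71c.k37; exact @Subtype.property _ (fun g => @Cfsg.Agent.Held.CentB.bi = @g) _) | rfl | trivial
private noncomputable def _root_.Cfsg.Agent.KO187d71c.k38 : (by first | exact type_of% @Cfsg.Agent.Held.Pattern.xr | exact Unit : Sort _) := by first | (refine @Subtype.val _ (fun g => @Cfsg.Agent.Held.Pattern.xr = @g) (@Subtype.mk _ _ (@(fun x0 x1 => @Fin.mk _ (@Nat.xor (@Fin.val _ @x0) (@Fin.val _ @x1)) (@Cfsg.Agent.Held.Pattern.xor_lt @x0 @x1))) ?_); rfl') | exact @Cfsg.Agent.Held.Pattern.xr | exact ()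
private theorem _root_.Cfsg.Agent.KO187d71c.e38 : (by first | exact @Cfsg.Agent.Held.Pattern.xr = @_root_.Cfsg.Agent.KO187d71c.k38 | exact True : Prop) := by first | (delta _root_.Cfsg.Agent.KO187d71c.k38; exact @Subtype.property _ (fun g => @Cfsg.Agent.Held.Pattern.xr = @g) _) | rfl | trivial

theorem bi_xr : ∀ a b : Fin 64, bi a = true → bi b = true → bi (xr a b) = true := by
  (first | (refine of_decide_eq_true ?_; rewrite [Cfsg.Agent.KO187d71c.e5, Cfsg.Agent.KO187d71c.e33, Cfsg.Agent.KO187d71c.e34, Cfsg.Agent.KO187d71c.e36, Cfsg.Agent.KO187d71c.e37, Cfsg.Agent.KO187d71c.e38]; decide +kernel) | decide +kernel)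

/-- the four-group `{1, x03 x14, x04 x13 x14, x03 x04 x13}` -/
def BB : Subgroup L5 where
  carrier := {g | ∃ a : Fin 64, bi a = true ∧ ve a = g}
  one_mem' := ⟨0, rfl, ve_zero⟩
  mul_mem' := by
    rintro _ _ ⟨a, ha, rfl⟩ ⟨b, hb, rfl⟩
    exact ⟨xr a b, bi_xr a b ha hb, (ve_mul a b).symm⟩
  inv_mem' := by
    rintro _ ⟨a, ha, rfl⟩
    exact ⟨a, ha, (ve_inv a).symm⟩

theorem ve_mem_BB {a : Fin 64} : ve a ∈ BB ↔ bi a = true :=
  ⟨fun ⟨_, hb, e⟩ => ve_inj e ▸ hb, fun h => ⟨a, h, rfl⟩⟩

theorem ff_check : ∀ a : Fin 64, inP (msk' PF) (vc a) = Nat.beq (Nat.land a 54) a := by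
  decide +kernel

theorem ve_mem_FF {a : Fin 64} : ve a ∈ FF ↔ Nat.beq (Nat.land a 54) a = true := by
  rw [FF, mem_pat, Pat_iff_inP, cd_ve, ff_check]

theorem bi_ff : ∀ a : Fin 64, bi a = true → Nat.beq (Nat.land a 54) a = true := by decide +kernel

theorem BB_le_FF : BB ≤ FF := by
  rintro _ ⟨a, ha, rfl⟩
  exact ve_mem_FF.2 (bi_ff a ha)

theorem card_of_index (A : Subgroup L5) (P : Fin 64 → Bool) (hA : A ≤ V1)
    (h : ∀ a, ve a ∈ A ↔ P a = true) : Nat.card A = Nat.card {a : Fin 64 // P a = true} := by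
  symm
  refine Nat.card_congr (Equiv.ofBijective (fun a => (⟨ve a.1, (h a.1).2 a.2⟩ : A)) ⟨?_, ?_⟩)
  · intro a b e
    exact Subtype.ext (ve_inj (congrArg Subtype.val e))
  · rintro ⟨g, hg⟩
    obtain ⟨a, rfl⟩ := ve_surj (hA hg)
    exact ⟨⟨a, (h a).1 hg⟩, rfl⟩

theorem card_BB : Nat.card BB = 4 := by
  rw [card_of_index BB bi (BB_le_FF.trans FF_le_V1) (fun a => ve_mem_BB), Nat.card_eq_fintype_card]
  decide +kernel

theorem card_FF : Nat.card FF = 16 := by
  rw [card_of_index FF (fun a => Nat.beq (Nat.land a 54) a) FF_le_V1 (fun a => ve_mem_FF),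
    Nat.card_eq_fintype_card]
  decide +kernel

theorem card_V1 : Nat.card V1 = 64 := by
  rw [card_of_index V1 (fun _ => true) le_rfl (fun a => ⟨fun _ => rfl, fun _ => ve_mem a⟩),
    Nat.card_eq_fintype_card]
  decide +kernel

/-- code of the elements `1, x23, x24, x23 x24` -/
def wc (k : ℕ) : ℕ := Nat.add 17043521 (Nat.mul 8192 k)

theorem wc_sq : ∀ k : Fin 4, Nat.beq (mul 5 (wc k) (wc k)) (_root_.Cfsg.Agent.Lib.F2Mat.one 5) = true := by decide +kernel

theorem wc_lt : ∀ k : Fin 4, Nat.blt (wc k) 33554432 = true := by decide +kernel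

/-- the elements `1, x23, x24, x23 x24` -/
def we (k : Fin 4) : L5 := mk (wc k) (wc k) (wc_sq k)

theorem cd_we (k : Fin 4) : cd (we k) = wc k := cd_mk _ (wc_lt k)

theorem we_sq (k : Fin 4) : we k * we k = 1 := by
  apply cd_inj
  rw [cd_mul, cd_we, cd_one]
  exact Nat.eq_of_beq_eq_true (wc_sq k)

theorem we_mem_JJ (k : Fin 4) : we k ∈ JJ := by
  rw [JJ, mem_pat, Pat_iff_inP, cd_we]
  revert k; decide +kernel

theorem we_zero : we 0 = 1 := by
  apply cd_inj; rw [cd_we, cd_one]; decide +kernel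

theorem wc_ent : ∀ (k : Fin 4) (i j : Fin 5), (wc k).testBit (5 * i + j) =
    (decide (i = j) || (decide (i = 2 ∧ j = 3) && (k : ℕ).testBit 0) ||
      (decide (i = 2 ∧ j = 4) && (k : ℕ).testBit 1)) := by decide +kernel

theorem exists_bit (p q : ZMod 2) : ∃ k : Fin 4, bz ((k : ℕ).testBit 0) = p ∧
    bz ((k : ℕ).testBit 1) = q := by
  revert p q; decide

theorem we_ent (k : Fin 4) (i j : Fin 5) : (we k : M5) i j =
    bz (decide (i = j) || (decide (i = 2 ∧ j = 3) && (k : ℕ).testBit 0) ||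
      (decide (i = 2 ∧ j = 4) && (k : ℕ).testBit 1)) := by
  rw [← toMat_cd, toMat_apply, cd_we, wc_ent]

theorem jj_ent {u : L5} (hu : u ∈ JJ) (i j : Fin 5) (h : PJ i j = false) :
    (u : M5) i j = if i = j then 1 else 0 := by
  have := hu i j h
  rw [Matrix.sub_apply, sub_eq_zero, Matrix.one_apply] at this
  exact this

/-- decomposition of `JJ` -/
theorem exists_ve_we {u : L5} (hu : u ∈ JJ) : ∃ (a : Fin 64) (k : Fin 4), u = ve a * we k := by
  obtain ⟨k, hk0, hk1⟩ := exists_bit ((u : M5) 2 3) ((u : M5) 2 4)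
  have hw : u * we k ∈ V1 := by
    have h1 : u * we k ∈ JJ := JJ.mul_mem hu (we_mem_JJ k)
    intro i j hij
    by_cases hJ : PJ i j = false
    · exact h1 i j hJ
    · have h2 : ∀ i j : Fin 5, PV1 i j = false → ¬ PJ i j = false →
          (i = 2 ∧ j = 3) ∨ (i = 2 ∧ j = 4) := by decide
      rcases h2 i j hij hJ with ⟨rfl, rfl⟩ | ⟨rfl, rfl⟩
      · rw [Matrix.sub_apply, coe_mul', Matrix.mul_apply, Fin.sum_univ_five, we_ent, we_ent, we_ent,
          we_ent, we_ent, jj_ent hu 2 0 (by decide), jj_ent hu 2 1 (by decide),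
          jj_ent hu 2 2 (by decide), ← hk0, ← hk1]
        clear h1 hk0 hk1
        revert k; decide +kernel
      · rw [Matrix.sub_apply, coe_mul', Matrix.mul_apply, Fin.sum_univ_five, we_ent, we_ent, we_ent,
          we_ent, we_ent, jj_ent hu 2 0 (by decide), jj_ent hu 2 1 (by decide),
          jj_ent hu 2 2 (by decide), ← hk0, ← hk1]
        clear h1 hk0 hk1
        revert k; decide +kernel
  obtain ⟨a, ha⟩ := ve_surj hw
  exact ⟨a, k, by rw [ha, mul_assoc, we_sq, mul_one]⟩

theorem vewe_inj {a b : Fin 64} {k l : Fin 4} (h : ve a * we k = ve b * we l) : a = b ∧ k = l := by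
  have h1 : (ve b)⁻¹ * ve a = we l * (we k)⁻¹ := by
    have := congrArg (fun g => (ve b)⁻¹ * g * (we k)⁻¹) h
    simpa only [mul_assoc, _root_.mul_inv_cancel, _root_.mul_one, _root_.inv_mul_cancel_left] using this
  have h2 : (we k)⁻¹ = we k := inv_eq_of_mul_eq_one_right (we_sq k)
  have h3 : we l * we k ∈ V1 := by
    rw [← h2, ← h1]; exact V1.mul_mem (V1.inv_mem (ve_mem b)) (ve_mem a)
  have h4 : ∀ k l : Fin 4, inP (msk' PV1) (mul 5 (wc l) (wc k)) = true → k = l := by
    decide +kernel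
  rw [V1, mem_pat, Pat_iff_inP, cd_mul, cd_we, cd_we] at h3
  have h5 := h4 k l h3
  subst h5
  exact ⟨ve_inj (mul_right_cancel h), rfl⟩

theorem card_JJ : Nat.card JJ = 256 := by
  have h : Nat.card (Fin 64 × Fin 4) = Nat.card JJ := by
    refine Nat.card_congr (Equiv.ofBijective (fun p => (⟨ve p.1 * we p.2,
      JJ.mul_mem (V1_le_JJ (ve_mem p.1)) (we_mem_JJ p.2)⟩ : JJ)) ⟨?_, ?_⟩)
    · rintro ⟨a, k⟩ ⟨b, l⟩ e
      obtain ⟨h1, h2⟩ := vewe_inj (congrArg Subtype.val e)
      exact Prod.ext h1 h2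
    · rintro ⟨u, hu⟩
      obtain ⟨a, k, h⟩ := exists_ve_we hu
      exact ⟨⟨a, k⟩, Subtype.ext h.symm⟩
  rw [← h]; simp

/-- code of the elements `1, x01, x34, x01 x34` -/
def sc (k : ℕ) : ℕ := Nat.add (Nat.add 17043521 (Nat.mul 2 (Nat.mod k 2))) (Nat.mul 524288 (Nat.div k 2))

theorem sc_sq : ∀ k : Fin 4, Nat.beq (mul 5 (sc k) (sc k)) (_root_.Cfsg.Agent.Lib.F2Mat.one 5) = true := by decide +kernel

theorem sc_lt : ∀ k : Fin 4, Nat.blt (sc k) 33554432 = true := by decide +kernel

/-- the elements `1, x01, x34, x01 x34` -/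
def se (k : Fin 4) : L5 := mk (sc k) (sc k) (sc_sq k)

theorem cd_se (k : Fin 4) : cd (se k) = sc k := cd_mk _ (sc_lt k)

theorem se_sq (k : Fin 4) : se k * se k = 1 := by
  apply cd_inj
  rw [cd_mul, cd_se, cd_one]
  exact Nat.eq_of_beq_eq_true (sc_sq k)

theorem se_zero : se 0 = 1 := by
  apply cd_inj; rw [cd_se, cd_one]; decide +kernel

theorem se_mem_T0 (k : Fin 4) : se k ∈ T0 := by
  rw [T0, mem_pat, Pat_iff_inP, cd_se]
  revert k; decide +kernel

theorem sc_ent : ∀ (k : Fin 4) (i j : Fin 5), (sc k).testBit (5 * i + j) =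
    (decide (i = j) || (decide (i = 0 ∧ j = 1) && (k : ℕ).testBit 0) ||
      (decide (i = 3 ∧ j = 4) && (k : ℕ).testBit 1)) := by decide +kernel

theorem se_ent (k : Fin 4) (i j : Fin 5) : (se k : M5) i j =
    bz (decide (i = j) || (decide (i = 0 ∧ j = 1) && (k : ℕ).testBit 0) ||
      (decide (i = 3 ∧ j = 4) && (k : ℕ).testBit 1)) := by
  rw [← toMat_cd, toMat_apply, cd_se, sc_ent]

/-- decomposition of `T0` -/
theorem exists_jj_se {u : L5} (hu : u ∈ T0) : ∃ j ∈ JJ, ∃ k : Fin 4, u = j * se k := by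
  obtain ⟨k, hk0, hk1⟩ := exists_bit ((u : M5) 0 1) ((u : M5) 3 4)
  refine ⟨u * se k, ?_, k, by rw [mul_assoc, se_sq, mul_one]⟩
  have h1 : u * se k ∈ T0 := T0.mul_mem hu (se_mem_T0 k)
  have hue : ∀ i j : Fin 5, PT i j = false → (u : M5) i j = if i = j then 1 else 0 := by
    intro i j h
    have := hu i j h
    rw [Matrix.sub_apply, sub_eq_zero, Matrix.one_apply] at this
    exact this
  intro i j hij
  by_cases hJ : PT i j = false
  · exact h1 i j hJ
  · have h2 : ∀ i j : Fin 5, PJ i j = false → ¬ PT i j = false →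
        (i = 0 ∧ j = 1) ∨ (i = 3 ∧ j = 4) := by decide
    rcases h2 i j hij hJ with ⟨rfl, rfl⟩ | ⟨rfl, rfl⟩
    · rw [Matrix.sub_apply, coe_mul', Matrix.mul_apply, Fin.sum_univ_five, se_ent, se_ent, se_ent,
        se_ent, se_ent, hue 0 0 (by decide), ← hk0]
      generalize (u : M5) 0 2 = p2
      generalize (u : M5) 0 3 = p3
      generalize (u : M5) 0 4 = p4
      clear h1 hk0 hk1
      revert k p2 p3 p4; decide +kernel
    · rw [Matrix.sub_apply, coe_mul', Matrix.mul_apply, Fin.sum_univ_five, se_ent, se_ent, se_ent,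
        se_ent, se_ent, hue 3 0 (by decide), hue 3 1 (by decide), hue 3 2 (by decide),
        hue 3 3 (by decide), ← hk1]
      clear h1 hk0 hk1
      revert k; decide +kernel

theorem jj_ff_comm {j m : L5} (hj : j ∈ JJ) (hm : m ∈ FF) : j * m = m * j :=
  comm_of_pat (P := PJ) (P' := PF) (by decide) (by decide) hj hm

/-- `C_FF(JJ)` -/
theorem mem_FF_of_comm {u : L5} (hu : u ∈ JJ) (h : ∀ j ∈ JJ, u * j = j * u) : u ∈ FF := by
  obtain ⟨a, k, rfl⟩ := exists_ve_we hu
  have key : ∀ (a : Fin 64) (k : Fin 4),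
      Nat.beq (mul 5 (mul 5 (vc a) (wc k)) (vc 1)) (mul 5 (vc 1) (mul 5 (vc a) (wc k))) = true →
      Nat.beq (mul 5 (mul 5 (vc a) (wc k)) (wc 1)) (mul 5 (wc 1) (mul 5 (vc a) (wc k))) = true →
      (Nat.beq (Nat.land a 54) a = true ∧ k = 0) := by decide +kernel
  have h1 := h (ve 1) (V1_le_JJ (ve_mem 1))
  have h2 := h (we 1) (we_mem_JJ 1)
  have h1' := congrArg cd h1
  have h2' := congrArg cd h2
  rw [cd_mul, cd_mul (ve 1), cd_mul, cd_ve, cd_we, cd_ve] at h1'
  rw [cd_mul, cd_mul (we 1), cd_mul, cd_ve, cd_we, cd_we] at h2'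
  obtain ⟨h3, h4⟩ := key a k (beq_of_eq h1') (beq_of_eq h2')
  rw [h4, we_zero, mul_one]
  exact ve_mem_FF.2 h3

/-- two elements of `FF` outside the classes of `zz`, with product outside these classes. -/
theorem comm_check : ∀ (k : Fin 4) (a b : Fin 64),
    Code.imp (Nat.beq (Nat.land a 54) a) (Code.imp (Nat.beq (Nat.land b 54) b)
      (Code.imp (Nat.beq (cl a) 3 || Nat.beq (cl a) 5) (Code.imp (Nat.beq (cl b) 3 || Nat.beq (cl b) 5)
        (Code.imp (Nat.beq (cl (xr a b)) 3 || Nat.beq (cl (xr a b)) 5)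
          (Code.imp (Nat.beq (mul 5 (sc k) (vc a)) (mul 5 (vc a) (sc k)))
            (Code.imp (Nat.beq (mul 5 (sc k) (vc b)) (mul 5 (vc b) (sc k)))
              (Nat.beq k 0))))))) = true := by
  have h : Code.allb 4 (fun k => Code.allb 64 fun a => Code.imp (Nat.beq (Nat.land a 54) a)
      (Code.allb 64 fun b => Code.imp (Nat.beq (Nat.land b 54) b)
      (Code.imp (Nat.beq (cl a) 3 || Nat.beq (cl a) 5) (Code.imp (Nat.beq (cl b) 3 || Nat.beq (cl b) 5)
        (Code.imp (Nat.beq (cl (Nat.xor a b)) 3 || Nat.beq (cl (Nat.xor a b)) 5)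
          (Code.imp (Nat.beq (mul 5 (sc k) (vc a)) (mul 5 (vc a) (sc k)))
            (Code.imp (Nat.beq (mul 5 (sc k) (vc b)) (mul 5 (vc b) (sc k)))
              (Nat.beq k 0)))))))) = true := by decide +kernel
  intro k a b
  have h1 := Code.of_allb (Code.of_allb h k k.2) a a.2
  rcases ha : Nat.beq (Nat.land a 54) a with _ | _
  · rfl
  · exact Code.of_allb (Code.imp_mp h1 ha) b b.2

theorem ve_FF_comm_se {j : L5} (hj : j ∈ JJ) (k : Fin 4) (a : Fin 64)
    (ha : Nat.beq (Nat.land a 54) a = true) (h : j * se k * ve a = ve a * (j * se k)) :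
    Nat.beq (mul 5 (sc k) (vc a)) (mul 5 (vc a) (sc k)) = true := by
  apply beq_of_eq
  rw [← cd_se, ← cd_ve, ← cd_mul, ← cd_mul]
  refine congrArg cd ?_
  have h1 := jj_ff_comm hj (ve_mem_FF.2 ha)
  have h2 : j * (se k * ve a) = j * (ve a * se k) := by
    rw [← mul_assoc, h, ← mul_assoc, ← mul_assoc, h1]
  exact mul_left_cancel h2

/-- the centraliser in `T0` of a four-subgroup of `FF` outside the classes of `zz` -/
theorem mem_JJ_of_comm {u : L5} (hu : u ∈ T0) (a b : Fin 64)
    (ha : Nat.beq (Nat.land a 54) a = true) (hb : Nat.beq (Nat.land b 54) b = true)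
    (ha' : cl a = 3 ∨ cl a = 5) (hb' : cl b = 3 ∨ cl b = 5)
    (hab : cl (xr a b) = 3 ∨ cl (xr a b) = 5) (h1 : u * ve a = ve a * u)
    (h2 : u * ve b = ve b * u) : u ∈ JJ := by
  obtain ⟨j, hj, k, rfl⟩ := exists_jj_se hu
  have h3 := comm_check k a b
  have key : ∀ c : ℕ, (c = 3 ∨ c = 5) → (Nat.beq c 3 || Nat.beq c 5) = true := by
    rintro c (rfl | rfl) <;> rfl
  have h4 := Code.imp_mp h3 ha
  have h5 := Code.imp_mp h4 hb
  have h6 := Code.imp_mp h5 (key _ ha')
  have h7 := Code.imp_mp h6 (key _ hb')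
  have h8 := Code.imp_mp h7 (key _ hab)
  have h9 := Code.imp_mp h8 (ve_FF_comm_se hj k a ha h1)
  have h10 := Code.imp_mp h9 (ve_FF_comm_se hj k b hb h2)
  have h11 : k = 0 := Fin.ext (Nat.eq_of_beq_eq_true h10)
  rw [h11, se_zero, mul_one]
  exact hj

/-- `C_CC(BB) ≤ JJ` -/
theorem mem_JJ_of_BB {u : L5} (hu : u ∈ CC) (h : ∀ b ∈ BB, u * b = b * u) : u ∈ JJ := by
  have h34 := h (ve 34) (ve_mem_BB.2 (by decide +kernel))
  have h52 := h (ve 52) (ve_mem_BB.2 (by decide +kernel))
  have hT : u ∈ T0 := by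
    apply mem_T0_of_comm hu
    rw [← PFus.ve_34]
    exact h34
  exact mem_JJ_of_comm hT 34 52 (by decide +kernel) (by decide +kernel) (by decide +kernel)
    (by decide +kernel) (by decide +kernel) h34 h52

/-- index of a unitriangular code -/
def nidx (c : ℕ) : ℕ :=
  Nat.add (Nat.add (Nat.add (Nat.land (Nat.shiftRight c 1) 15)
    (Nat.mul 16 (Nat.land (Nat.shiftRight c 7) 7))) (Nat.mul 128 (Nat.land (Nat.shiftRight c 13) 3)))
    (Nat.mul 512 (Nat.land (Nat.shiftRight c 19) 1))

/-- `c` is the code of a conjugate of `z` in `T` (both twists `true`). -/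
def isF (c : ℕ) : Bool :=
  Nat.blt (nidx c) 1024 && Nat.beq (Fus8.tc (nidx c)) c && !(Nat.beq (Fus8.kf (nidx c)) 0) &&
    Fus8.zt true true (Fus8.kf (nidx c))

/-- `c` is the code of an involution of `T` not conjugate to `z` (both twists `true`). -/
def isN (c : ℕ) : Bool :=
  Nat.blt (nidx c) 1024 && Nat.beq (Fus8.tc (nidx c)) c && !(Nat.beq (Fus8.kf (nidx c)) 0) &&
    !(Fus8.zt true true (Fus8.kf (nidx c)))

/-- the code is one of the four codes of `BB` -/
def inB (c : ℕ) : Bool :=
  Nat.beq c (vc 0) || Nat.beq c (vc 34) || Nat.beq c (vc 52) || Nat.beq c (vc 22)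

theorem coset_check2 : ∀ (a : Fin 64) (k : Fin 4),
    Code.imp (inB (mul 5 (mul 5 (vc a) (wc k)) (mul 5 (vc a) (wc k))))
      (inB (mul 5 (vc a) (wc k)) ||
        (isF (mul 5 (mul 5 (vc a) (wc k)) (vc 0)) || isF (mul 5 (mul 5 (vc a) (wc k)) (vc 34)) ||
        isF (mul 5 (mul 5 (vc a) (wc k)) (vc 52)) || isF (mul 5 (mul 5 (vc a) (wc k)) (vc 22))))
          = true := by
  decide +kernel

theorem inB_iff {g : L5} : g ∈ BB ↔ inB (cd g) = true := by
  have key : ∀ b : Fin 64, bi b = true → inB (vc b) = true := by decide +kernel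
  constructor
  · rintro ⟨b, hb, rfl⟩
    rw [cd_ve]
    exact key b hb
  · intro h
    unfold inB at h
    simp only [Bool.or_eq_true] at h
    rcases h with ((h | h) | h) | h
    · exact ⟨0, by decide +kernel, cd_inj ((cd_ve 0).trans (Nat.eq_of_beq_eq_true h).symm)⟩
    · exact ⟨34, by decide +kernel, cd_inj ((cd_ve 34).trans (Nat.eq_of_beq_eq_true h).symm)⟩
    · exact ⟨52, by decide +kernel, cd_inj ((cd_ve 52).trans (Nat.eq_of_beq_eq_true h).symm)⟩
    · exact ⟨22, by decide +kernel, cd_inj ((cd_ve 22).trans (Nat.eq_of_beq_eq_true h).symm)⟩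

/-- the coset condition for `BB` in terms of codes -/
theorem exists_isF {u : L5} (hu : u ∈ JJ) (h1 : u ∉ BB) (h2 : u * u ∈ BB) :
    ∃ b ∈ BB, isF (cd (u * b)) = true := by
  obtain ⟨a, k, rfl⟩ := exists_ve_we hu
  rw [inB_iff] at h1 h2
  rw [cd_mul, cd_mul, cd_ve, cd_we] at h2
  rw [cd_mul, cd_ve, cd_we] at h1
  have h3 := Code.imp_mp (coset_check2 a k) h2
  rw [Bool.or_eq_true] at h3
  rcases h3 with h3 | h3
  · exact absurd h3 h1
  · have e : ∀ b : Fin 64, cd (ve a * we k * ve b) = mul 5 (mul 5 (vc a) (wc k)) (vc b) := by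
      intro b
      rw [cd_mul, cd_mul, cd_ve, cd_we, cd_ve]
    simp only [Bool.or_eq_true] at h3
    rcases h3 with ((h | h) | h) | h
    · exact ⟨ve 0, ve_mem_BB.2 (by decide +kernel), by rw [e]; exact h⟩
    · exact ⟨ve 34, ve_mem_BB.2 (by decide +kernel), by rw [e]; exact h⟩
    · exact ⟨ve 52, ve_mem_BB.2 (by decide +kernel), by rw [e]; exact h⟩
    · exact ⟨ve 22, ve_mem_BB.2 (by decide +kernel), by rw [e]; exact h⟩

/-! ### The group `G` -/

section Main

variable {G : Type*} [Group G] {z : G} {ph : ℕ → G}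

theorem C_cd {u : L5} (hu : u ∈ CC) : Code.C (cd u) := by
  refine ⟨cd_lt u, ?_, cd u⁻¹, cd_lt _, ?_, ?_⟩
  · have := mem_CC_iff.1 hu
    exact Nat.eq_of_beq_eq_true this
  · show mul 5 (cd u) (cd u⁻¹) = Code.e1
    rw [← cd_mul, mul_inv_cancel, cd_one]; exact Code.one_eq_e1
  · show mul 5 (cd u⁻¹) (cd u) = Code.e1
    rw [← cd_mul, inv_mul_cancel, cd_one]; exact Code.one_eq_e1

theorem exists_cd {a : ℕ} (ha : Code.C a) : ∃ u : CC, cd (u : L5) = a := by
  have h1 : cd (Code.toS a ha) = a := cd_eq_of_toMat ha.1 rfl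
  refine ⟨⟨Code.toS a ha, ?_⟩, h1⟩
  rw [mem_CC_iff, h1, inCC]
  have := ha.2.1
  apply beq_of_eq
  exact this

/-- the embedding of the model given by `Emb` -/
def iota (E : Code.Emb z ph) : CC →* G :=
  MonoidHom.mk' (fun u => ph (cd (u : L5))) (fun u v => by
    show ph (cd ((u * v : CC) : L5)) = _
    rw [Subgroup.coe_mul, cd_mul]
    exact E.mul (C_cd u.2) (C_cd v.2))

theorem iota_apply (E : Code.Emb z ph) (u : CC) : iota E u = ph (cd (u : L5)) := rfl

theorem hyp (E : Code.Emb z ph) : Hyp z (iota E) where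
  inj := fun u v h => Subtype.ext (cd_inj (E.inj (C_cd u.2) (C_cd v.2) h))
  range := by
    apply le_antisymm
    · rintro _ ⟨u, rfl⟩
      rw [Subgroup.mem_centralizer_singleton_iff]
      exact E.comm (C_cd u.2)
    · intro g hg
      rw [Subgroup.mem_centralizer_singleton_iff] at hg
      obtain ⟨a, ha, rfl⟩ := E.surj g hg
      obtain ⟨u, hu⟩ := exists_cd ha
      exact ⟨u, by rw [iota_apply, hu]⟩
  map_zz := by
    rw [iota_apply]
    show ph (cd zz) = z
    rw [cd_zz]
    exact E.z_eq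

open Cfsg.Agent.Held.Acts Cfsg.Agent.Held.WordCore Cfsg.Agent.Held.ConfigThm

theorem vc_v1c : ∀ a : Fin 64, vc a = v1c a := by decide +kernel

theorem wc_v2c : ∀ k : Fin 4, wc k = v2c (16 * k) := by decide +kernel

/-- the element of index `a` of `V1` as element of the model -/
theorem iota_ve (E : Code.Emb z ph) (a : Fin 64) (h : ve a ∈ CC) :
    iota E ⟨ve a, h⟩ = P1 ph a := by
  rw [iota_apply]
  show ph (cd (ve a)) = ph (v1c a)
  rw [cd_ve, vc_v1c]

theorem iota_we (E : Code.Emb z ph) (k : Fin 4) (h : we k ∈ CC) :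
    iota E ⟨we k, h⟩ = P2 ph (16 * k) := by
  rw [iota_apply]
  show ph (cd (we k)) = ph (v2c (16 * k))
  rw [cd_we, wc_v2c]

theorem JJ_le_CC : JJ ≤ CC := JJ_le_T0.trans T0_le_CC
theorem FF_le_CC : FF ≤ CC := FF_le_V1.trans V1_le_CC
theorem BB_le_CC : BB ≤ CC := BB_le_FF.trans FF_le_CC

theorem mem_imV (E : Code.Emb z ph) {g : G} : g ∈ im (iota E) V1 ↔ ∃ v < 64, g = P1 ph v := by
  rw [mem_im]
  constructor
  · rintro ⟨⟨u, hu'⟩, hu, rfl⟩
    obtain ⟨a, rfl⟩ := ve_surj hu
    exact ⟨a, a.2, iota_ve E a hu'⟩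
  · rintro ⟨v, hv, rfl⟩
    exact ⟨⟨ve ⟨v, hv⟩, V1_le_CC (ve_mem _)⟩, ve_mem _, iota_ve E ⟨v, hv⟩ _⟩

theorem mem_imJ (E : Code.Emb z ph) {g : G} : g ∈ im (iota E) JJ ↔
    ∃ v < 64, ∃ k < 4, g = P1 ph v * P2 ph (16 * k) := by
  rw [mem_im]
  constructor
  · rintro ⟨⟨u, hu'⟩, hu, rfl⟩
    obtain ⟨a, k, rfl⟩ := exists_ve_we hu
    refine ⟨a, a.2, k, k.2, ?_⟩
    rw [← iota_ve E a (V1_le_CC (ve_mem _)), ← iota_we E k (JJ_le_CC (we_mem_JJ _)), ← map_mul]
    rfl
  · rintro ⟨v, hv, k, hk, rfl⟩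
    refine ⟨⟨ve ⟨v, hv⟩, V1_le_CC (ve_mem _)⟩ * ⟨we ⟨k, hk⟩, JJ_le_CC (we_mem_JJ _)⟩, ?_, ?_⟩
    · exact JJ.mul_mem (V1_le_JJ (ve_mem _)) (we_mem_JJ _)
    · rw [map_mul, iota_ve, iota_we]

/-- product of actions -/
theorem acts_comp {P : ℕ → G} {g h : G} {M N : ℕ} (hg : Acts P g M) (hh : Acts P h N) {v : ℕ}
    (hv : v < 64) : P v * (g * h) = (g * h) * P (app N (app M v)) := by
  rw [← mul_assoc, hg v hv, mul_assoc, hh _ (app_lt _ _), mul_assoc]

/-- conjugating by an element of `P` does not change the action -/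
theorem acts_conj_self {P : ℕ → G} (hP : IsHom6 P) {g f : G} {M w : ℕ} (hg : Acts P g M)
    (hw : w < 64) (hf : P w = f) : Acts P (f * g * f) M := by
  intro v hv
  have hc : ∀ a b, a < 64 → b < 64 → P a * P b = P b * P a := by
    intro a b ha hb
    rw [← hP a b ha hb, ← hP b a hb ha, Nat.xor_comm]
  rw [← hf]
  calc P v * (P w * g * P w) = (P v * P w) * g * P w := by group
    _ = P w * (P v * g) * P w := by rw [hc v w hv hw]; group
    _ = P w * g * (P (app M v) * P w) := by rw [hg v hv]; group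
    _ = P w * g * (P w * P (app M v)) := by rw [hc _ w (app_lt _ _) hw]
    _ = _ := by group

/-- the words of the action of `y1 y2` on `V1 V2 / V1` -/
theorem comm_chk3 : ∀ k : Fin 4, ∃ k' : Fin 4, ∃ u : Fin 64, app (A22 true) (app A12 u) = 16 * k' ∧
    (16 * k ^^^ (16 * k' ^^^ u) : ℕ) < 16 := by decide +kernel

theorem low_chk : ∀ l < 16, v2c l = v1c (fphi l) ∧ fphi l < 64 := by decide +kernel

theorem isF_vc : ∀ a : Fin 64, Nat.testBit 87 (cl a) = true → isF (vc a) = true := by
  decide +kernel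

theorem isN_chk : isN (vc 34) = true ∧ isN (vc 52) = true ∧ isN (vc 22) = true := by
  decide +kernel

theorem cl_cases (a : Fin 64) (h0 : a ≠ 0) (h : ¬ Nat.testBit 87 (cl a) = true) :
    cl a = 3 ∨ cl a = 5 := by
  have := cl_lt a
  revert h0 h; revert a; decide +kernel

theorem nrm_of {V : Subgroup G} [Finite G] {g : G} (h : ∀ v ∈ V, g * v * g⁻¹ ∈ V) :
    g ∈ Subgroup.normalizer (V : Set G) :=
  Subgroup.mem_normalizer_fintype h

theorem nrm_of' {V : Subgroup G} [Finite G] {g : G} (h : ∀ v ∈ V, ∃ w ∈ V, v * g = g * w) :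
    g ∈ Subgroup.normalizer (V : Set G) := by
  have h1 : g⁻¹ ∈ Subgroup.normalizer (V : Set G) := by
    apply nrm_of
    intro v hv
    obtain ⟨w, hw, e⟩ := h v hv
    have : g⁻¹ * v * g⁻¹⁻¹ = w := by
      rw [inv_inv, mul_assoc, e]; group
    rw [this]; exact hw
  have h2 := (Subgroup.normalizer (V : Set G)).inv_mem h1
  rwa [inv_inv] at h2

set_option maxHeartbeats 800000 in
/-- **The centraliser of the four-group `BB`**, Held configuration. -/
theorem centralizer_BB_le [Finite G] (E : Code.Emb z ph) (H : Subgroup G)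
    (hA : ∀ g, g * z * g⁻¹ ∈ H → g ∈ H) (hCH : ∀ c, Code.C c → ph c ∈ H)
    (S : Sylow 2 G) (hS : (S : Subgroup G) = im (iota E) T0)
    (hF : ∀ n < 1024, Fus8.kf n ≠ 0 → Fus8.zt true true (Fus8.kf n) = true →
      IsConj z (ph (Fus8.tc n)))
    (hN : ∀ n < 1024, Fus8.kf n ≠ 0 → Fus8.zt true true (Fus8.kf n) = false →
      ¬ IsConj z (ph (Fus8.tc n)))
    (hw : ∀ g : G, (∀ v ∈ im (iota E) V1, g * v * g⁻¹ ∈ im (iota E) T0) →
      g ∈ Subgroup.normalizer (im (iota E) V1 : Set G))
    {y1 y2 : G} (hy1 : y1 ∈ H) (hy2 : y2 ∈ H)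
    (c : Config.Config (xs ph) 1 1 (ph (Code.X 1 3)) y1 y2) :
    Subgroup.centralizer (im (iota E) BB : Set G) ≤ H := by
  have h := hyp E
  set ι := iota E with hι
  have hFc : ∀ u : CC, isF (cd (u : L5)) = true → IsConj z (ι u) := by
    intro u hu
    unfold isF at hu
    simp only [Bool.and_eq_true, Bool.not_eq_true'] at hu
    obtain ⟨⟨⟨h1, h2⟩, h3⟩, h4⟩ := hu
    have h5 := hF (nidx (cd (u : L5))) (by rwa [Nat.blt_eq] at h1) (fun e => by
      rw [e] at h3; exact absurd h3 (by decide)) h4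
    rw [Nat.eq_of_beq_eq_true h2] at h5
    exact h5
  have hNc : ∀ u : CC, isN (cd (u : L5)) = true → ¬ IsConj z (ι u) := by
    intro u hu
    unfold isN at hu
    simp only [Bool.and_eq_true, Bool.not_eq_true'] at hu
    obtain ⟨⟨⟨h1, h2⟩, h3⟩, h4⟩ := hu
    have h5 := hN (nidx (cd (u : L5))) (by rwa [Nat.blt_eq] at h1) (fun e => by
      rw [e] at h3; exact absurd h3 (by decide)) h4
    rw [Nat.eq_of_beq_eq_true h2] at h5
    exact h5
  have s1 := toSide E (Or.inr rfl) c.side1
  have s2 := toSide2 E (Or.inr rfl) c.side2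
  have a11 : Acts (P1 ph) y1 (A11 true) := side_acts1 E s1
  have a12 : Acts (P2 ph) y1 A12 := side_acts2 E s1
  have a21 : Acts (P1 ph) y2 A21 := side2_acts1 E s2
  have a22 : Acts (P2 ph) y2 (A22 true) := side2_acts2 E s2
  set f : G := ph (Code.X 1 3) with hf
  have b11 : Acts (P1 ph) (f * y1 * f) (A11 true) :=
    acts_conj_self (hom1 E) a11 (w := 16) (by norm_num) p1_16
  have b12 : Acts (P2 ph) (f * y1 * f) A12 :=
    acts_conj_self (hom2 E) a12 (w := 4) (by norm_num) p2_4
  set! y0 : G := f * y1 * f * y2 with hy0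
  have hfH : f ∈ H := hCH _ (Code.C_of_isC (b := Code.X 1 3) (by decide +kernel))
  have hy0H : y0 ∈ H := H.mul_mem (H.mul_mem (H.mul_mem hfH hy1) hfH) hy2
  have c1 : ∀ v < 64, P1 ph v * y0 = y0 * P1 ph (app A21 (app (A11 true) v)) :=
    fun v hv => acts_comp b11 a21 hv
  have c2 : ∀ v < 64, P2 ph v * y0 = y0 * P2 ph (app (A22 true) (app A12 v)) :=
    fun v hv => acts_comp b12 a22 hv
  have hVJ : ∀ v ∈ im ι V1, ∀ j ∈ im ι JJ, j⁻¹ * v * j ∈ im ι V1 := by
    intro v hv j hj
    obtain ⟨u, hu, rfl⟩ := mem_im.1 hv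
    obtain ⟨w, hw, rfl⟩ := mem_im.1 hj
    refine mem_im.2 ⟨w⁻¹ * u * w, ?_, by rw [map_mul, map_mul, map_inv]⟩
    have := V1_conj (T0.inv_mem (JJ_le_T0 hw)) hu
    rwa [inv_inv] at this
  have hTJ : im ι T0 ≤ Subgroup.normalizer (im ι JJ : Set G) := by
    intro t ht
    obtain ⟨u, hu, rfl⟩ := mem_im.1 ht
    apply nrm_of
    intro j hj
    obtain ⟨w, hw, rfl⟩ := mem_im.1 hj
    refine mem_im.2 ⟨u * w * u⁻¹, ?_, by rw [map_mul, map_mul, map_inv]⟩
    exact conj_pat (P := PJ) (P' := PT) (by decide) (by decide) (by decide) hu hw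
  -- the centre of J
  have hcen : ∀ x ∈ im ι FF, ∀ j ∈ im ι JJ, j * x = x * j := by
    intro x hx j hj
    obtain ⟨u, hu, rfl⟩ := mem_im.1 hx
    obtain ⟨w, hw, rfl⟩ := mem_im.1 hj
    rw [← map_mul, ← map_mul]
    congr 1
    exact Subtype.ext (jj_ff_comm hw hu)
  have hcen' : ∀ x ∈ im ι JJ, (∀ j ∈ im ι JJ, x * j = j * x) → x ∈ im ι FF := by
    intro x hx hxj
    obtain ⟨u, hu, rfl⟩ := mem_im.1 hx
    refine mem_im.2 ⟨u, mem_FF_of_comm hu ?_, rfl⟩
    intro j hj
    have h1 := hxj (ι ⟨j, JJ_le_CC hj⟩) (mem_im.2 ⟨_, hj, rfl⟩)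
    rw [← map_mul, ← map_mul] at h1
    exact congrArg Subtype.val (h.inj h1)
  have hXc : ∀ g : G, (∀ j ∈ im ι JJ, g * j * g⁻¹ ∈ im ι JJ) →
      g ∈ Subgroup.normalizer (im ι FF : Set G) := by
    intro g hg
    have hgN : g ∈ Subgroup.normalizer (im ι JJ : Set G) := nrm_of hg
    apply nrm_of
    intro x hx
    apply hcen' _ (hg x (im_le FF_le_V1 |>.trans (im_le V1_le_JJ) |> fun hle => hle hx))
    intro j hj
    have h1 : g⁻¹ * j * g ∈ im ι JJ := by
      have := (Subgroup.mem_normalizer_iff.1 ((Subgroup.normalizer _).inv_mem hgN) j).1 hj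
      simpa using this
    have h2 := hcen x hx _ h1
    calc g * x * g⁻¹ * j = g * (x * (g⁻¹ * j * g)) * g⁻¹ := by group
      _ = g * ((g⁻¹ * j * g) * x) * g⁻¹ := by rw [h2]
      _ = j * (g * x * g⁻¹) := by group
  have hBJ : im ι BB ≤ im ι JJ := im_le (BB_le_FF.trans (FF_le_V1.trans V1_le_JJ))
  refine CentV.centralizer_le z H (im ι BB) (im ι FF) (im ι V1) (im ι JJ) hA (im_le BB_le_FF)
    (im_le FF_le_V1) (im_le V1_le_JJ) ?_ ?_ ?_ ?_ ?_ (sq_im (fun a ha => sq_V1 ha)) ?_ ?_ ?_ ?_ ?_ ?_ ?_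
    ?_ hXc ?_ y0 hy0H ?_ ?_ ?_
  · rintro _ hj
    obtain ⟨u, hu, rfl⟩ := mem_im.1 hj
    exact hCH _ (C_cd u.2)
  · rw [card_im h BB_le_CC, card_BB]
  · rw [card_im h FF_le_CC, card_FF]
  · rw [card_im h V1_le_CC, card_V1]
  · rw [card_im h JJ_le_CC, card_JJ]
  · rw [← h.map_zz]
    refine mem_im.2 ⟨zC, ?_, rfl⟩
    show zz ∈ FF
    rw [← ve_four]
    exact ve_mem_FF.2 (by decide +kernel)
  · intro hz
    obtain ⟨u, hu, e⟩ := mem_im.1 hz
    rw [← h.map_zz] at e
    have h1 := h.inj e
    rw [h1] at hu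
    have h2 : zz ∈ BB := hu
    rw [← ve_four, ve_mem_BB] at h2
    revert h2; decide +kernel
  · intro j hj
    rw [Subgroup.mem_centralizer_iff]
    intro b hb
    exact (hcen b (im_le BB_le_FF hb) j hj).symm
  · intro x hxz hxB
    obtain ⟨u, rfl⟩ : ∃ u, ι u = x := by
      have : x ∈ Subgroup.centralizer ({z} : Set G) := by
        rw [Subgroup.mem_centralizer_singleton_iff]; exact hxz
      rw [← h.range] at this
      exact this
    refine mem_im.2 ⟨u, mem_JJ_of_BB u.2 ?_, rfl⟩
    intro b hb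
    have h1 := Subgroup.mem_centralizer_iff.1 hxB (ι ⟨b, BB_le_CC hb⟩) (mem_im.2 ⟨_, hb, rfl⟩)
    rw [← map_mul, ← map_mul] at h1
    exact (congrArg Subtype.val (h.inj h1)).symm
  · intro x hx
    obtain ⟨u, hu, rfl⟩ := mem_im.1 hx
    exact E.comm (C_cd u.2)
  · -- J is a Sylow subgroup of the centraliser
    intro x hxB hxJ hxx
    have hxN : x ∈ Subgroup.normalizer (im ι JJ : Set G) := nrm_of hxJ
    have hJ2 : IsPGroup 2 (im ι JJ) :=
      IsPGroup.of_card (n := 8) (by rw [card_im h JJ_le_CC, card_JJ]; norm_num)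
    have hP := MaxStab.isPGroup_adjoin (im ι JJ) hJ2 x hxN hxx
    set NJ : Subgroup G := Subgroup.normalizer (im ι JJ : Set G) with hNJ
    have hSN : (S : Subgroup G) ≤ NJ := by rw [hS]; exact hTJ
    let S' : Sylow 2 NJ := S.subtype hSN
    obtain ⟨Q, hQ⟩ := (hP.comap_of_injective NJ.subtype NJ.subtype_injective).exists_le_sylow
    obtain ⟨n, hn⟩ := MulAction.exists_smul_eq NJ Q S'
    have key : ∀ w ∈ im ι JJ ⊔ Subgroup.zpowers x, ∀ hw : w ∈ NJ, (n : G) * w * (n : G)⁻¹ ∈ im ι T0 := by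
      intro w hwP hwN
      have h1 : (⟨w, hwN⟩ : NJ) ∈ (Q : Subgroup NJ) := hQ hwP
      have h2 : n * ⟨w, hwN⟩ * n⁻¹ ∈ (S' : Subgroup NJ) := by
        rw [← hn, Sylow.coe_subgroup_smul]
        have := Subgroup.smul_mem_pointwise_smul (⟨w, hwN⟩ : NJ) (MulAut.conj n) (Q : Subgroup NJ) h1
        simpa only [_root_.MulAut.smul_def, _root_.MulAut.conj_apply] using this
      have h3 : (n : G) * w * (n : G)⁻¹ ∈ (S : Subgroup G) := h2
      rwa [hS] at h3
    have hx' : (n : G) * x * (n : G)⁻¹ ∈ im ι T0 :=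
      key x ((le_sup_right : Subgroup.zpowers x ≤ _) (Subgroup.mem_zpowers x)) hxN
    have hnJ : ∀ j ∈ im ι JJ, (n : G) * j * (n : G)⁻¹ ∈ im ι JJ := fun j hj =>
      (Subgroup.mem_normalizer_iff.1 n.2 j).1 hj
    have hnX := hXc n hnJ
    obtain ⟨u, hu, hue⟩ := mem_im.1 hx'
    -- images of elements of B
    have hb : ∀ b : Fin 64, bi b = true → b ≠ 0 → ¬ IsConj z (P1 ph b) →
        ∃ a : Fin 64, (n : G) * P1 ph b * (n : G)⁻¹ = P1 ph a ∧
          Nat.beq (Nat.land a 54) a = true ∧ (cl a = 3 ∨ cl a = 5) := by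
      intro b hb hb0 hbz
      have h1 : P1 ph b ∈ im ι FF :=
        mem_im.2 ⟨⟨ve b, V1_le_CC (ve_mem b)⟩, BB_le_FF (ve_mem_BB.2 hb), iota_ve E b _⟩
      have h2 := (Subgroup.mem_normalizer_iff.1 hnX _).1 h1
      obtain ⟨⟨w, hw'⟩, hwF, hwe⟩ := mem_im.1 h2
      obtain ⟨a, rfl⟩ := ve_surj (FF_le_V1 hwF)
      rw [hι, iota_ve E a hw'] at hwe
      refine ⟨a, hwe.symm, ve_mem_FF.1 hwF, cl_cases a ?_ ?_⟩
      · rintro rfl
        have h3 : P1 ph ((0 : Fin 64) : ℕ) = 1 := (hom1 E).zero
        rw [h3] at hwe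
        have h4 : P1 ph b = 1 := by
          have : P1 ph b = (n : G)⁻¹ * ((n : G) * P1 ph b * (n : G)⁻¹) * n := by group
          rw [this, ← hwe]; group
        exact hb0 (Fin.ext (inj1 E b b.2 h4))
      · intro h3
        have h4 := hFc ⟨ve a, V1_le_CC (ve_mem a)⟩ (by
          show isF (cd (ve a)) = true
          rw [cd_ve]; exact isF_vc a h3)
        rw [hι, iota_ve E a] at h4
        apply hbz
        rw [hwe] at h4
        exact h4.trans (isConj_iff.2 ⟨(n : G)⁻¹, by group⟩)
    have hNb : ∀ b : Fin 64, isN (vc b) = true → ¬ IsConj z (P1 ph b) := by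
      intro b hb
      have := hNc ⟨ve b, V1_le_CC (ve_mem b)⟩ (by
        show isN (cd (ve b)) = true
        rw [cd_ve]; exact hb)
      rw [hι, iota_ve E b] at this
      exact this
    obtain ⟨a, ha, ha1, ha2⟩ := hb 34 (by decide +kernel) (by decide) (hNb 34 isN_chk.1)
    obtain ⟨b, hb', hb1, hb2⟩ := hb 52 (by decide +kernel) (by decide) (hNb 52 isN_chk.2.1)
    obtain ⟨d, hd, hd1, hd2⟩ := hb 22 (by decide +kernel) (by decide) (hNb 22 isN_chk.2.2)
    have hab : d = xr a b := by
      have h1 : P1 ph d = P1 ph (xr a b) := by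
        rw [← hd]
        show _ = P1 ph (a ^^^ b : ℕ)
        rw [(hom1 E) a b a.2 b.2, ← ha, ← hb']
        have h2 : P1 ph ((22 : Fin 64) : ℕ) = P1 ph ((34 : Fin 64) : ℕ) * P1 ph ((52 : Fin 64) : ℕ) := by
          rw [← (hom1 E) _ _ (34 : Fin 64).2 (52 : Fin 64).2]
          rfl
        rw [h2]; group
      have h3 : P1 ph ((d : ℕ) ^^^ ((xr a b : Fin 64) : ℕ)) = 1 := by
        rw [(hom1 E) _ _ d.2 (xr a b).2, h1, (hom1 E).sq (xr a b).2]
      have h4 := inj1 E _ (Nat.xor_lt_two_pow (n := 6) d.2 (xr a b).2) h3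
      exact Fin.ext (Nat.xor_eq_zero_iff.1 h4)
    rw [hab] at hd2
    have hcm : ∀ b : Fin 64, bi b = true → ∀ a : Fin 64, (n : G) * P1 ph b * (n : G)⁻¹ = P1 ph a →
        (u : L5) * ve a = ve a * (u : L5) := by
      intro b hb a ha
      have h1 : P1 ph b ∈ im ι BB :=
        mem_im.2 ⟨⟨ve b, V1_le_CC (ve_mem b)⟩, ve_mem_BB.2 hb, iota_ve E b _⟩
      have h2 := Subgroup.mem_centralizer_iff.1 hxB _ h1
      have h3 : ι u * P1 ph a = P1 ph a * ι u := by
        rw [hue, ← ha]
        calc (n : G) * x * (n : G)⁻¹ * ((n : G) * P1 ph b * (n : G)⁻¹)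
            = n * (x * P1 ph b) * (n : G)⁻¹ := by group
          _ = n * (P1 ph b * x) * (n : G)⁻¹ := by rw [h2]
          _ = _ := by group
      rw [← iota_ve E a (V1_le_CC (ve_mem a)), ← hι, ← map_mul, ← map_mul] at h3
      exact congrArg Subtype.val (h.inj h3)
    have huJ : (u : L5) ∈ JJ := mem_JJ_of_comm hu a b ha1 hb1 ha2 hb2 hd2
      (hcm 34 (by decide +kernel) a ha) (hcm 52 (by decide +kernel) b hb')
    have h5 : (n : G) * x * (n : G)⁻¹ ∈ im ι JJ := mem_im.2 ⟨u, huJ, hue⟩
    exact (Subgroup.mem_normalizer_iff.1 n.2 x).2 h5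
  · -- coset condition
    intro x hx hxB hxx
    obtain ⟨u, hu, rfl⟩ := mem_im.1 hx
    have h1 : (u : L5) ∉ BB := fun e => hxB (mem_im.2 ⟨u, e, rfl⟩)
    have h2 : (u : L5) * u ∈ BB := by
      rw [← map_mul] at hxx
      obtain ⟨w, hw, e⟩ := mem_im.1 hxx
      have := h.inj e
      rw [this] at hw
      exact hw
    obtain ⟨b, hb, hbF⟩ := exists_isF hu h1 h2
    refine ⟨ι ⟨b, BB_le_CC hb⟩, mem_im.2 ⟨_, hb, rfl⟩, ?_⟩
    have e3 : ((u * ⟨b, BB_le_CC hb⟩ : CC) : L5) = (u : L5) * b := rfl
    have h3 := hFc (u * ⟨b, BB_le_CC hb⟩) (by rw [e3]; exact hbF)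
    rw [map_mul, isConj_iff] at h3
    exact h3
  · intro g hg
    apply hw
    intro v hv
    exact im_le JJ_le_T0 (hg v hv)
  · intro j hj
    apply nrm_of
    intro v hv
    have := hVJ v hv j⁻¹ ((im ι JJ).inv_mem hj)
    rwa [inv_inv] at this
  · -- y0 centralises B
    rw [Subgroup.mem_centralizer_iff]
    intro b hb
    obtain ⟨⟨w, hw'⟩, ⟨a, ha, hae⟩, rfl⟩ := mem_im.1 hb
    have hae' : ve a = w := hae
    subst hae'
    rw [hι, iota_ve E a hw', c1 a a.2]
    have key : ∀ a : Fin 64, bi a = true → app A21 (app (A11 true) a) = a := by decide +kernel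
    rw [key a ha]
  · apply nrm_of'
    intro v hv
    obtain ⟨a, ha, rfl⟩ := (mem_imV E).1 hv
    exact ⟨P1 ph _, (mem_imV E).2 ⟨_, app_lt _ _, rfl⟩, c1 a ha⟩
  · intro j hj
    obtain ⟨v, hv, k, hk, rfl⟩ := (mem_imJ E).1 hj
    obtain ⟨k', u, hu1, hu2⟩ := comm_chk3 ⟨k, hk⟩
    have hk16 : ∀ k : Fin 4, 16 * (k : ℕ) < 64 := by decide
    have hw1 : P2 ph (16 * (k' : ℕ)) ∈ im ι JJ := (mem_imJ E).2 ⟨0, by norm_num, k', k'.2, by
      rw [(hom1 E).zero, one_mul]⟩
    have hwk : P2 ph (16 * k) ∈ im ι JJ := (mem_imJ E).2 ⟨0, by norm_num, k, hk, by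
      rw [(hom1 E).zero, one_mul]⟩
    refine ⟨P2 ph (16 * (k' : ℕ)), hw1, P2 ph (16 * k ^^^ (16 * (k' : ℕ) ^^^ u)) *
      ((P2 ph (16 * k))⁻¹ * P1 ph v * P2 ph (16 * k)), ?_, ?_⟩
    · apply (im ι V1).mul_mem
      · obtain ⟨h1, h2⟩ := low_chk _ hu2
        refine (mem_imV E).2 ⟨_, h2, ?_⟩
        show ph (v2c _) = ph (v1c _)
        rw [h1]
      · exact hVJ _ ((mem_imV E).2 ⟨v, hv, rfl⟩) _ hwk
    · have e1 : y0 * (P2 ph (16 * (k' : ℕ)))⁻¹ * y0⁻¹ = P2 ph u := by
        have h1 := c2 u u.2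
        rw [hu1] at h1
        have h2 : (P2 ph (16 * (k' : ℕ)))⁻¹ = P2 ph (16 * (k' : ℕ)) :=
          inv_eq_of_mul_eq_one_right ((hom2 E).sq (hk16 k'))
        rw [h2, ← h1]; group
      have e2 : P2 ph (16 * (k' : ℕ)) * y0 * (P2 ph (16 * (k' : ℕ)))⁻¹ * y0⁻¹ =
          P2 ph (16 * (k' : ℕ) ^^^ u) := by
        rw [(hom2 E) _ _ (hk16 k') u.2, ← e1]; group
      have hlt : (16 * (k' : ℕ) ^^^ u : ℕ) < 64 := Nat.xor_lt_two_pow (n := 6) (hk16 k') u.2
      rw [e2, (hom2 E) _ _ (hk16 ⟨k, hk⟩) hlt]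
      have e3 := (hom2 E).sq hlt
      calc P1 ph v * P2 ph (16 * k)
          = P2 ph (16 * k) * ((P2 ph (16 * k))⁻¹ * P1 ph v * P2 ph (16 * k)) := by group
        _ = (P2 ph (16 * (k' : ℕ) ^^^ u) * P2 ph (16 * (k' : ℕ) ^^^ u)) * (P2 ph (16 * k) *
            ((P2 ph (16 * k))⁻¹ * P1 ph v * P2 ph (16 * k))) := by rw [e3, one_mul]
        _ = P2 ph (16 * (k' : ℕ) ^^^ u) * ((P2 ph (16 * (k' : ℕ) ^^^ u) * P2 ph (16 * k)) *
            ((P2 ph (16 * k))⁻¹ * P1 ph v * P2 ph (16 * k))) := by group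
        _ = P2 ph (16 * (k' : ℕ) ^^^ u) * ((P2 ph (16 * k) * P2 ph (16 * (k' : ℕ) ^^^ u)) *
            ((P2 ph (16 * k))⁻¹ * P1 ph v * P2 ph (16 * k))) := by
              rw [← (hom2 E) _ _ hlt (hk16 ⟨k, hk⟩), ← (hom2 E) _ _ (hk16 ⟨k, hk⟩) hlt,
                Nat.xor_comm (16 * (k' : ℕ) ^^^ u)]

end Main

end Cfsg.Agent.Held.CentB
end

-- part: Held/PresY
section
/-!
# The relators of a configuration as words in the sixteen letters
-/

set_option autoImplicit false

namespace Cfsg.Agent.Held.PresY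

open Cfsg.Agent.SporadicRecognition.CosetCert Cfsg.Agent.SporadicRecognition.CosetCertHyp
  Cfsg.Agent.Held.Config Cfsg.Agent.Held.Letters Cfsg.Agent.Held.SideWords
  Cfsg.Agent.Held.PresCard

section
variable {G : Type*} [Group G] {x : ℕ → ℕ → G}

theorem sq_pairs (h : St x) : ∀ p ∈ pairs, x p.1 p.2 * x p.1 p.2 = 1 := by
  intro p hp
  simp only [pairs, List.mem_cons, List.not_mem_nil, or_false] at hp
  rcases hp with rfl | rfl | rfl | rfl | rfl | rfl | rfl | rfl | rfl | rfl | rfl
  · exact h.sq 0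
  · exact h.sq 1
  · exact h.sq 2
  · exact h.sq 3
  · exact h.sq 4
  · exact h.sq 5
  · exact h.sq 6
  · exact h.sq 10
  · exact h.sq 7
  · exact h.sq 8
  · exact h.sq 9

theorem sq_pairs_mir (h : St x) : ∀ p ∈ pairs, mir x p.1 p.2 * mir x p.1 p.2 = 1 := by
  intro p hp
  simp only [pairs, List.mem_cons, List.not_mem_nil, or_false] at hp
  rcases hp with rfl | rfl | rfl | rfl | rfl | rfl | rfl | rfl | rfl | rfl | rfl
  · exact h.sq 9
  · exact h.sq 8
  · exact h.sq 6
  · exact h.sq 3
  · exact h.sq 7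
  · exact h.sq 5
  · exact h.sq 2
  · exact h.sq 11
  · exact h.sq 4
  · exact h.sq 1
  · exact h.sq 0

theorem relsP_y (h : St x) (y1 y2 : G) : ∀ r ∈ relsP, ev (gy x y1 y2) r = 1 := by
  intro r hr
  rw [ev_congr fun l hl => gy_of_lt x y1 y2 (relsP_lt r hr l hl)]
  exact h.rel r hr

theorem side1_y (h : St x) {y1 : G} (y2 : G) {t : ℕ} (s : Side x t y1) :
    ∀ r ∈ sideW LN 12 13 t, ev (gy x y1 y2) r = 1 := by
  refine sideW_ok ?_ (sq_pairs h) rfl rfl s
  intro p hp
  simp only [pairs, List.mem_cons, List.not_mem_nil, or_false] at hp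
  rcases hp with rfl | rfl | rfl | rfl | rfl | rfl | rfl | rfl | rfl | rfl | rfl <;> rfl

theorem side2_y (h : St x) (y1 : G) {y2 : G} {t : ℕ} (s : Side (mir x) t y2) :
    ∀ r ∈ sideW LM 14 15 t, ev (gy x y1 y2) r = 1 := by
  refine sideW_ok ?_ (sq_pairs_mir h) rfl rfl s
  intro p hp
  simp only [pairs, List.mem_cons, List.not_mem_nil, or_false] at hp
  rcases hp with rfl | rfl | rfl | rfl | rfl | rfl | rfl | rfl | rfl | rfl | rfl <;> rfl

theorem gy_inv (h : St x) (y1 y2 : G) (ι : ℕ → ℕ) (h0 : ∀ n < 12, ι n = n) (h12 : ι 12 = 13)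
    (h13 : ι 13 = 12) (h14 : ι 14 = 15) (h15 : ι 15 = 14) :
    ∀ n, n < 16 → ι n < 16 ∧ gy x y1 y2 n * gy x y1 y2 (ι n) = 1 := by
  intro n hn
  rcases Nat.lt_or_ge n 12 with h1 | h1
  · rw [h0 n h1, gy_of_lt x y1 y2 h1]
    exact ⟨hn, h.sq n⟩
  · interval_cases n
    · rw [h12]; exact ⟨by norm_num, mul_inv_cancel y1⟩
    · rw [h13]; exact ⟨by norm_num, inv_mul_cancel y1⟩
    · rw [h14]; exact ⟨by norm_num, mul_inv_cancel y2⟩
    · rw [h15]; exact ⟨by norm_num, inv_mul_cancel y2⟩

/-- the words of the root elements -/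
def sX : List (List ℕ) := [[0],[1],[2],[3],[4],[5],[6],[7],[8],[9],[10],[11]]

theorem sX_lt : ∀ r ∈ sX, ∀ l ∈ r, l < 12 := by decide +kernel

theorem ev_sX (y1 y2 : G) : ∀ s ∈ sX, ev (gy x y1 y2) s ∈ Subgroup.closure (gx x '' {n | n < 12}) := by
  intro s hs
  refine ev_mem _ _ _ fun l hl => ?_
  rw [gy_of_lt x y1 y2 (sX_lt s hs l hl)]
  exact Subgroup.subset_closure ⟨l, sX_lt s hs l hl, rfl⟩

end

end Cfsg.Agent.Held.PresY
end

-- part: Held/PKData
section
set_option autoImplicit false
set_option maxRecDepth 100000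

namespace Cfsg.Agent.Held.PKData

open Cfsg.Agent.SporadicRecognition.CosetCert

noncomputable def tree : Tr := (.L
  0x1fffc67e2bf49f8efcf7e23f09992fcb6e8bf31f9ced07e43dffff6adb75e0bae1d7ceb3758aae9d78bc075ebb35f7eeb973fffe91768eb06d7a6adb44da04d3b729f5ada86d52eb1b4cb7fffc9324591c89f649b271986f9464ea65932ec9b54caa4197fffb6751b6357187885c2ae0cf0cbbb7452e1d752d895d2b5fffeee9793b99a094f4a7f55939ed50077d3bf2a69930c7555fffda8eeca652d735ad2e49a16b6267992ac6d4b89dbced07bfffb1a18911ec6442ea1810be85e42e2158ab685a42c998509fff78534a540916b523aa9e116a678153e2950ee096e4b3a6fffe9c54423a293cc9064b3251924c8e6412231914cb084c327ffd0089a6664990cdca7253429f14ecaae83a29c14f486c4afffa198fcaa272911610b88564312181108c5e42d21e14d4b5fff1c10c84946665241918c8864232018f8ca064e32618f0b3ffe1a11b18a88a8828213109086042e216108884041e21d1efffc6861c20c0858428212108083841820a10408184082021f)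

noncomputable def wtree : WT :=
  (by
  refine (?fq9001 : ((pk61r (fun r0 j => pk61f j fun i1 => (pk61f (pk61d (nat_lit 7) 
    (nat_lit 0x1121c28301fbe8b121bd8505e3b80fdd3e7ae5c376cf1dba6ae5c3466ddb326ad18b05eb96b364c56305ead52e5aa562b509d32a5295427488d32544911a1407cf1d38890a0367cf1a3274e183668b962a50c982e4cb152444a13204888f1c3460b203c70a1a30488162838910182840e1818508080830400080) i1) fun u7 => (pk61f (pk61d (nat_lit 1) 
    (nat_lit 0x7f13278993e264e4c9f8993c4c9f1327264) i1) fun t1_0 => (pk61c (Nat.div t1_0 (nat_lit 1)) (_root_.Cfsg.Agent.SporadicRecognition.CosetCert.WT.L (pk61d (nat_lit 4) 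
    (nat_lit 0x5ad20cba419368a54d21c018369ac08769532dc106538297321b9876540c654b987321) u7) ((fun g1 : Nat → Nat => pk61l (fun i2 => (pk61d (nat_lit 4) 
    (nat_lit 0x7577a77d77277077c77b7b775a5745771278797737767787ba4abab44b5bb4bbdbb2b1b1bbcbb0b414b98bb3bb6bb9b4a4a441c14014486454744644944544344244d163a6d63a6d63a6a01aa0aa68aa5a7a3aa8aa2aa9aa7ad36cd25cd14cdbcd9cd8cd7cd3cd2cd1cd0dddc3d3c2d2c1d1cbdc9dc8dc7dc6dc5dc4d) i2)) (g1 u7) (g1 (Nat.succ u7)) List.nil) fun j => (pk61d (nat_lit 8) 
    (nat_lit 0xf9f6f3f0edeae7e2dedad6d2cfccc9c1bdbab7b3b0adaaa7a3a09d9a95918d8985827f7c79767365615e5a5653504d4a47433f3b3835322f2c292623211d1915120f0c09060300) j))) fun _ => (_root_.Cfsg.Agent.SporadicRecognition.CosetCert.WT.N (pk61d (nat_lit 7) 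
    (nat_lit 0x2368f60c3891613f80f9c3a76f1cb66ed55af62c99b05ab962752a94254c9089a3c810a23e70e9b2a5cc192c4ca12103070f203450b12103070a08181) u7) (r0 (Nat.sub i1 (pk61d (nat_lit 7) 
    (nat_lit 0x464848506080810404085060808104040890a0c1010208081080808104040921214182020410102141820204101022428304040820204202020410102) u7))) (r0 (Nat.sub i1 (nat_lit 1)))))))) (_root_.Cfsg.Agent.SporadicRecognition.CosetCert.WT.L (nat_lit 0) List.nil) (nat_lit 8) (nat_lit 138)) : WT)
    = ?xq9001 → (WT)) ?hq9001; (case hq9001 => (set_option maxRecDepth 1000000 in conv => lhs; reduce)); intro _; exact ?xq9001 : WT)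

noncomputable def stree : _root_.Cfsg.Agent.SporadicRecognition.CosetCert.ST := beta% (fun (N : Nat → _root_.Cfsg.Agent.SporadicRecognition.CosetCert.ST → _root_.Cfsg.Agent.SporadicRecognition.CosetCert.ST → _root_.Cfsg.Agent.SporadicRecognition.CosetCert.ST) (L : Nat → List Nat → List Nat → _root_.Cfsg.Agent.SporadicRecognition.CosetCert.ST) (c :
  Nat → List Nat → List Nat) (n : List Nat) => (N 6 (N 3 (N 1 (L 0 n n) (N 2 (L 1 n n) (L 2 n n))) (N 4 (L 3 n
  n) (N 5 (L 4 n n) (L 5 n n)))) (N 9 (N 7 (L 6 n n) (N 8 (L 7 n n) (L 8 n n))) (N 10 (L 9 n n) (N 11 (L 10 n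
  n) (L 11 n n)))))) ST.N ST.L (@List.cons Nat) (@List.nil Nat)

noncomputable def C : Cert where
  data := tree
  lm := 15
  rb := 199
  fb := 13
  mask := 8191
  B := 32
  k := 14
  N := 15
  inv := fun x => bif Nat.beq x 0 then 0 else bif Nat.beq x 1 then 1 else bif Nat.beq x 2 then 2 else bif Nat.beq x 3 then 3 else bif Nat.beq x 4 then 4 else bif Nat.beq x 5 then 5 else bif Nat.beq x 6 then 6 else bif Nat.beq x 7 then 7 else bif Nat.beq x 8 then 8 else bif Nat.beq x 9 then 9 else bif Nat.beq x 10 then 10 else bif Nat.beq x 11 then 11 else bif Nat.beq x 12 then 13 else bif Nat.beq x 13 then 12 else x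
  words := wtree
  subs := stree

def rels : List (List Nat) :=
  (by
  refine (?fq9002 : (fun (On : (n : Nat) → OfNat Nat n → Nat) (In : (n : Nat) → OfNat Nat n) => ((pk61l (fun i1 => ((fun g1 : Nat → Nat => pk61l (fun i2 => (pk61o On In (pk61d (nat_lit 4) 
    (nat_lit 0x3a6d63a6d63a6d6abab5abab5abab596abab6abab0abab2abab29abab9abababab8abab8abab3abab3abab1abab1abab0abab04abab4ababab7abab7ababababb7b7b7a4a4a441c1d52c2d63c3d98b8b86a6a75a5a897974b5b56959568484574741b2b2392920a1a13818127171360602505014040bcbd7c7d8c8d9c9d1c4d2c5d3c6dc0c09b9b9a9a8a8a7a7a98988787b6b6969686867676858575756565b4b4949464645454b3b3a3a3939383837373636353534343a2a2828272726262525242423232b1b1919161615151414131312121b0b0a0a0909080807070303020201010ccc) i2))) (g1 i1) (g1 (Nat.succ i1)) List.nil) fun j => (pk61d (nat_lit 9) 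
    (nat_lit 0x395bbd66872d8cc15e2dd64add4a95449f4e6692f95496411b8b4461907813f5f0f3773a5c8df6db5da6cf65b1d86bf5dadd66af55a9d469f4da5d268f45a1d067f3d9dce66f3599cc65f2d95ca64f2591c863f1d8dc662f1589c461f0d85c260f0581c0600) j))) (nat_lit 0) (nat_lit 89) List.nil) : List (List Nat)))
    = ?xq9002 → (List (List Nat))) ?hq9002; (case hq9002 => (set_option maxRecDepth 1000000 in conv => lhs; reduce)); intro _; exact ?xq9002 (@OfNat.ofNat Nat) instOfNatNat : List (List Nat))

end Cfsg.Agent.Held.PKData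
end

-- part: Held/PKChk0
section
set_option autoImplicit false
set_option maxRecDepth 100000

namespace Cfsg.Agent.Held.PKChk0

open Cfsg.Agent.SporadicRecognition.CosetCert Cfsg.Agent.Held.PKData

private theorem alC : Cfsg.Agent.SporadicRecognition.CertFast.al (Nat.succ C.lm) C.data = true := by decide +kernel

theorem c0 : _root_.Cfsg.Agent.SporadicRecognition.CosetCert.Part C 0 15 15 := Cfsg.Agent.SporadicRecognition.CertFast.part_fast C alC 15 (by decide +kernel : Cfsg.Agent.SporadicRecognition.CertFast.runF C 11 2047 0x14037e710dd9b83002e4c013d3746009e1c13004009f9c43766e0c00b93004f4dd1c2378704c014037e6009d9b83002e4e29bd3746009e1802004c4c00b73566b8c012c36c600969802004c0e19c037e6009d9b83002e4e29bd374708de1c1300400800b73566b8c012c36c600969b33646c0c01313002f8d59ae3004b0c013535a600801002004a4c012a34869cd31a5346600511a13004a0da1b13002f8d59ae3004b0c013535a6ccd91b03004008012a34869cd31a5346600511a135e6a0c01293004004b99932c670cd980234660c010024067cc010012e664cb19c3366008d19833c674c01001246008899031e638c698c32a650c9980200228c318020a610c198931061cc118130062cc0100216a2944a8850ea1942a84506a0940a805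 1 1 0 0 15 = 16)

theorem all : _root_.Cfsg.Agent.SporadicRecognition.CosetCert.Part C 0 15 15 := c0

end Cfsg.Agent.Held.PKChk0
end

-- part: Held/PKAll
section
set_option autoImplicit false
set_option maxRecDepth 100000

namespace Cfsg.Agent.Held.PKAll

open Cfsg.Agent.SporadicRecognition.CosetCert Cfsg.Agent.Held.PKData

theorem part : _root_.Cfsg.Agent.SporadicRecognition.CosetCert.Part C 0 C.N 15 := Cfsg.Agent.Held.PKChk0.all

end Cfsg.Agent.Held.PKAll
end

-- part: Held/PM24Data
section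
set_option autoImplicit false
set_option maxRecDepth 100000

namespace Cfsg.Agent.Held.PM24Data

open Cfsg.Agent.SporadicRecognition.CosetCert

noncomputable def t0 : Tr := beta% (fun (N : Nat → Tr → Tr → Tr) (L : Nat → Tr) => (N 192 (N 96 (N 48 (N 16 (L
  0xffffff036010035c1003280f031c0603640c06982003340f03480d046417034010032c10034c10033c10033810035010035809cffffff02fc0f03000f02d40603241003080906381f03301002e408030c0c02e80f02f00f02f40f02dc0f02ec0f02f80f03180cdffffff06d42206ac21066420061c1f02d00e02a40602bc0e04a81802b40704cc1802c80705e81e02c00e02b80e02cc0e02ac0eaffffff02a00d029c0d02700c026405048c1705681b027c0803441002840902900d02740d02940d028c0d02880d02980d045c17cffffff025c0c02600c023405026c0d03681005301a02400904141603100f02480c02500c02540c02440c024c0c02580c03140fdffffff05a41d05741c053c1b051c1a050c1902040502200702140704b018022c0704c41804e01902240b02180b02300b020c0baffffff01d40a01d00a04841704381602000a04a01801f40a01dc0601c80501e40a01e80a01fc0a01ec0a01f00a01f80a01e00a7ffffff01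c40901c00901a40801980403040f03c813023c0c04481702800d01b40901a80901b80901b00901ac0901bc09035410cffffff01900801940801700401a00904401603a81202780d02e00f042c16017c08018408018808017808018008018c08040016dffffff03dc1503d41403b413039c12038c11015804021c0b02100b02b00e02280b02c40e037011016807016407016c07016007affffff013006012c0603201002d80f01540602a80e01480601d80a012404013806013c06015006014006014406014c060134067ffffff00f80500f40502680d02380c00e80302080b010004011c0401cc0a010405012005010805010c0501140501100500f005bffffff00cc0400c804019c0901740800bc02015c0700fc0501180501280600d00400e40400d40400d80400e00400dc0400c404bffffff00b80300b40300800200740100ec0500ac03008c0200a003009003009c0300840300a40300980300940300a80300b003cffffff006c02007002003c01007c0300c004006002008803004802005002004c02005802006402004402005402006802005c02dffffff003801003401007803004002003001002c01002801002401002001001c01001801001401001001000c01000801000401f)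
  (N 32 (L
  0xffffff0954320ef849066c1f06600e0ebc48069c1006741f068c1b085c2b06841b08642b0d9043067c2006782006941306a413cffffff0cc0400e644706180e0668200e3046063c0f06702006281206401a06301206481a0d484206201f06341f065c1a06541adffffff0de8450dac440d64430d244205f01e06141e05fc1e06081e060c1e09983306041105e40e05f81e05f41e05ec1e06101e4ffffff05ac1c05a00b0ccc410c7c400b203905e01c05c81505d0150a243505c01d05bc1d05b81d05d8150a34350b3c3905b41ceffffff05700b05a81d0c143e0b783b0ac43805dc1d057c1405841409c83405901409ec340aec38058c1409d0340adc3805b01dfffffff0c1c3f0be43e05441a05380b0bd03d056c0d055412068820055c13068020054c130aac3705641b05601b087c2b088c2bcffffff0b803c0b683b05180b05401b0b543a05340c05241307f02706441f07f827064c1f0a743605281a052c1a06581f06501fdffffff0b04390ac0380a80370a503605100b05141904f41105001905041904fc1109903304dc0b04ec1904e81904e4190508194ffffff09f43509b43408842b081c2704d818049c0a04bc1804ac0e04b40b04d00e04c80b09783304c01804b81804d41804a418affffff045017044c17047c1604880a04900d08942b0458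16044409046810046c1704701704941704741704801704981704600d8ffffff04041604081604340a047817043c0807e42704541704180c043008042016042416042816041016040c16041c1603fc080ffffff03e41403d80709383208f43107b82605981405c41d05cc1d06fc2203f81503f41503f01505d41d07042207cc2603ec14effffff03d00703e01508e43008dc2f077425059c1505781c05801c06b82105941c06cc21078c2505881c06c02107842503e815fffffff08bc2e08b42d03bc1203b00708a82c03cc0905201a089c2b05581b08502b05481b075c2403c41303c01306902006a020cffffff08382a08302903980703b81308242803ac0805501b06241f080827062c1f08142707342303a01203a41208002707dc27dffffff079c2607702507402407182303900703941104f01903801103841104f81906001e036c07037c110378110374110388114)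
  (L
  0x95c2dffffffffffff08ec2f08e014ffffffffffffffffffffffffffffffffffffffffffffffffffffffffffffffffff094c32c092829ffffffffffff08d81408e830ffffffffffffffffffffffffffffffffffffffffffffffffffffffffffffffffffffffffdffffff08c42d08b8130bac3c08d4221458660bc82d0b943c0d00410c403f08cc2e08c82e0970320cf4410c503f1124530f0449effffff08b01308c02e0968290964141440650bc42e0b6c3b13545f0bf03e13785f0c043e146867136c5f0bf83e106450096032fffffff144c66143c6514286414206308a41313f0620b583a11705413d06113105e13a06010404f08ac2c0ee4480edc480ec048bffffff0d184113385f08702708881812fc5e08981708582708a013086020084c130868200fec4e08742b08782b08801b08901b6ffffff0840290834120a3c350c603f12a45c0c74290c303f0c904009143108482a08442a091c310c884009243110dc52119055effffff082c12083c2a093014092c30128c5b0c702a0be83e0e784711a0550e9c4711cc5512b45d0e904711a8550fac4c090c31fffffff12985c12885b12745a126c590820121234580bd43d0eec48121c570e3c4611e4560f904b082828116854116054114c54bffffff090031118455081818086c2b11485407e81608542b07f41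a080c1207fc1a0810120f584a07ec2707e02708041207d8120ffffff07a42507981111085310c85207bc1507d4260b2c3907c42607c82607c02607b42607b0260b44390e204507d01507ac25effffff076c1107a02610785010844c0778140794250acc38077c250780250af8380ddc440790140ae4380dc84407881407a826fffffff109051105850074823073c1110384f0764240a5436075824074c240fe84e0a8c370760130754240750240d9843076824cffffff0fb84d0fa04c0714110744240f884b0730230a94370720230724230d30420f744a073812071c230728230f484a072c23dffffff06dc2106d00e08d02e0bb43c06f022070c2106f8220a1c3507001506f42206ec2206e8220a2c350708150e184506e421effffff06a80e06d8220f38490eb44706b02107102206b42109c03406bc1409e43406c8140dd04409d83406c4140dc04406e022f)))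
  (N 64 (L
  0xffffff0e68470cc41f0c781d0cd0411a3c800ea8470c84320c942a0ca03c0c98400cac400cb43c0c8c2a0ca83c16606e0cbc3bdffffff0c243e0c181b0c642a0c5c3519ac7e0c683e0c342a0c3c320c442e0c2c3f0c283f0d10410c4c320c542e17b87213445feffffff0be01b0c203f0c083b0c101c198c7d0c6c3f0bec290f14490bf42d0f28490c002d19cc7f0f1c490bfc2d16986f0d0841fffffff19a07e19887d196c7c195c7b0bcc1b1834740bd8280e58461848750ed048104c4f13b0600bdc3d13245e131c5e13005ebffffff0b883b0b7c1a0bb8220bb02e18cc790bbc3b0b982e0ba0310c9c400b903c0b8c3c0cb0400ba8310ca4401770710e7047effffff0b641a0b843c0b741c0c0c3e18ac780bc03c0b702d1198550e804711c4550ea44718ec7a11b0550e884716086d0cb840fffffff18c07918a878188c77187c760b501a1844750b5c2c132c5e181c7411545417dc7315d46c0b603a0e50460e48460e3446bffffff0b0c380b00191784721734710b241d0b4c390b30260b34390b38390b28390b1c390b18390b482615a46b0b401d0b1438effffff0abc190b083916cc6f16246d0ac81c0afc380ad0250ad4380ad8380af42515506a0af01c0ae825152c6a0ae01c0b1039fffffff16dc7016846f0a88360a7c1913b8600ab4370a98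230aa8370a9c370d84430a90240ab01b0aa4370aa037101c4e0ab837cffffff16346e15f46d0a4c190a843715bc6c0a70360a58240a60360a64360f504a0d54420a781a0a5c360a68360d58420a6c36dffffff09fc3409f0180c583f0a402a0a10350a48340a18350a20220a281d0a14350a0c350a08350a30220a381d15946b0a0434effffff09b01809f83513985f11dc5509b8340a443509bc3409c42109cc1c09e02109e81c153c6a09dc2109d41c15246a0a0035fffffff15646b15106a10244e0f804a09803309ac33098c3309a03309a433099c1e099419097418098833098433097c3309a8334ffffff0efc4909582009403109341514dc690f2c490c80400c383f0ce441094832094432096c2e0c483f0cec4110b451095030cffffff11885509042708f015093c3214a86811d0550cdc410b9c3c09102a08f83108fc3109182a0ba43c09202a0fdc4d090829d)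
  (N 80 (L
  0xffffff105424109451107c4c1074251e3494149c6715f86d105c501060501a007f16bc6f106c4919e87f16a06f10682d109c51fffffff1e58951e30941dfc931ddc9210342418147315c46c15e06c1db8911c588810503d10442c10484f1af0821ae882103c4fbffffff17d0721a187f10104a1028331c608810304e0ff84a0ffc4e10004e0fe4241008430ff02b10144e10184e102037102c4e6ffffff0fc04c0fb42315ac6b1728701d989011005216f8700fd44d0fd84d0fd04d0fcc4d10f85217407110e4520fe0310fc84ceffffff0f9c230fbc4d1088251080501d688f12f05d16886f0fa44c0fa84c19207a12d05d11b85519087a12c85d0fb0290fc44dfffffff1d84901d648f1d408e1d388d0f842312145613c06013a4601d148c17fc731178540f94280f984b11f05611e8560f8c4bbffffff10ec5212e85d0f7c33100c4e1204560f684a0ff44e0f6c4a0f704a0f54360f78230f5c270f604a0f644a0f44230f4c4a1ffffff0ef4200f00320f3c470f34211ce88b0f30320f10470f183e135c5f0f243e13805f1070500f203e13645f1474670f082efffffff14e8691cd48b1ca08a1c80890eb82013e4610ecc460ef0281404620ed43d1c30881adc820ed8480ee82c0ee02c0ec42cbffffff0e601f0e6c400eb0210f40491c0c870eac400f0c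490e7c290e843b0e98290ea03b162c6d0e94290e8c3b18f87a0e743cfffffff1a48801bf8871bcc861bb4850e2c1f1b64840ec8480e5c3d1b14830e402815e86c17f4730e44460e543a0e4c3a0e383abffffff0df0440de41e10bc5116786e0e04450e28450e0c450e10450e14450e08450e00450dfc45159c6b0e24260e1c220df844effffff0da81e0dec4514946719507a0db0440de0440db4440db8440dbc4415486a0dd8250dd42115346a0dcc250dc4210df445fffffff112c53148c670d6c420d601e1ac4820da0430d74420d8c430d78430d883710044e0d94200d80430d7c430d9c240da443cffffff17787119387a0d201e0d68431804730d44420d70430d2c420d38420d34230d50360d4c1f0d28420d3c420d5c360d4042dffffff133c5f0d1c2b0cd4400cc81d1a808113845f0ce0310d042e0ce8320cfc410cd8410d143f0cf82e0cf0321708700d0c3ec)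
  (L
  0xffffff2508be24c8bd2488bc2454bb13bc371c708813c44b13a84b2420ba1ad482139c2c13b43d13ac601c44881c348813c8605ffffff13342b134041138c5513943423ecb913884113505513582d13604913742d137c4916d46f13702d13684919d87f13483ffffffff1a8c8123d8b923a4b82384b712f82b1b4483130c5413303a1b788413142c1b00821c508813185e13283d13203d13043dbffffff12ec4a12bc52155c6a1a307f20749e12f44c19f07f12d85d12dc5d161c6d12d44c12b02916106d12cc4c12c45512e4524ffffff12a05b129428236cb62364b512a82a235cb419b87e14fc692120a212ac5c14d46814c0681a64801dac901ea4961f6c9aeffffff128428129c5c234cb32344b2129029233cb119947d1cf88b2100a11c28871d7c8f208c9e1c1c8720849e1d708f14ac68fffffff2320b02318af127c591270282310ae20dca019607b22dcad1cbc8a2290ac1bd88620509d1f3c9912805a20449d20e4a0cffffff2280ab2278aa12682812785a2270a920ac9f19787c20a49f2228a71ff09c2268a820049c1ef8981f0c982238a82210a7dffffff21d0a621a0a52168a4212ca3126457123028182c7413d4611244541820741d1c8c125c57125058124c57125458123c57affffff210ca220fca120c4a020a09f1260581228541b3c8313fc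621218281b28831fb09b125858122057124858122c571238587ffffff1e909620609e20249d1fe49c12084a12104b1c68881c3c881fa89b15cc6c11e02812005411f85611f44b11ec4b120c565ffffff118027118c3111d83413905f1f749a11d431134c5f119c3b11a42911c03b11c82911bc4c11b43b11ac2912c05d11942afffffff14b4681f609a1f1c991ef49811442712245713085e11742c12405811583a117c4b11fc56115c54116c28116428115028bffffff146c671130431110521104261ec097113c51173871112053111853111c5311145311345117107017a07211282e148467cffffff12b85d10f04a10c426110c531e8c9610fc4d17947210cc5210d45210d05210d85210f44d16686e10e84d10e02a12e05ddffffff109850108c2416706e10c0451e6c9511405316506e10ac5110b05110a85110a45111385317a87217187010b83210a050e))))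
  (N 144 (N 112 (L
  0xffffff16e46f16d837172c4d17246b251cbe17c07216fc4d17007017047016f47016f07017c872171453171c51170c4116ec6feffffff16803716e07016c06d16c83824ccbd1a287f168c4c16906f16946f16b06716b85016d05f16ac6716a450169c3e16e870fffffff163c6d163036167c451674512a64df17607116545116586e165c6e164c6e16486e176871166c5217547116644016446deffffff15f03616386e16203816c46f2a04de19487a15fc5016006d16046d16185d19187a16284716145d19007a160c3b16406efffffff2a50df2a00de22c8ac2260a815b8361b088215c84f15e44f29ccdd15d05615ec4615d83a15dc6c17e87317e07315c06cbffffff156c6a15603317207015b04d15806b15b46b15886b158c6b15906b15846b157c6b15786b15a04515a83915983515746aeffffff150c3315686b1a207f15585d15146a15546a15186a151c6a15206a154444154c3815403415384415303815283415706bfffffff1cd88b14ec482998dc2950db14d8322930da1a508015005c2698c514f06915046614f86619c07e2548be1e789514e465bffffff1f649a14b85428f0d928c8d814a43128a8d71a948114cc6621fca614bc6814d05c14c45c18e0791eac961da49014b05bbffffff14904314705319407a149844277cce14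a05019107a147c6714806716b46f19f87f14642d16a86f19e07f1478491488534ffffff14546514482c2894d6288cd5145c2e2884d418d87914c86825fcc214606615086914f4691aa8812828d31ed8971ce08beffffff14382c1450662818d22810d114442d2808d018b4781f7c9a25d4c12410b927b8cf2768ce2404b924ecbd1e3c9414e069fffffff2754cd274ccc14306314242c2744cb25b4c01880762180a41f30992728ca23b0b82708ca1cc88a14346424b0bc25bcc0cffffff26f0c926e8c8141c2c142c6426dcc72580bf1898772560bf215ca32460bb26d4c626c0c61c8c891c988926a4c62148a3dffffff266cc5264cc42304ad2230a71ba88413ec2c185075140057140848185c752608c31ba08414146214106114186213f861affffff25e0c225c8c1258cc02554bf18687513e8481b888413d85813cc2c1b94842430ba18707513dc61140c6213e06113f4627)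
  (N 128 (L
  0xffffff1bfc871a4c4633410e33010d1a384032d10c1a54691a707e32810b1a58801a74791a60791a685c2acce02a80df1a4478bffffff1a1c4e19d4721a345d1a246a27eccf1a2c6f19f45d1a087f1a0c7f1a045019fc6719c83e19ec5019e46719dc5f1a14724ffffff19a87d199c3d324d0a32290919b03f32110819bc5c1a6c802de4ec19b47e1abc811aa08119c4691ee8972860d323e4b9effffff19843d19a47e31f90731e90619903e31d10519985b1c14872d94eb1d0c8b279cce27dccf1d008b1e449424e4bd1a8481fffffff31a50431950319747b19683d318502317501197c593135011be0863121001cac8a30dd0023ccb819807c1e14932d6ceacffffff30b0ff309cfe19583d19707c3088fd3038fb19645a2d10e93030fb1de0923080fc306cfc2390b7239cb73044fc3000fbdffffff193c4218f4711954441944672bece4194c6d19146719287a192c7a19244c191c6d18e83b190c4c19046d18fc471934714ffffff18c87818bc3a2fd0fa2fa8f918d03c2f90f818dc661ab0812cf0e818d4791a78801a5c8018e4682a90df2ac4e01c0487effffff18a43a18c4792f78f72f68f618b03b2f50f518b86523fcb92cb8e71fa09a2a48de2c1ce41f8c9a2c0ce42a1cde1a4080fffffff2f18f42f04f318947618883a2ef4f22ee0f1189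c632ea0f123c0b81d508e1f28992bcce31bec8618a0772bbce32c9ce6cffffff2e68f02e58ef18783a1890772e48ee2e2ced1884642c44e52e40ed2b40e21d588d2b60e21bb8851bc4851f508d2e00eddffffff2dc0ec2d80eb2d3cea2d04e9186c6118403a1854621b1883184c3d1860621dc0911874611858751b80841864751b6884affffff2cd4e82cace72c6ce62c38e51b588318383d1830581b708418183a1824582af8e11b50831828741b3483183c741b20837ffffff2aa0e02bd8e42b84e32b2ce218084218104f1acc821af8822ae8e118004b17d83a17f84617f07317ec6c17e46c180c735ffffff19d07f17d44e178c711780392878d317c47017985217b472179c7217b07217907217cc7017ac5117a45317bc3f1a107fcffffff18f07a177c421730391788722a9ce017646e173c53174871175071174c71175c71176c6e17444d17586e17743c19307ad)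
  (L
  0xffffff1d8c8f1d804b2f44b03605181d9c4d3ef5372528be2530be3c352b1da0901eb8961e9c962abce01db05c1da8681d948feffffff1d604b1d88903ea9363e69351d6c4c3e593424d4bd24dcbd3bf52a2c28e41d785b1f949a2c14e41f849a1d745b1d9090fffffff2914b63e1d331d488d1d3c4b3de53220588e2458bb3d9531249cbc1d54772b90e31f589920349d1d4c8e1f44993d5930cffffff33390d3d192f1d344b1d448e3cd92e200c8d2494bc3881283c852d1f00981d5c761f14981fe89c1ffc9c1f4c763c492cdffffff3c112b3be92a3b9529387d281d308c1fc49b1d288c2424ba1d104b2af0e11d20581fd49b1d248c1fbc9b1d2c8c1d188c7ffffff1cd0481cdc69384d273841261cec493811251cf4871cfc5b2660c41d087d2500bd1e50941d047d27cccf2774ce1ce466fffffff37b5243785231ca8891c9c48376d2222e8ad1cb88520d4a01cc05a1e0c931cb07c1e1c931ccc641cc48a30e10022e0adcffffff3719213705201c7c481ca48a36e91f2214a71c8886221ca720b89f3050fc1df4921de8921c90631c94631e249220ec9fdffffff2870d327fccf310d003074fc1c644e1c74601c6c561c40562624c31c5c4f1c2c481c545e1c4c881c48601c38601c78885ffffff1bf4461c008036c11e36b91d1c104736991c1cf08b1c18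7d3519141c245b2c2ce42a40de1c205b2a24de2c04e41c0879fffffff36491b36251a1bd4851bc8463615192d64ea1c84892d5cea1be47c203c9d1bdc5a2294ac1bf0771be88622c0ac314101cffffff35bd1835b5171bb0461bd086359d162d18e91cb48a301cfb2d34e92244a820189c224ca81bbc761bc07620109c2d2ce9dffffff33b90f3545152ed8f12e34ed1bac621b60461b8c611b74741b7c5e1b986134b9131ba4621b90841b84751b9c841b6c75affffff32a90b34ed14316d013024fb1b5c741b485e1b40571b1c751b10461b2c5729e4dd1b54741b30831b38741b4c831b24747ffffff1ec49727acce2730ca26c8c61ac0431b0c6c1ad0731afc7334a1131ad8601b045e1ae0481ae4821af44f1aec4f1ac882bffffff23dcb91a905e344d123411111a7c4133e1101a98681ab47933910f1a9c811ab87e1aa47e1aac661e80952538be1a887db)))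
  (N 160 (L
  0xffffff48055a47c95920cc9f20c05742d14520e05a3014fb20d88a22f0ad41b94131510120f4a02178a420d0a03bbd2920e85acffffff38c119478d58209c5720c8a038ed1a20b05931390120a85920b48945c95240713d20bc9f2130a32144a3401d3c20f089dffffff205c562068963e49333d512f20785d47655727f4cf27c4cf4631532a38de20989a20905b2a2cde20885b20809a207096fffffff2920d93edd36202c9c202056470d56204c9d3048fc46a55531050020408622acac20545a20388e20309d20485a3bc529cffffff2fc0f93e89351fe05620289d465d5420009c30f50045c1523c752c1ff459201c852008591fec8d1ff88d2014853c912ddffffff43bd494615533d813045a5521fdc9b1fc88c1fcc9b2610c31fa45629dcdd1fb4571fd88c1fb89b1fc08c1fd09b1fac9b7ffffff1f5c541f68683accaf3adcaa1f785545755123f4b91f806521b4a51f9c7820949e1f988f1f90781f888f207c9e1f705cfffffff44354b3ae8b31f24981f1854452d502188a42388b725acc01f34642bb4e31f2c771f548e1f405a1f38991f488e2190a4cffffff44c54f3b80b21ef0541f209944854e2150a323b8b82138a32568bf1f048d2b50e21f108d1efc591f08592b68e22578bfdffffff276cce1ec88231c904375d211ebc53446d4d2aa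8e02ad4e0443d4c1ecc971ee0951ed4952540be1eec7e1edc6627a4cebffffff20649e1e945643ed4b2e88f01e885243dd4a2868d32834d343a5491e98961eb4901ea0902a88df1eb0681ea85c206c9ebffffff1e60941e544f4351482990c91e70514331472a70df2a78df3ffd3b1e74951ee4971ed0972858d31e84811e7c691e6894effffff1e2c4f1e5c9542f946429d451e38504285442a0cde2a14de3fad3a27e4cf2414b91e4c8b27d4cf1e487d1e40651e6495fffffff349912424d431e04921df84f41f54222d0ac223ca8418d4122a4ac1e108a30fd001e208a2718ca1e08931e187c413940cffffff2964d540f53f1dd84f1e009340b13e2254a8229cac3f1938404d3d1de47b1df0891dec8926b0c626b8c61e288940113cdffffff3fd93b3fa13a3f5d393f15381dd4912b0ce11dcc9129d0dd1db44f262cc31dc4752444ba1dc89134c5131dd0911dbc917)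
  (N 176 (L
  0xffffff2328af231c5a360d182f48904df5714ea17430bcff4db56f37dd2444154b232cb02924d933690e367d1b2330b047cd59effffff23145a2324b03b28aa3ac89a40a93d4e917330a0fe4229423791234e1d72363d1a2334af4d656e36311a3ec53648115afffffff4dd17140513d3ab0a64a8964230c5a4dc970308cfd3a14d83aa8d5491d5f492d5f47295645495047415647395642e945bffffff4d956f42014222fca723086239c11222ec8a2d08e922d85a22f4a03f75392d48ea2d74ea25a4c02300ad3dd13122e48a8ffffff2ff8fa4d296e22b8a822cc6c49595f22d49322a0923f7d3922a893228c5a22b09d2298862bace322bcac22c48649c5606ffffff2288aa227c592e90e036851b3960a74d116d31b50438fd194b7d6644f14f44e14f28e4d8330d0d2b78b535e1183950a9effffff2274592284ab3ad89a3b24af4b6d664d016c31990347a95839a0a93d3d2f4ca96b35f9173e6d354c15683ea1354b6566fffffff39aca74b5d663a2cc1424542226c594ca16a31890239412039a4aa46715435a91646795444a14e4c49694bbd673954abbffffff28e0d84bf968225c6c22b4ac4b916722589222409340593d3f45382248852264592250852b38e22b4ce22234594ae5651ffffff4b596639a8a9222c6222f8ad3964ab2218892d5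0ea2220892224593c612c3f29382d20e92558bf2574bf4ae165220c590ffffff21d8a521cc584a85643ab4ae21f4a24a55632ce8e825f4c222006821f8a621eca221e4a62cf8e843b5492208a221e0a1effffff219c5821d4a647f55947c15821b0a14a2d622cb0e725ccc121b89a2ccce746515321c8a12cc0e73bfd2a21c0a121a8a2fffffff49d96148d95d2170a32164583af906218c992c3ce52184642598c04969602c78e62198a4217ca02174a43d6d30219499cffffff47195648915c212858216ca43ee5362154982c80e6213c9821606338892840313c2158a321349f21409f40993d214c63dffffff2114a12108573970c749015f21f0a648e15e32b10b2690c521245c211ca221e8a62118a232a10b3c3d2b2204a621a4a5effffff20f8572110a248ad5d48715c21aca548595b3509142658c421045b353d143c092a21c4a535291446415321bca521dca6f)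
  (L
  0xffffff56099639e4cb2594bf2588613980cd25b8642e14ed25b099259ca44159402ebcf12ee8f125a8ad25a0c046f95525c064cffffff4f4d7c3cdd2e2550612590c0391d0d2584632ea4f1256463256c983c992d4afd652e24ed255ca72570a73f3938257c98dffffff2510bd25046038012430d4ff252070552d95252c9025349052d18e2524be2848d32850d3254497254c69253c812518bdeffffff24c460250cbe54b59454499324d06f54219224d88f24e08f52698d2794ce24fc8b24f4b9278cce24f06524e87d2514befffffff29bcdc53c1912490bb24846053619024c0bc24988d3bb52924a08e24acb82720ca24bcb830ed0024a4bc24b46446b155cffffff32450952fd8f245060248cbc4ad1642478bb245c8e3c892d38a128246463247cb7246cb73058fc3060fc2470b745e952dffffff52a58e52558d3dc9313cbd2d244cba2638c3243cba24288c241c6034b1132434612448912438ba2618c32440ba242cba7ffffff23d45e23e0813ad5033b2cfe23f05f52258c23f89a240078357115240c6524189424f8bd2408652784ce27bccf23e87efffffff439d483b750723acb723a05e51e58b2c94e623bc982c8ce623c47724a8bc23b46424b8bc23d07c23c8b8270cca2eacf1cffffff51818a3b410623805e23a8b849f1612c4ce5238c992e1c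ed2c64e526a8c62480bb2468bb23947b23987b2474bb2c58e5dffffff3e213329188e2374b523685c512d89511d88322d0950e98729a8dc2908d92378b644214b36751b33610e237cb650b586cffffff4cad6b2b74e223605c2370b63f4d38509d85325d0a49155f50558428ccd828d4d844d94f35e9182b7cab33310d4c6569dffffff504583503d824ead744d1d6d500d8123585c321508293cda48e55e2944da4a69634ff98032ed0c3f0137478157457951affffff3aec99442d4b2354b223485b3af4e54fe97f31ed063ac0cb3869274d796e36cd1e3b68b34e557236dd1e3e293349e561cffffff3b849844c94f23405b2350b34fa17e4f917d32050748755c3d012e3e75354c39683b8cef3d352f4cbd6b3d252f4f497cdffffff4f397b4f317a4f19794f01784ef17723385b31d505381d25485d5b31dd054ecd764ebd7536ad1c4771573f093728acd7a)))))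
  (N 288 (N 240 (N 208 (L
  0xffffff5ac9af58559e5ab1ae5aa1ad5a91ac2804652f54f54581515699982f5cf55a65ab5a55aa52418c542d924345472934daaffffff280088282cd354199153598f27f07f5a0da927f89e27c89e56699727e89427b46527e07d27d89427d08b27c0b9283cd35ffffff27b08227709742754341313f27806759dda82bf4e42bfce45975a72798bd27a07d2764652790bd2788b927788b27a8974ffffff275ccc27506451d58a2e98d33984c05955a62e74f04a096143fd4b37cd242760cd29c0dc34751243694843814839d8cbeffffff2748642758cd3b15263b108b5621965941a52e5cef48c15d3b0cb34269433b09073b7d074305463b0507431546561596fffffff39e0c0560d963d112e3a20c42740645931a42e4cee3ac4b348b95d58eda353a59058f5a3377922539590538d9039dccdbffffff32790a432146273cc627348258d1a32bc4e32b30e24979602ba0e3272c642724bc270464271c932714ca2710b83f8d394ffffff26f8c826ec63298c954355485889a058c1a22f28f44f5d7c475d56373521372d212980db341d11297cd526fcc948855ceffffff26e46326f4c93b648b3b60cc3bd92958a9a12f08f33ced2e487d5c54659341293f2700c853398f42e14542d945471156fffffff586da03bd12949055f3974a22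6d863585d9f2ef8f23908dc50ed874aa56426e0c748195a36f51f40d93e48355a3ecd36bffffff2970db42c94526cc822738ca48255a2b58e22b98e34b356540453c26acb726d06326c46326b49226bc9226a06340613d1ffffff2674c426686251098750818433d50f58259e2ddcec2694a2269c69268cc52688c22680c52df4ec52e98e33c90f267cc1effffff2648622670c53a24cb3d092e35591557f59d2d8ceb265ca126648b2db8eb528d8d3589152da4eb5659973579152654c2fffffff56f59956819746e9553c7d2c2640c3263cba2634c326149b26288826309126046234dd132620c3261cba260cc32644c35ffffff25e8c125dc6157999c573d9b2dd0ec570d9a33c10f25f8a626006625f0c22684c525ecc233b10f56ad992decec2650c4effffff25c46125e4c2423d423a28a92d84eb568d9835611525d0a525d8653595155645972daceb35811552798d2d9ceb2678c5f)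
  (N 224 (L
  0xffffff2bdce42aa47336911b2e8cab2a9871614dcd2aac972ad89760f5cc2ab0e02adcdf2ab8df2ac0902ad0802ac8792be4e4bffffff2a58de2a4c6c2f40f445254f2a686e60a5cb2a74952a7c956039c92a6cdf2ae0e02ab4e02a8c962a94792a84802a60deeffffff29fc6c2a54df4e75724ced6b2a086d605dca2a10942a18945fd1c82a349e2a44782a3c872a309e2a28872a20782a5cdffffffff600dc95fbdc841d54140913d29f8dd34cd1329f0dd29d49129c86c29e09b29e8832b1ce129ecdd2b04e129f4dd29d8dd7ffffff53c59129b8bc29a0db2994693920f15f95c733050d390cc729acb629b4d629a4dc29c4cd31bd0432650a326d0a51e98bcffffff42f145296cc6294c69299cdc47d5595f71c633510e506184494d5f2958d52960d52984c930c8ff3751212988db4ddd71dffffff56a5985f21c55ef9c45ee9c35ea9c2292c6932e50c2940b458399e2948b457219a5e75c1321d085541954291442938d0affffff3eed36291c9d28f8d828ec6848a55c5e55c034151157c19c2904d6290cb628fcd92928b02f34f42fe8fa2910d95879a0cffffff4bfd6828dca828c46828f4d939bce95e3dbf345d123a10ae57519b28d0b528d8b528e8ab2e7cf045114f2fc4f939b516dffffff55b15b55bd775e15be5e05bd55e17b28a46833f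51028b8d44a616328c0d448ed5e5dd1bc2f9cf843e14a3e5d3428b0b1affffff551594312d00289cd52890663ddd315db9bb2facf94aad642900d929b0dc28a0d637c124437148346d123485125d41bacffffff40f93f2968922888662898d65cddb95cbdb82fe0fa57419b3aacae2954db295cdb37252151c18a2978c92974d55c71b7dffffff581d9d5c21b65969a658c5a25be9b52880662f94f828b4d757199a28bcd758419e5bd5b433fd105ba1b35a01a8381525affffff2830cf2874882e94cd51dd8a287c725b8db3286c9628389656b1992844d3284cbe2854be285c9528246628647e2840cf2ffffff3a9c8a3a99242820d12814655b31b25b19b12f6cf647dd593a94af430d463a91033a8d034261433a89034259434da16fcffffff3a74893a7121280c65281cd23a6d015af9b02f84f73a68a947b15853458f42bd453a64d154559341093f41013f3a6119d)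
  (L
  0xffffff2e70ef2e64762e849643f14b397ced67e9e02e78cd4561506751dd35d91835d11833250d2e80d82fb4f945014f39c8eeeffffff2e54762e6cf03b20873b1d1e6731dd67b5df2e60cc62e9d13a18ee4c2d683e7d353b88b24cc56b3d2d2f4cb56b6719ddfffffff39d0ed6711dd3abceb53b9902e44766785de2e50cb3ae1063a1cef4c6d6944a94e4c7d6935a1164691543ce52e39ccf0bffffff670ddd39d4ee2e38842eccf13978f02e30762e18c02e20b72e3c764af5653ca12d2e28bf2e10e92e08e93c592c2dfc760ffffff2dc8eb2dbc755b85b26695dc2dd4c2664ddb2de0c532850b2de87e2dd8ec33a90f2dccec2df8c5444d4c2df0c2355115effffff2d7c752dc4ec53b1903ab8ee2d88c165fdda2d90c43511142d987d2db4c45991a72db0c12da8c43fb53a2da0c1339d0ffffffff6591d93999022d44e92d3875396d042d68862d54a72d608631490146c5552d4cad2d78ad2ec4f12d58ea4151402d707ccffffff6539d84b9d672d00752d40ea39b8d82d1c852d0cad2d147b2d30853f21383c692c2d24a72e0ced2e04ed3cc52d2d2885dffffff2cdce72cd0743aa4fd3e0d3232c50b6501d72ceca633950f2cf4792ce4e832990b2ce0e82cfca66049c932b90b34f914effffff2ca8742cd8e8648dd66431d535011463f9d42cb4a53569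152cbc782cc8a55ff5c83531142cc4a561c9ce352114328d0bfffffff638dd36329d22c74e52c687454a5932c98b82c84a32c90b82eb4f13bad292c7ca42ca4e63159012c88e641e1412ca077cffffff45395062c5d12c34742c70e63af0b32c50b72c40a42c48762c60b740253c3899282c5ce5300cfb3004fb45f9522c54b7dffffff2bd4732be0e04d856e4c41682bf07a626dd02bf8ce2c00ce61b9ce2c248f2c30872c20782c188f2c10782c08872be8e0fffffff33890e4e85722b8ce22b807361fdcf2bc8ca2b9cc64185402ba4ca2bb8992b948e2bd0772bb0ac2ba8e32bc07741a141cffffff2b70b54cf56b2b28732b88e34c95692b5cc62b34ca40153c4b3d652b44762b54982b64762b3ca82b48a82b6c983f5538dffffff6125cc6195ce49b560403d3c2b24e12b10912b14e134a5132ae4732af48c2afc742b20dd2b00e12b08dd2b18e12aece17)))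
  (N 256 (L
  0xffffff3128d65525943118fc3110885d5dba31250030f89c3d893031089d311c7c31009330d87c30f0bc30e90030e48a3da1314ffffff30b8fe30ac7b30d0be3809246c51f26cd1f430c0b0655dd86251cf51a58a51958a34351130ccdb32350930c4ff6465d5effffff30987b30b4ff3b30b93b350341ed416ca1f330a4af4bc5676455d542b14553518f30a8fe41113f5475935489936201cffffffff6c2df24191413e15323aa0e830847b6c0df13090ae3a0d126b7def40b53e3094fd63a1d34a11614a9d6463cdd34e7d72bffffff34451154959330788831150063add33068fc304c9d3c512c45d152305489307c7b30707b305cbb3064bb30407b38b5281ffffff6209cf6475d53028833161014e3d7230347b3018a0302085302c7b40693d45e152303cfb3010e53008e538ad282ffc7b0ffffff4d2d6e2ff4ac2fd8f92fcc795cb5b76bd5f02fe4d56b61ef34651233710e2fdcfa36551b440d4b2fecd92ff0fa5ce1b9cffffff3e91352fbc9c2fa4792fd4fa3cd12d6b29ee2fb0d63df1324fd57e33150d331d0d35c91845094f2fb8f02fc8d8466154dffffff663dda5c15aa6965e56805e06ad1ed2f8c792f98d433ed106505d73405106a81ec6a55eb2fa0d760b9cb62a1d0369d1caffffff3a54863a511b2f80f62f74783a4c9f6a25ea2f8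8d13a49023a45033e3d333a40af3a3cf73eb5363a38af4d556e3a351fcffffff3a84853a81182f64782f7cf750918469f5e92f70d26445d54be9674cdd6b3d492f3a7caa4c1d683e99354c0d686545d8dffffff5ee1c26685db69bde86995e75f35c52f4c782f58d052318c63fdd42f60d06971e65c69b64591516281d060d9cb32d50caffffff2f20f32f1477451d4f2f3cdf68b9e36941e52f2cc96841e143614836611b2f24f4337d0e2f38d944054b2f30f4632dd2effffff2f00772f1cf43b58ef3b548738d1286909e42f0cc8539d903b51073ebd363b4cb32f10f33e31333b48b34e65726399d3fffffff6895e338bd2839150b40e53e2ef077687de22efcc738d90d38cd093de9323df9326221cf3619196239cf6231cf54ad93bffffff6811e1536d902ed0ed2edc843924dc2ee4772ea8bf2e9c772eb8e63db5312ec0c02eecc02ec8ea2ed4f13f85392eb0b88)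
  (N 272 (L
  0xffffff732e0e6e61fa72e60d72be0c6ee1fd33dc8133f8d733f0f86fde013408f86669db727a0b3400d4433d47543d9233e905affffff35491533bc846bb1ef4fe17e33d8c56ff60133c4c23398e8338c8133a50f33acec33d10f33b4c240053b33ccc533a0eb7ffffff4e6d723384e333490d333c806485d572360a3354db5b65b2335d0a3374fa334d0e3380f4336cb03364b633790e6c39f2cffffff3d1d2f33348d32fc8033450e3918bf71fe093308dc38dcf266c1dc3318f93320f93328f03310ab35f118332cb544894edffffff7196085aedac715607712e065ae9af32cc8032e8da32e1086a95ec32f908651dd770ea0532f0b46159cd6089ca32d8f5affffff34f11432ac8340ed3e3910f232c8e86aadec32b4a23288ec327c8032950b329ce832c10b32a4a26115cc32bce83290e77ffffff4329463274ca32550932487e3f993970b2043260b540cd3e33590e347d1232590a43894837ed243268dc3270dc58d5a3cffffff53018f3240bb32247e32510a50e186707a033230b666b1dc38c8f2342511342d11518d8a3749213238ff323d09513189dffffff6429d46dd9f86d91f76ce5f4701a02320c7e3218b432dd0c6651db32f50c6fba016f8e003220da44714d5a39a952298caffffff3b70b843954832010631f47d57d99c6f55ff320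8b26345d236d51e54e9943859273b78cc53ed9138712753dd91681de1cffffff3b3cb751858a31e47d31fd073afca46f25fe31f0b33ae4ee62f1d1411d3f547d933b6d0642a14553318f53298f453150dffffff6ec5fd6531d76e91fc6e69fb6e21fa31cc7d31d8b136a51c6601da31e0b16dedf96d9df8382d2542894455619533e510affffff31ad0331a07c37652131c4973968ea6d65f731b8ab39491f36691b43794831b104348d1231c0dc37f52437e524398902effffff31907c31a9043b38fe3ad0b965b1d96d25f6319caa64c9d636291a54059137a52337ad2354e19437992354f994659dd9fffffff399cea6595d94be16739e91531807c6cf5f5318ca939391a64a9d65d8dba4231425d9dba52018b422142421942398d04bffffff38f51f64f9d63164fb317083392d2031787c313c9f31307c314cea3d75303154a0317d01315ce631690149ad603144868)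
  (L
  0x3a58d1370089371d21ffffff399123392901ffffff370d1a3944a9ffffffffffffffffff371120ffffffffffffffffff38e519fffffff64e9d638f1013959196131cc36e48975321636f119394d0465c9d963b5d336fd1f40bd3e36f8c7483d5a40c53e39351ab3b44f3ffffffffffff36c91d36bc87ffffffffffff384526ffffff36d907ffffff36d0b3ffffffffffff36e0b3ffffffffffffc3b18efffffffffffff36b48736c51effffffffffff386127ffffffffffffffffffffffffffffffffffffffffffffffffffffffdffffff5c11b5700e0174fa1574da145c2db636948738252536a905736a0e383525749e135f69c536b0b16069ca6179cd36a0f8affffff36511a3644863688ab368ce047a158718a07373d2165c1d9366d043664f4365d1b3658fa3678b63680b036711b64d5d6e3a30f7362086364d1b39f517ffffff38e89fffffff370920393d02362d03ffffff3638af36411affffff3634afffffff39311ffffffff47915838c49f611dcc395d1f36108674561236ed1f38f8ab390121472156475156493d5f361cf249255f49455f38e120bffffff35c51735b8853600903608b04b0d6571420637d5246241cf6565d835dcf035d4f035ccf935ecb535f50d35e4ab4b9567e3a5cf635b08535c118ffffff39f11affffffffffff378923ffff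ffffffffffffffffffff35fcaafffffffffffffffffffffffffffffff4b2d655059843fd13a3a052235988574161137712242a9454cd56b4bad6735aca94bb56735a4ee3cf52e46895439b0d8bffffff354084354d0f39ed024bf167355cc471f6083564c1356ce73574b93590c13fc13a358cc43584c159a1a7357cc43554ecfffffff34e88334f50b637dd26321d13504e7738e0e350ca13514eb351c873538a161e9ce3534e7352ca15fd9c83524e734fce8fffffff44554c5979a74171404b516534e51334d0dd34d51334a8e1349c8234b4ba34bc8434e0c334c11334c89134d91334ad137ffffff42514334949334551134488139c4ad73ce103460d83a08fd3468fa34810a3459123491043478cd3470d63488d639f922cffffff549d933440fc340c813451126335d273960f3418d94fcd7e3e05323429093431093438ff3420c951c98a343d1168a1e3d))))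
  (N 336 (N 304 (L
  0xffffff4ad96450c18645a9523d849b53118f3d613045b1523d8d0046bd553d790141c1413d7d303d69293d5d303d70a43d548e0ffffff3d148d3d210d3d4c9e3e51334f897c74ee1453cd9168d1e3469d543d40aa3d44f64ccd6b3d38b23d30ef3d28b24fa57efffffff3ce0bf4f557c3d04c43d0ccb3cd48d76aa1c5375903cf0c83cfcb244914e4c756944994e4681543cf9163ce8ee44d14fbffffff66fddc4669543cc0ba3dbd313cccf93cb92d3d99313c8cbb3c808d3c9cbf3ca4ed4b05653cad2c3cb52c3cc8e93c949c7ffffff4fb57e44b54e3c78c346dd5544e94f3c4d2c46a9553c54fc3c709c3c64a73c6ce93f31383ca92d3cb12d3c5ced3c448d0ffffff3c192a3c0c8c48495a6265cf3c292b766e1b3c312b52c98e3c38903c2d2b43ad493c252b610dcc3c40a243c9493c212aeffffff3be48c3c152b50d5865179893bed2a4ee5763bf12a52618d3bf88f61e5ce3c04a146495361d1ce3c00a54639533c1d2bfffffff3bccc75871a03b9d283b908c3bd4c83bdd293ba5283bb8bc3dad313bb0e64991603be1293d65303ba9293bc0a03bc89dcffffff38b8f26899e338788c3b992938d4f33891283ba12938848d389cbb388ca33894e538a52845b95245dd5238a8fb38b0fcd3b00ccffffffffffff38552638488bffffffff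ffff38651dffffff386cb3ffffff385d07ffffffffffff387507ffffffffffffc3b5cc8ffffffffffff383c8b385127ffffffffffffffffffffffffffffffffffffffffffffffffffffffffffffffffffffffffdffffff6ae5ed57359a762e1a75f6195a59aa380c8b38291c3820b158099d38391c75b2185a95ac3831055a19a944794d3818d4affffff37bd2337b08a3804ff37fcbe417d405f15c437d918482d5a37e0b037d0cd37c92437c4d637f10a37f90437e90441f942e3a78d237808a37b924399520ffffffffffffffffff378d17ffffff3794afffffff37a10337a903ffffff379d03fffffffffffffffffff413d405b3db23a01163fc93a37688a7572173775164e2d725d2db94209425d99ba421142377ccb5d55ba5d85ba39fd12bffffff37212037148937589737610464f1d65eedc337411b4b75663905193738c93730c93728d5374d093754db374521479958e)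
  (N 320 (L
  0xffffff5b45b24141224b456541751341792449bd604aed654180e3498160415cc0416531416d31414d394145404154ea4134930ffffff40f09240fcd5412cce427d434989605aa5ad4d456e4c5d694e05714121064124c841193f4114fe410cd14104d149355ffffffff5cf1b949cd6040e0f240e90b40ac9278ce26490d5f40d10a5b79b240b8fd40d53e40c11f48515a40dcc740c91f4d356ebffffff4054ae4dd5714094dd41c94140a4af408d38419941405ca8404892406cfb40749f40a13d407d3c40853c409ca34064c67ffffff49615f5c7db74038e14999604d3d6e4b25654971604018e24040c64028e54034a3402d3c40793d40813d40209f400c920ffffff3fe13a3fd491686de14f7d7c3ff13b7892253ff93b6031c94000953ff53b44454c3fed3b56e19940090f52d98e3fe93aeffffff3f9c913fdd3b3fc5223fcd163fa53a784e243fa93a5fc9c83fb0945671973fbd1552818d5661973fb8eb52718d3fe53bfffffff6ba9ef58dda33f65383f58913f950a41a9413f6d383f80ac41b1413f78ad46cd5546f1554149403f71393f88f13f90cacffffff57859b4c55693f10913f61393f48b540893d3f69393f1c923f40a83f24e93f2ca73f352c4b15654b1d653f3cbf3f50e2dffffff556957781e2351218872220977da223ef090554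995553995767a1b5559957796217762206169cd3f04b43f0cb13efd34affffff3ed89d3ee8d93eb1353ea48f3ee0a377321f544d9352098b54d1943ec0f34d756e3ed5363eb8f74d5d6e3ec8af3ed0c7cffffff3e849c3e8cf93e648f3ead366705dc69b1e754c99451718944bd4e3e78b23e80ef4c25683e70aa3e94f63e9caa66d9dcdffffff77121e55754a4e95736a09e95001803e548f5435925425924ed97659f9a848655b5019816291d04589513e60d73ef937affffff3e188e3e24b63e4d2f3e449e460d524f257953198f5d75ba53d5913e40f74e45723e39333e34f34e5d723e2cb34abd64fffffff5141894605523e08e83e10fd3de08e76da1d4a95643df4f93e01113decf23dfcf245415047315645595045515053098fbffffff5101875d4dba3dc12d3dccba3dd8d63da9313d9d2d3d908e3db1293db8f141614041694046d5553dc5313dd4ad3da5008)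
  (L
  0xffffff62c9d1453ce54569494a25614528997baa304a01614564f051b58a6219cf6249cf454532454cae455d32455532453506bffffff44ccb244c0984520df4518f444ed2c5e09bd44fd484749564f657c44f4ab44e4ab44dcb5450cf94514d84504f044d52eeffffff44b12c4fad7e529d8d521d8b4480987b6a2f51f98b545d9344b93544952e44acee449d2e44a4a94bd5674c8d69448d0dbffffff609dca7b2a2e70de045f85c67a5e2a4468976161cd6151cd7a7e2b6171cd78b2257ac22c555195447508447d2559e1a8affffff59b1a744591365edd94b896644654c7a8a2b445d4c60f9cc44389744414c44493b44614c52e18e4450ec56e9995981a77ffffff4428b344309943f4f043e89662d9d15e31be51ad8a5631964400cd4418b043f94b4424b64410fa4408f4441d4b48cd5dcffffff55713477161e5e69c06b4dee778a2043d8965ba9b35b99b377b2215bb9b3768e1b77ee2260c9cb43e4d7459951476957affffff46195343c09b4a1d61456d5043d54977be2143c54956c19943a09643a94943b12b43d1496041c943b8a643cd2b4621537ffffff4391074398b84358c9434c9547055573220d44f94f63c5d34364f4437d04435d48438d0a4374d6436ccd4384cd536590cffffff62bdd07af22d740a105cd1b87aae2c432c9560c1cb60b1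cb789e2560d1cb7a6a2b7a362a5bb1b34341104348d0433944affffff431cca43250a43014542f4946bb9ef6eb5fc4ce56b5d1db94e35724310d254019153f5914308cc53e5914318cc6b75efcffffff42c4c642ecdb42989442fd4642cca0761a194e257242ad165c95b742b4fe42c0d142b94542a50642dcc842d4c842e4aedffffff7a1629618dcd6f81ff58b5a15bddb44280946071ca6061ca785a2447795771aa085bfdb55a29a9428d054294da433547affffff42489342551242793f4270ce4dad6f79de284c05686c69f24d4d6e426ccc54c1945509944264d254d994425cd25b35b2fffffff4204ad4d996f4240a94238c141f093799e274ba567422caf47e559420d2242350242152258fda3422502421d0241fd24bffffff4194fd6c31f241cd3d41d8dd41e8fe41ad39419d3d41889341b53941bca041c53041dd4149a16041d14141e4e641a4e38)))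
  (N 352 (L
  0xffffff49d13e5ce9b9499d3c49b8e1498d3f49c14049753c497cca4985404964a4499529496d6049a54149a96049b10149c8ac6ffffff5c75b7495d3c48fca24908c74954ac7faa3d49113e4918b54950db4920ae4930ae4941196229cf49291949491949393fdffffff55b95155f9817e36377492124a496248dca26aa5ec58319e48e8b458499e48f0d77f723c6a8dec76821b48f95b4a3162affffff48d4a449dd6148b55c48a8a1519d8a7f323b62e1d148c4cc48bccb6c59f2636dd250cd865d09b96359d248c95d48d14bcffffff488ca3489556486ca148b15d48a0d97eda3a633dd24878b24880c85151894ded714de57168e5e35c85b7489d5c4888c9dffffff56017755acd77e8a397e4a384a79634854a1735a0e58019d4860b16621da486934771e1e737a0e7c1e3148f55e4a5963affffff480d594800a0625dcf48452b4828c67dfa376211cf4831244dbd6f49f96148215a481cc7484d3e48411f4838c74814afeffffff47c4a048095a47f95847f0a547d8db7dae366435d547e0d247e9425d01b96499d65881a06c7df264b1d647ed5947d0b0fffffff47889f47951947bca547fd5947a51b7d5e3564a1d647acaa47b4d168c1e35ca9b75ca1b75159894e117147b958479d21fffffff782223556d374fed7f67d1df5dddbc47609e5a2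1a95a11a97c2e31477d444a416255797b6079ca4774b14784b4476d4aaffffff48995c471ca36051c963f1d347089d7d063463bdd3474d4f4758c9472519475519472cae4735324744ae473cae4714c8bffffff57ed9c51f18b46e12c46ecc347014846b95546ad2c46a09d46c13046c8ea46d13946f53946d93146e55546fcc046b4bc8ffffff466d2d66f5dc5651975da5ba46589c7cae335d6dba53218f46992f4674a94bcd67467ca946852e4694ee468d164664f9bffffff46109b461d4958a1a06901e34629537c4231462d5356499746349e5fedc84654a5464d2a5fe1c84644a1463d2a462549fffffff46013251398945a09b45ad3046093345f15245b53045c49c45d4fc45cc9f45e4fb45f55245bd2845d92845fce545ecbbdffffff55a98155b55e77561f7c5e324ec17545709a52398c4584d04a396252498c7c02314ef5774594f5458d34459d4a457cb4a)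
  (N 368 (L
  0xffffff827645857252850e516c21f184fa504dc4ae6c11f15e41bf5cc1b850a9855f7dc684f6507bce307d223458ada1762619affffff4d9d424d90ad6581d852f58e4db143849e4f6555d84db8b04dc15a5629964da96f5111875b55b265e1d95b5db24da4d2effffff4d24ac4d30fa4d89684d80e44d413c69e9e84d493f5915a34d51434d7cb34d71364d6d6e4d68af4d61364d58f74d393efffffff7da635828a464d20b44ea57482c2474d0cab6d79f7746212818a437d3a34844e4e84364d721a0950a1858202444d196aaffffff83fe4c798a1262b1d06a41ea83a64b4cfcaa6d39f67d6a354d096a83464a74321183264969a1e77c7a3282d648817a43affffff4cf8e24cb0b54cf0de4e4d72578d9b4f05784ce9465c8db74cd9164ce0f64ca4aa4cd12f4cc8ef4cc0b24cb8ef57699b5ffffff82a6477995c36e19f96d19f58292464c9ca96d01f55afdb04d056c6e7dfb4f1178827e467b7e2f824245714e064d156daffffff4c5938577d9b59a9a75929a34c98e282264558e5a34c613f4c51684c70ee4c792e4c80ee4c89674c44a94c914e4c68b52ffffff4bf4a84c00d84c3ce44d8d6e654dd87c82324c09434dfd714c4d694c30ef4c34b24c29354c20f64c18aa4c10f6506984fffffff4ba0e9653dd84bed154bdd024b8ca881c6444ba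9424bc8fe4be4f64bb1164bd1544bb9164c85694bd94e4bc0a94b9918bffffff4b60a94b54a74b854c65f5d94b70aa81764365b9d94b79214b80ab4f6d7c4f757c50898466a9dc50718466e9dc4b68aaeffffff5079844b31164b4d134b49404b11184b293c4af1404b38c64b40e24af8ed4b00bf4b092d4b19384b21384adca74ae8a81ffffff50b9864ad5304a8cae4a80a64accbb8126424a99324ab0d657b19c4aa8c74a91644ac96163d5d34aa0fd4ab9614ac133cffffff5594b155917b803e3e7d4a344a7d5b4a50a6650dd757119a4a64d757299a4a6cb480de416515d777aa214a75624a5d5baffffff5589825584b4809e4080523f4a4d5e4a28a56405d45691984a3d5171ba084a4557783223640dd44ed1764a71634a355eaffffff49e15d49d4a44a21504a194949f4b780023e4a05504a0ccd56399649fd5a49ed614ac5644a14fd63ddd34ab56449e8b3e)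
  (L
  0xffffff80e2417782208b966b8b5e6a5005345df9bc6fa2004ffd805df1bc5e81c180fa414ff4b470fe05776e2055c97b77de224ffffff8b4269804a3e67d9df4ff1578b16684fe4b36f39fe5935a45945a58abe676f71ff87325b751615690de481524280063eaffffff4fb14e4fb92c4fdd0f6b99ef4f9cb289fa6457a99c4fd1114fd8f966b9dc66d1dc6721dd4fc17c6769dd4fc97c4fa92fbffffff8a86667d56346091ca692de489f2644f8cb26f69ff7ee63a76be1c8a266582524587025a74de144f997889ce6484824eaffffff4f592e4f50bf4f813b6875e14f852f84724e6839e14f60c94f694f4f71664f796657719b4fbd7e57599b4fc57e4f44b20ffffff4f417a4f34b1896662859a5255dcd755ed756ef1fd6b05ed55d5775bf5b5783a23557d576afded55cd7555c58055e577e558d634f2cb14f3d7bfffffffffffffffffffffffffffffffffffffffffffffffffffffffffffffffffffffffffffffffffffffffffff873e5b7955884f21784f14b1895e624f29336e6dfb897e63764a1a6d09f56e9dfc894262691de4750e15802e3e812a42cffffff88fe617971c64efcb14f1d795791784f096b6ea5fc7e4e38742211877e5c4f0d6a88ba6067c9df4f957d885e5f880a5edffffff55c0d755fd5b85be53833a494eecb15031816e25fa5c3d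b655d97b6e2dfa87be5d4ef9515c4db650218177f62255e97bbffffff86c65977ce217de236875a5c7c4a314ee92a4ee17675b6184edd346df9f94ec8b186d65974b2134ed562779a2176721b5ffffff55a0b4559d6287265b86f65a4ec55155f17b6db9f85f45c55029816dc1f886c2594eb8b15f55c555d17b7766205011814ffffff7df2368682584ea96d4eb0b44eb5744e9cb06cd5f484aa4f5f0dc4862e575f05c486125672520a717a077dda367db236affffff85f6557e42376a11e94e993485d6544e8caf6ca5f379aa275b1db17596176d49f685a25369d9e86a29ea58619f7dfe37affffff4e88e34e710e4e516b4e78de4e40fb751e154e29454e31224e39464e18af4e49334e21724e58b34e61334e68f34e80fd6ffffff4dd93d4dccae61f5ce6c99f24df8b080763f6c61f24e01684e093f630dd14df15c4de95c643dd54e15584e0d714de0dbe)))))))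
  Tr.N Tr.L
noncomputable def t1 : Tr := beta% (fun (N : Nat → Tr → Tr → Tr) (L : Nat → Tr) => (N 576 (N 480 (N 432 (N 400
  (L
  0xffffff5370f16815e153b4ee53aceb535cbc8e6e7453792e53a0f3634dd253818b53a8cb53898b5d65ba5398cb5390cb536948bffffff52f8bb5305095354cf5411915315306e85fb531d3353255468d9e35348d1534cfe53418f533cc8533506532d06530d32fffffff52ad8d52a0ba52f16f6589d852bd8e8e0a7352c58e52cd2b52d4be52c18e56d59952b98e52e54c52ecc552dd3b52b58deffffff5250ba52a98e52918b52994e52598d75e218525d8d52652a526cbd5989a75288c452853a5999a7527cc152753a52b18efffffff702e026ac5ec7a02288db2726de1f85220b9523d515234f571d208524d517876246e35fa5244d059e9a85bc1b3522d08affffff51f55557e59c52194e52958d51e0b88d527151fd4e520d36521586537d90591da3538590520502590da35905a351ecdcbffffff518906517cb751d8d351d0cd51a15d72d20c51b14b6749dd51b95051a8ff5198ff51910951c4d551cd1151bd8a62d1d1effffff513d5251453251752a5165865128b68a7265514d86516d35546d9351555c6319d16305d1515d58645dd5516189513509bffffff79517987465b722a0951253780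d6405118b6708e038cae6f5fa1c78d02705fa9c78baa6b71820772420a80ba4080ca40affffff5d45ba51053150fd84510cc5551d948ca26f66a1dc50e4b650f0c757b99c50f58751156f65d9d95b71b265d1d95501948ffffff50c53050bd6451698950d92a50dd0980c24051498954f19452118b6371d26c49f250d15d64b9d66c85f250c98650b0b60ffffff794219870e5a6181cd72620a8b7e6a5098b570be047fb63d8c666e50ad70884a5e8b6a6a713a0650a56d7b962f822a45affffff505d16507d655084c550f9875094f68c526e5b4db25064db5050b557499b57619b508d666575d8507566656dd8506d687558162504d825040b4ffffffffffffffffffffffffffffffffffffffffffffffffffffffffffffffffffffffffffffffffffffe5599755038b4504983fffffffffffffffffffffffffffffffffffffffffffffffffffffffffffffffffffffffffffffffffffffffffff55f55e55a5518c166d8bd66c5008b45035777036025ad5af502d755ebdc277261e501d345addaf5025775dd5bc501575b)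
  (N 416 (L
  0xffffff5875295868c768f9e3589d53588cc97eb63968c9e35895915d7dba64c1d65d25b95885596361d25d15b95899a0587cd9effffff7eca398c366d6889e276961b916e7e5858c76881e25f99c78cb66f5dbdbb8cce6f91427d754e1678e22658657377361faffffff5850d05acdaf84e24f81aa4371b2085820c56659db58355e583cda584d5e5844d490fa7c6661db8e26736629da582d98affffff5c25b65818d489ba63744a1170060157f0c46609da58055b580d2573520e58159290aa7b6611da5a69ab6671db57fd9aaffffff57e18b57e95557a19b5794c257dd078d3e7057ad7e57c4d957b56457bd8757a59c57d5966859e16ba1ef6851e157cd91cffffff5779695781385738c2579d9c57896b88225e6b6def5744d55754d8574d8457658457757c6761dd575d7c6759dd576d6bdffffff5731256added865e57848a4e6631da5708c26fee01571563571cd4572d635724da906a7a6fd6018f6e7771da0857f99daffffff56bd9756f8c3570196677ddd56fd998f927756f19956c54956b4d356d19956d98e56dd9956e53b56a8c256ed4c56cd972ffffff5f25c556a0da8d9e71826a456679db5688c171c208569562569cd0641dd45a31a97a222971e20875be186fc60158299eaffffff5684c356b9995dadba565554567d975a7dab567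997564d53566ccf56753a5640c159cda756653a565cc459c5a756c9995ffffff5610cb5604c06775dd5705995624cc8666576741dd56354b563d61562d6f561d9657d19c6b91ef6861e16bc9ef5618cceffffff5a4da9901a795fb1c7709e038fbe785528be554d37553d378e1e73555d378f52778f067655554d5544da556505553592affffff5521005510d654bd9354b0bd5519875abdae54cd3554f58654d53654ed0754c543550d4354e50354dd4354fd03550587cffffff5490fc5499115444bd54b99454a0e68dee7254513654614e5471895468c85481065485935458d15478fe548cfe54a8f2dffffff8ece755bcdb35b25b16cbdf36fae00541cbd54393454293475ce186299d058119d70460259f1a85430d0544110553195affffff53bcbc53c8dc540d8f5414cf6829e176621a53d12f5891a053d93354090353fd4653f94653f10753e94653e10757c99cf)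
  (L
  0xffffff97fa9881be435b11a86d51f697ba975af4d16a31ea5b016a7d72357ce2337e6638952a8d8dc6725b09ad7fe63d745a12affffff5ad19e5ac4d09746969706955ae50c5c61b65eb5c25ad9815f4dc5703e028ee27562a9d05ae1815c45b66a59eb5f2dc5effffff96aa947929bb5ab9ad5aacd08302485ac1946999e780b240773e1f92d28369c9e8967a936d41f679ea2883c24b8ca66fcffffff832a497921bf5a9cd05ab5ae9656925aa93f69d1e882324580863f6791de7efe3a960a916cadf35b05b0748a127fae3ddffffff5af10c719a0893de8791e67f5a8cd05c05b55f3dc56dc9f87066025f61c595c6905a99256db1f86f15fd7aca2c5eadc2bffffff957a8f8e66735a85a467a1de75ea185a81975a79ab7c16315a75a9697de65a60d094fe8c786e245a6d9d7a6e2b8f9a775ffffff5c18f86645da95528e951e8d5a5d255ed5c25c35b66e4dfa6f01fd5c59b694ea8c5a50d06e3dfa705e027a3a2a5bedb54ffffff901e795a49955a45a56f41fe72860b5a08cf5a25575a15575a71ab6081ca5a35986ed9fd5a2d445a1d255a3d085b91b3affffff90ae7b60edcb6d59f65b0db05e9dc159d8ce6289d06279d06df1f959fd346619da5ec5c259f59259ed8c5a04d459e54daffffff597d1359b54c59c1a359ad6959d5a76e05f959b9a761b1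ce5970ce598d8d5994eb59d197599d8d59a51559c99759854c7ffffff7901a4932a855965a2596cd494c28b5950cd67f5e0800e3e5e29be7e1e375e21be94ae8a73f210730a0d8eaa74595da4affffff9466898676576f49fe5a41a9594da5593ccc67c1df7f3e3b59497f93fa886925e493c6876eadfc6f61ff936286866e57affffff9326857905a667a9de5a89ab930e84592ccb6789de59397f7f463b69e1e8929683926682758e178e8274731a0d5959a6affffff58e1396b65ef59256959bda758ccca8b026758e96959196e6c71f258f0cb59218b58f8cb59014259118b59098b58d90abffffff7ca21c91727e58c8d45961a67ed23958bcc9694de5845a4e7d1a34819a43747a1292428173aa0f5cc9b87f0e3a7ede3aaffffff91f28084924e58b9446f79ff91da7f58a4c86915e476b61c7eee3a7b8e2f80663f91b67f6e75fb76121958b1707d0a34a)))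
  (N 448 (L
  0xffffff79361f85ae536b55ee5e6d4a7f1e3a5e50d973a20f8d0e705e5dbb8cd66f5e65bb9bbaa36955e56bd9f07eae397ebe39affffff7925ad83324960e1cb6bf1f09ccaa75e38d873ea105e457088325e7fde3d8c766e9b62a267fde05e4dbd7cea33741a11affffff7f6a3b9c76a65e1dbd5e10d772de0c5e354b72c20c8632575e2da684ca4f5e25a69c3ea56be9f06945e57f563b7f363bcffffff7f2a3a9bd6a45e00d75e19be85b6535e0d4f72fa0d7d123484624e74821281924385da546b3dee5e49bf6799de76ae1cdffffff7f763c77e6229b8ea39b4ea25de1575dfd8072960b5dedbc5df5805de9b47f8e3c5dccd76a61eb77fe225dd981777a204ffffff792dae96ae9473c20f5dc9b3963e915db4d66b35ee8132425e59c05dc19f5e61c096629273120d73e210759e17898a63affffff5d51315d49875da9545db1975d61008992635d71545d79335d81a05d91025d95225da1025d69905d59225d89225d3cd60ffffff5ced605cf53e5d35b75ffdc85cd8d5990e9a5cfdb75d21465d31225d05595d29a064ddd65d0d5d5d19a05d11b95ce4fabffffff7c96329b36a15cd5477402106c01f05cb8d56be1f0882a5e5cc5708c7e6e7fd63d997a9c72ca0c5ccda27e7e387e6e38affffff5c813c5c795f6005c85d39b95cb0fa7e76385cf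9b95c916b5c9945644dd55cad585ca55862fdd15c895c5c9db75c6cd50ffffff5c1cd45c299d96fe949adea15c311c5c5daf5c39aa5c41776b1ded5c55aa958e8f5c64f55c51775c49af99b29d6ad5edfffffff6fbe015c0d1c9a82a09a369f5be4d45c09ac6aeded6ef9fd6e55fa5bf97b7b562e5c01446f09fd6da9f85e79c15bf1aabffffff99e69e99929d967292996e9c5be1445e95c16a69eb5bd9b45e8dc15de5bc91167c5bd0d4728e0b8ffa785ecdc27ab22c4ffffff5bc9928ed2755dc5bb73ba0f8f46765b88d35bad4a5b9d4a8f7e775bbd4a8e3a738fe2785bb5475ba4d45bc58c5b95a9affffff5b41225b49406699dc5b80ec5b2cd2987e995b51845b690e5b7d3e6b85ef5b6db265a5d95b596f5b75875b616f5b3943bffffff99229b84ee4f6cc5f35b29926a19e95b14d26a01e97dba365b217398b29a6a39ea955e8e79f2286d31f6984a9984a24fa)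
  (N 464 (L
  0xffffff7af62d62b9476a49ea62b56c70f6056268e4628da8627da874ba13629d9273420e62adaf6295346284f562a4f86275cdaffffff647dd5620cfb62612b62595a61f8e3a0f6b462155a6245186254ff621d50624d506224f2622d5f623cf26234f26204febffffff6190e1619dcc6c91f261f17161a9ce74c61361adce61b5a761bce461e12a61ed1461ddc861d52a61cce761c5c861a5ccfffffff6189447a1a29726a0a618585999e9d6148e061654d61554da0b6b361754d851a519dbaaa616d37615d0c617d1c6271d0affffff6199ce6128e161351f6121196145cca0cab3612dcc60fd4c60f0e06101cc6109c96141cc61112b61190b613dc961a1ce7ffffff60e9a890e67b6bf9f060e5bf9d86aa60a0df60c54760b54785265160d547a082b399ca9d60cd4a60bcf860dcf560adcaaffffff7b2e2e60994d6935e460957d6a75eb6058de6075446065446975e66085a96415d46af5ed607d57606d1c608d0c60a9cbaffffff6015c86008dd63e9d36055566025c9854651602dc960353b603cdf6029c96105cc6021c9604549604ce86139cc601dc8effffff5fb8dd6011c95ff9b96001b75fc1c86989e65fc5c85fcd3a5fd4de5fe9535ff0e761d9ce5fe5535fdd1461c1ce6019c9fffffff793a1aa02ab170a6035fb595a032b25f90dc721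2095f9d9f5fa588814a425fad889d5ea96d81f770b6048aea678d5671affffff7975788902615f894d70d6045f8dc65f6cdb724a0a8c5e6e7fbe3d88425e5f81709d1aa86cddf45f79c3807e3f806e3faffffff5f1cda5f29989fceb1893a615f38f56b15ed5f41ac5f49755f51af5f5dac9f62b05f651c5f59756b0ded9da2aa5f31affffffff79d6279f1eaf5f01c35ef4da9ef6ae5f19247132067e06375f117480263e5f09749eeaae70c6046d71f76d11f579a227cffffff79916a82aa475ee4da5efdc47d9a355ef121716a07818243746a12846a4e7d32349eaead7096035f75c67d8a357d6235dffffff668ddb5edcf59e36ac964a915ea4da5ed9aa5eb9af7056026dd1f85ec1817b0e2d5ec9a8704e026e45fa5ed1b45eb1acbffffff9ddeab9d7aaa9d36a99cfea85ea1a85e99b47106055e89c15e91b45e858090867a5e70da6f9a008f12765e7db57a4e2a4)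
  (L
  0xffffff791ddea372ba6808f8695de5a47abd67e4f067f9a67bb630889e5fa132b4a332b9a422bc6801bf6b2dee76ce1c67f1deaffffffa3c2bb88b25f67d55767dd7f67e1df67b0ef67c5a5a17ab567bdde805e3f7b862f89126167cd7874e614883a5e88625faffffffa36eba7919e067a5ab67ada4915a7d6780ee678da46f29fe67b9df6795ad69a9e791827e742a117cca33679dbd67ede0affffff6714ee6708ed6779996771966734ef888e5f674596674d8a6754f0673dd8672dd867257e67659b676d7e675d9b671cefeffffff66f15466f92d6690ec669db267013582f24866a58766b50966c50d66bd7e66d57e66e5d866ad6666cdd866ed6666dd35dffffff6680f56689c283f64ba34ab9667d986648ec665d9e6a85ec6655086a9dec666d1099fa9e66659e7a762b66759d71a208affffff6641aa6638f875a6177cf23366359a65f8eb660d9d73620e66050566255b661da87b062d66159d786224662d9e6ffe01affffff659902658cea65f16665e94c65b50383d24b65bd6665c51b65cd1f6831e165add965a9b265dd8765e56f65d58765a103effffff6541676534e965858e657d6f655168a2feb965596f6560ff6569186739dd6729dd66e1dc65798466c9dc6571846548f6effffff652d056ec9fda222b67bee30734a0e64fce86511636fce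016508f86fe60165210ca2aeb8651963852e516529d4733a0eaffffff64f50164e51f6495d56488e764ed21a236b764a55864cd0364ad0264c5a0649d5964e1b964bd8664b55964d1d664d91bcffffff6470fb6479cf642ce76491d664810e879e5c6439596448f66458fe6451b768b1e368a9e3644171646189646dd56468ffdffffff6da1f8642508944a888a4a656abdec63f4e764096271ca086400f56421986419ca90467964116274aa136525d76ab5ecaffffff6395d26388e663ed5663e5c963b0fca1deb663c15663c9486849e163b91f63a9d363a4fd63d96463e16163d0fd639cf3effffff6324e66391d36381d163791463391192e28363415c63490763519063758663695d6c41f26365a0635d5d6355d26330f4fffffff62c0e562cd50631d146385d262dd4ba16eb562e55d62ecef62f5066311716315896309896301b768ede362f9d162d58af))))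
  (N 528 (N 496 (L
  0xffffff7a0e28956e8e6bf5bf6bfdcb6c05b86bd0fa6be5b8939a8673da1098aa9973fa10a86ec76bedbe6bddc098f69a99169aaffffff6b69a36bad396b9d7e6bb50f6bbd469392866b719b6b5cfa6b80fd6b89b26b8def6bc5e16b95966ba59c6bcd966b79468ffffff7959e7954a8d6b514a6b59c097aa966b24f96b39bb76e61d8a0a646b49e282e248a672c26b41bd6b31e07442117cb233affffff6ae19a6ae925a882c888f2606accf86b19c56af1b56b097b6b21b66ee9fd9056796af9ca6b017b6b11c570ee056ad9b6bffffff6ac98c702602756616a14ab46ac1d46ab10b6aa95e6a89db6a990c6aa1db6a7cf8a7f2c66a915ea0a6b373720e6ab9d45ffffff90fe7c7a562aa83ac7a696c26a79ca7122056a6db46a71eb711a05729e0ba7cac66a50f86a65bc99ba9d6a5daf9d7eaa4ffffffa75ac583e64b6a456c6a4dd084124c6a20f76a35b06cf9f56d29f689a2636a3db196b694774e1f6a2d7378f226753616affffffa6fec4a366b96a0d346a15736a1db169f0f66a05b187765c81da447e56387cda339b2aa17c723269fde78c866ea302b9affffffa69ec3790e1069c5e769b8f5a656c269ed6e69d5ad8aca6779e22869e5a469cdae97969669dd7377461f755e1678d226cffffff953e8d795dee6990f569c1e88cee6f69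b535699dae8a32657b762f7f063a69adde8bea6c69a56c69f9e981a24382da48dffffffa5f2c17aa22b92b2837f163a74ce13698dc86985e67852246979ca6981ab696cf595868f7c263173860ea08eb3854e515ffffff8ec674928e826961e06968f8839a4a693cf46951a2a4e2be73020d83ba4b72f20da5aac06959c06949be92a28392ea83affffffa036b2a53ebe69317d6939caa022b16904f36919a18e7a746f59ff8d86716929a5a00eb169217969117f6c19f1a1e2b6affffff689d286890f268fd5368f5a068bcf4838a4a68cda068d52f68dd8f68c55868b5d568add568e95c68f1d168e1e368a511effffff83824aa54ebf769e1b688d9f9282826878f268859f720209707e036b45ee73b20f931a84747212a112b46cb5f38dfa72affffff681990680cf168717c68693b682d91a4d6be683d7c6844f4684dd36835d96825e16bc1ef685d9c68659668559c682107e)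
  (N 512 (L
  0xffffffa2b2b88f3e76af6edbaf22da6fb19272b20b6fa5806faa0072aa0b710e059dfaab6f89086f9dc17ad22c6f95fd8fc2784ffffffaebad9a22eb66f7da16f85448d1e706f51076f6d7d92aa836f5de480aa406f757fad96d5765a1a6f65a58d3670a4dabeaffffffae66d87bfa306f45a96f4da5ae26d76f21066f3d7f6f2ddea182b5825a458a4265ad1ed47602196f35fb77061d7bae30affffff6ecdd76ec105a972caae1ad66ee5106f19f86ef57b6efdb56f05aa6eeded7a2a296edda96f0db56f11ac6f92006ed5faeffffff93ca87794e0a6e99fb6e8d056ebdfc6eb9466ea97898be9a7506157dd2366ea1799abea06eb1a576521a865657936686cffffffad32d4797a036e65056e95fcade6d66e898f6e71797cba33835a4a6e816a878e5cadb2d66e79a16f31fe7be63076de1ddffffff6e5d1073320ea6f6c3a9e2cb6e1d05706e026e29776e51aa6e59b56e3177a60ec16e398c6e41aa6e49c28ff2786ed1fdbffffff95ca90856a516e11f56e156a7886246e09a76e01f974a2136df5a86dfd766de905ac9ed375c61871ee088f56777a922b5ffffff6ddd086da5d4ad42d5aceed46de58c6f1dfd6dbd756dcdac6dd5c26dc575ac7ad36d99056db5ac6dadb58f0a76701e024ffffffa2a6b7ab82d06d8df46d9508abcad16d61046d7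d6d753e16717207a20ab6716207ac1ed26d85c76d75c479c2276d6df5affffff97be977966166d55b06d5da881b2436d21036d3d6ca242b76d2dea7e9e396d4d73a6b2c36d45ae6d35b18cde6f83aa4baffffffaba6d17982076d1d6a6e0df9ab72d06cf1026d056a6cfdeaa24ab76d0d797dca36ab46d08d7e7179b2276d15c46d69f7affffff87b25caadecf6ce9086d89f76cedf46cccff6cd974a30ab9a10ab488725f7bd630aaa6ce6ce1c670860387a65c87965caffffffaa52cda166b46cc1926cc9b1a9eecc6c9cfe6ca97381d24487865c743a1183624aa982cb6cb1ad8de6726cb9e2a0fab4affffff6c35416c28fd6c95716c8dce6c54ff9452886c65716c6d436c75a36c5d5d6c4d866c45d26c81596c89866c79f26c3d0eeffffff8af267a92aca6c2570851251a916c96c08fd6c157073d21093a28670ce04937686a8e6c9801e3e813a426c1de4752a15a)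
  (L
  0xffffff7909e8a6a2c37405b8740d47b412e673c91273edbf73d5f173ddf078ea2673fdf0b29ee273f5a673e5bb89c263757617affffff8e0272a9c6cb73bdb373c5bb92fa8373911173a5c08a026476ee1d831e4873b5e2b216e173ada2739e0c837a4a83924aaffffff7335fa73291099069a836a4a734dd7738914735d5b7365da736d1c73559d7345d08eda75737d5b7381e67375ec733dd7effffff929a83b392e572ee0c72e110a9cecb73254872fdbda1eab67305e575561672f5e5aa0acc7315bb730da6731da48e7274cffffffa1d6b5b316e472b91072ea0d72d9be72d58a72c5be88965f7bbe30a33ab9a12ab4b2b2e372cdb8739a0fa1b2b5a172b5dffffffa7cec68fca78b246e2b1e2e17289a972b6007299bc72a60b72ae0072a1eb9a029e7275107291b47a422a7282028f36764ffffff7949fc93f287726585726dcd72720a72310e724dc6988699723e0493be86725e04b076dd725574724588943a88945a88affffff796e1491d27f722537722d8892168071f90d7215c77205e2830a4876fe1d89da64b006dc721d6d720e068262457b6e2faffffff719dac71910c8afa677b9e2f71b59e71f11571c59871cdd471d58c71bd6271ad447b4e2e71e59871e9f971dd9a71a5dbeffffff7985f5abaad1715e0671510ca29ab7718d1b716dc383ca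4b7175f7a512be7165f7b172e0718588717d74a27ab7a23ab7cffffff821e44b0f6df71290c715a07b0cade7145187135c4a102b4a312b97bde30887a5fb086de713d85720a0971496a81ca44dffffff906e7a7aba2cb02addafcadc70f9d07125eb7109c1711605711deb711200a2dab870e50c7101809daaaa70f1ed99969d4ffffff791615adaad570d9c670e14dafc2db70ad0a70c18578da26723a0a70d1f1725a0aafb6db70c9c470b9c78d8e718b0a67affffff797dfbad2ad470a19570a9c78a3a6570750970918882fa487081e28a1e6476f61daf3eda7099c37089f48a62658a7a65affffff7029ec70318c969e93a59abf7015087071fa7039817059c27069ac7041af90c67b7049927051c27061aa727e0b7021f8bffffff70111c6fc1b5a52abe88a65f70099d6ff90f6ff19a6fd1d76fe1106fe9d76fb5089df2ab6fd99a78a6256fc9987001da5)))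
  (N 544 (L
  0xffffff778580811641862256b0e2de778d4a7812228f2276777620780a228f2a76b61eec775d379db2aa777180776975777dbc4ffffff85a6537931c07c62327759519beaa4772d368dbe728d5e717741ae8ea27479fa288c2a6d7751ea7749e87e263777399faffffff77194a770d349cc2a6a3baba80f2417846238eea758ef27586de597b1a2d77298177215b8efa7587ca5d7f7e3c782a23effffff8a6a65ae06d677a221815a42ad3ad476d53281424276e9ee76f20f77020976fa03ae32d77d2a347bc6307709fe76e1fbaffffff917a7e7ca5a2787e248eb2748c466d76a52e8e8a7476b9a176c17d8dd6727c8a329c12a47cd23376ca1176d1e076b1bdaffffff7c063187fe5d76999f76a1e277c62176692b768a1b8e1673767d378e427376914ab5daeba0aeb376855e7c0e31767576affffffa01ab1793dc7763619762925a532be7665917646147ea639764d79a272b7763e15a956ca765dff7655fca51abe8d4670cffffff87165a79458575f12576321ab56aea761d4575fe15760e117e5e3881fa447d7a359a429f7605fe7615a17d4234762170dffffff9f66b08fb27779ca27820a4475edab75e58d75de1875b97675d19275da1375ad2595e29075c9f975c19878ba258e0e735ffffff967e9378fe267cfa3375a9dab4d2e8756d22758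a1175821598c69a7599737e9639a76ec57591a489b26375a1bb757a10affffff7961f697e297a152b47569ec981e98752d1f754a127541f783da4b755a0d83ee4bb48ee775519f7e0e377561e87539eaaffffffada2d579120475021474f51cb51ee975217275fa19757e177509fc79ba27763a1aa8c2c875197f751179a212b67525f1cffffff91ba7f796a0974d51c74fe15847a4e74f12f76421a83524a7cc2337d823581f24485865274e17d74e9df84524e89d264dffffffac7ed378c625a292b77d923574d1e674c9ce74c21374a5f974bdd075d61874991c9f86b074b57674add4853e51a0dab35ffffff798d6c84024c74955e7e2e37a77ec574511975461674656d746dc37485bd747da2b4bee87475e27fc63d748dad745db0affffff8c066c7ffa3d744d9d89aa63b472e7741116758617760a19742578743df374356c980e98742dde76c61c7445ee741dbfa)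
  (N 560 (L
  0xffffff7bf5feae6ad87bf1d7a21ab6b706ef7ba55080163e7bb9e07bc20c7be2067bd9f4b6d2ef7bd1707bca1d7be9fb7bb1feaffffff9a669f8a12647ba2088ada678aa2667b654e8d76718dce727b79e77b91a17b89df8a92667b816a81e2447b99857b7209affffff7b254d7b31caab8ad082ce47910e7c90ee7b7b3a297b4229a62ac17b5e237b59b57b52087b4a29ac8ed390767a90de7bfffffff7aed477af9d0b40ae591ae7e907e7a7b1e2990be7b90d67baca6d37b161e7b11c27b09da90b67ba63ac191067c7b0229fffffff7abe05909a7aac66d29edead7aa9477aea2a9d8eaa7ada2c7ae22a9dc2aab682ed7ac54d8f1a767ad6007acdac7ab5b4bffffff7aa5e6a5f6c19896998c8e6e7a9e257a8d4c7a862ba096b37a814da0beb37a6547b6aeee8e32737a79db7a71ab7a95f95ffffff7a59eb91327caa42cc925a817a614d7ae62c99a69d7a4a2a7ade2c99d29db696ee7a31478fea787a460b7a3daa7a51c14ffffff7a1dcd7a1144ac16d1829a469a0a9e7b222d7b362e7b3e2e95068c904e797a2dfd7a25987b462e95da909e1eab7afe2deffffff956a8e7a09f08db6727a058c7c9e3279d9437c6a3294068879e5e87f4e3b79fe1f9e82ac79f5b179edae84d24f984e99affffff9f22af79d1c482124479ce18ac32d279994281e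a4479ad737dc23679be15a26ab7abbad18ae26779b5f579c5f779a5c4affffff78fa179696937fee3da0e2b39b86a278c93e7fce3d78de04988e9978ee10985e999cd6a77e163778e59f78f5ea78d5e8affffff78c213acdad393aa8688525e7a9a2b788d3b78ae2585625178a14785565178b54db66aed8f767778aa0178be18789a24affffff94ee8ca0eab38eba7478821c7889f978493a786a247855e6785d447c363178798ca606c17871ab7865da8e4a73789625affffff78193778255786ba58b15edf7f863c78421e902e7990367987da5d7b622e783d7b783562903e7986ce5980ea41782e1efffffff77e9bc7f9a3c9c5aa5a46ebc77d5377816208fd278780622780e208fda78b5f2eb77f14a99c29d7801bc77f97777e180bffffff77d17686ea5981624277a61d77ca1b77c14977ba218f5e7777b54a8f8677779137b636ec85365177ad63779d767c52315)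
  (L
  0xffffff894662816e4280a63f80996280d18880c5868a2a6580b5ae8d667180adff8ad2678b5269a262b794328880bd8880cd88cffffff88be60880e5e804d6280a24080963f80797193fe88805a328089ad8061df8069a1a3d2bb876e5c808e358081c68071c6dffffff80457f8b4669803a34804163b792f07ffd61801a308011a6863a578029c4864657b742f08021f1a1f2b680317980097faffffff7ff6118bfe6ca09eb37ff226b2aae27fa55f7fd2267fb9857fc1c67fe1bf7fd9b8b42ee6a122b47fca127fe9b07fb1adaffffff7f9e227f79bc91627db462e67f8a237fa23ca812c67f963c810641911e7c7f91bc7f6d5ea7eac6b5e6eb7f821e810e414ffffff9c7aa67f65bea1c2b57f6231a1cab57f2d5da192b57f41a57f49a47f52288e9a749caea698e69a92ba837f59be7f39beaffffff9bdaa47f25bd7f19e692f2837f21c07ed55c92da837ee97d7ef1a17f09e77f01ada37eba83724a7efa387f11a27ee1a2affffff8c3e6d7ec59f7e92387e855b7ecda27eb9a0834a4a7eaa1a899a637ea1f67e9a1786065592c28398ee9a7eb1c07ec1c0cffffff973e958c9a6e7e455b7e8e3998ce9a7e79b798b69a7e51787e62197e59e97e69b0a70ec4a19ab57ef63a7e81b87e71b8dffffff7e3d7385fa557e32127e395ea45ebc7df55aa11ab47e09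c484b24f7e21a684c24fa4a6bd7e1a267e12167e2a1f7e0173affffff8686587ded74875e5c7de5767dea367da95987665c7dbdb17dc6277dd5fc7dcdf5869658942a88a252b77ddd747db574affffff8282467da16d7d9613a28ab77d9dc37d5958a25ab77d6d6c7d75b07d86147d7e19b13edf8a526580923f7d8dc37d65c3affffff7d517d8a8a667d4d6380363e9a569f7d0156a1fab67d15bd7d1da27d3d6d7d35c3b58eea7d2e1d7d25707d46197d0da1affffff960e918316487cf5da7cfe1796c6947ca9548982637cbdfb7cc6147ce5b07cdde9840a4c7cd61c7ccdde7cedbf7cb5eeaffffff9b3ea17c91b87c59517c661f7c9a287c85687c6e2880563f823a45a1aab57c8e1c972a957c75e97c7d6ca342b98c566edffffff87c25d7c0a1b7f5e3ba1bab57c4d767c45537c3e317c19ab7c31577c3a247bfd5187d25d7c29e67c215b7c121b7c56215)))))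
  (N 672 (N 624 (N 592 (L
  0xffffffb01adcb8d6f48506418b366884fd70b5c6eaa8fac9b446e6b456e68b626a9d12a884f170b6eeefb5a6ea91c27fb56eea4ffffff84e9b199269b84de4384e59ea35ab984996fa322b984ad7484b63784cdbe84c637b8eaf5986e9984be4b84d62884a5b1affffff8495a191f680848d9a864e57847e1484757ca4fabe845da28465bd846dc384496db8b6f489e26488165e84561484857d5ffffff9eb2adb0c2de9dd6aab1d6e08446449b76a2ac4ad285e25485ea54b586eab89af484316dafd6dc8b8e6a843e47b0bade4ffffff84061283f96c95168c97f2978415ea842a4697c697841e4684264795228d9b12a1840e339c0aa4919a7e9b6aa2980698effffff83e1eaa75ec5a352b983f1db83a16c83d5d983b64383ce0783de1683bde583ea16b86af38cc66f84ba4f83c5ae83adf6bffffffa552bf8385e2836e0e98de9a839de5838de3834e39835614835dfb83416c8365f3aa62cd83763aa18ab5837e0f83960f6ffffff8335bf832dad833d7785ca53b846f39b22a1a6cac3857e5288da60aa7acd98169883216c8bda6c971a95b802f28c0e6c4ffffff8312339636918e5a738ce66f8305ae82f5dc8cbe6f82fe03830e09831a0f82e5eeb7f6f282ee43a31ab982d16c82dde71ffffff82adc382a16a82ca2eab9ad08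2c56d984298abdad198269884224c9a3a9f85925282be449226808ab266843a4d82b646effffff828d6d828635829e29ac0ed182956a842e4cab5ad0841a4c982e98added688d26082796a8aaa66922e80b08ade82b2474ffffff857652827170826d988d9671b022dc8221698ac2678235ad823e32825dfe82557d920680824e4482456a826609822d85affffffb0fadf821a06820e1882162784424d81c16781ee2781d5f381dde981fe1981f61482ba47824a4581e62f82056d81ce06affffff81b9b097fe9881ad9e84da4f81b5f681716683b24b8185c3818d6d819da28195bdb7b6f182ea488c6e6e81a5e7817d6caffffff816a40895662815e1d81662187525b81216481461d8135bb8d1670814dc78d26708b1a68a202b6813df181557f812d79affffff811a2080e5808b326885025080f61e811e41a2d2b8810241810a3c908e7a80fd8080d963a2cab8b62eec80ee2381123c4)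
  (N 608 (L
  0xffffff88e65e88c23f88f5eda886c888c66088ee529a96a09afaa188de49ab22cf88d64688b578891e6188ce5aba5afa890a614ffffff88addfa3c6bb88aa01a522be88825f8891dd886e57889a0c88a1e08875f4887e06ba4efa888a5e89ea648859788865df1ffffff88123f88e26088562593b286881e5e88259b936e86882db88835bf8845c6884d85ba0af988865f881a4e883ddf8805780ffffff88021b87c631930655aa9ecd87e65987f25987ea5d95a28f87de23a616c187b97787d63195b28f87ce1eb5deeb87fa595ffffffaae2cf87adf487557687623687b65c87a1d5876a368779e98789f38781788791fbab1acf87723f8a5a6587a9f48799f4dffffff874188873979872e5a872175874e42874a5bacf2d49782969feab1a046b2ad4ed587357fa8a6c89ff2b18b2268894e62cffffff87098587121986f175872a5bb9eef8893261ad56d58be26c971295ae86d8920e8087057d86fe5288ca60b9aaf8871a52dffffff86ee2186c9768bce69aea6d887e25d87ee5d86e6599f6eb086e21eacaed386bd7586d9769f7eb086d223b622ec87f65d5ffffff867d74868a36b16adf86b62386925886ae55aaf2cf994a9b9f36af9aa6a0ab62d0869a369492899f3eaf86a256868e58fffffff8679a5946a8986524e86619a864257866996886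a5f8635be863e3e862974864a3eb976f7938286a4f2be8659fc8671a56ffffff86a65686aa56b0d2de8626208616569bcea3aab6ce9c4aa5861a56b972f79eeeae860d74b052ddb18ee0869e58861e564ffffff85fe3785f173aa96cd93025d924e8186b258aa82cd9f2eaf99529ba6c2c3a776c5860a39934e85995a9b9baea3860255effffff924681a456bc99de9da5dec085d1738b866aaa02cc85e64d85ee4db4fae8b7d2f185ddbda67ac29b7ea2918a7ea44ebcbffffff85b1c085aa1f85ce4985c17785b9bd85c653a9a6cba8aec896de94a786c5a6bac3859d7397729696ee9491467d8c226d4ffffff856d70857a4585957b897262b8cef488ea60a936ca8582499b02a1b146df858e47858a1486fa5a892661b8a6f4871e5afffffff8565f995fe908515f1850970a0d2b38549c9852251855e258529cb855a25851dcdb91ef6853a218531d78542138551e6c)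
  (L
  0xffffff8daa71a8cec88d32648fa2778d21ff8d419c8d0a648d11c08d1a428cfd888d2a42bacefba502be938a868d39ff8d4a1a6ffffff8cf66397b2968cea488e52738cf1e78c9d878cc2488cb1888cb99f8cd9c08cd19fbb3afc8cca4b9876998ce1f68ca9aeaffffff8c96389736958c922b989e999866998c4d849856998c61c68c69858c81b88c79bfbb7afda32ab98c72438c89e98c5a32affffff8c319f8c3a398c1e6c8c11818c421c8c4a6da562bfa002b1976296b3e6e59e42ac8c2e1f96e694976a96a4b6bd8c2653cffffff8bfa3d8c02118bd1818c1a6dbb0efc9722959686938be65a8bf661a396ba91927e8bede78bde499b0aa1b7c2f18c0a49dffffffb746f08bba688b9e6a8b91808bc2699c62a5af26da9ba6a38ba26bbadafb9d42a98bad88b196e0b04add8bb2698ba66bcffffffb576eab9aef88b59808b9a6b8b79858b8254af7adb9b52a29b5aa28b6650ba22f98b6d85b09ade8b8a4d8b7666aff6dcdffffff8b4a3e8b3d7faeb2d88bca598bc66b9cbaa6ae8ed8934685948a89ad76d5a066b28b56409f46af949a898bb66b8b4e69effffff8bbe6bb78af08b3a508b2e418b117fb7a2f0ae2ad7914e7d8b2a689d4ea9bab2fb8b1e42b542e9a8f2c98b265bb782f0bffffffa92eca8af5f18ade2f8afe089d6aa98b05a38ac6458acd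e8940e888ab97f8ad640a04eb28ae6278d6e718aedc78b0e046ffffff8a8e348a817d95d290af12d98aa62f9c26a4aeeed99bf2a491a27e91ca7f8a9e618a962f8aae468ab6478b726a91fe80effffffadb6d68a6e1d8a4dd49422888a3e038a75898a2e408a35e78dde728a217d8a45feae76d88a56358a5e5c8a66038a7e036ffffff8a162f9a7a9f8f66778d2e7089f57d89fd7e8d06708a060f8a0dee8a1a0389de09b9cef889e64e89ee5f89c97d89d6141ffffff97a2968cfa6f89ae1189bd9d95368d8995ba898633897979899e3989a5ea98d69a97d6978e927489b61789c610898dbb8ffffff895a42894a4089765289697b896179896e62adced696d694a896c8ab6ad09a8ea0893d799ffab1a89ec8b74ef089525b4ffffff8905c688f9788935c59fd2b1891a61892e5a93d687970a958bf26ca3e6bb8a9a668915df892260892a52ba0ef9890e60e)))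
  (N 640 (L
  0xffffff91fa4e91eda1ace6d3a07ab2921a0992367ea03eb292227e9bfaa4ad0ad492125a920a45922a47923246b00edc920266effffff91d60991be1491e9ac93e68791dda191e27f9fe2b1a56abf96269191ce66a3dabb91b1a1adc6d69a5e9f91c6509a6e9f4ffffff9175a2917e1c91aa2db402e591699f923a80927282921e8091a666961e9191966c9185de983698919e4c918e549be2a4bffffff9bc6a3a486bdb46ae691663c915ddea4c2bd93128491526891567d965a92bb5afc913d9fb496e79ce6a7914a53a47ebd4ffffff91362a9101ebbb72fcbbc6fd91122e913a7c9a129e91267c912e7a91223c9119b490f59e9a269ebbdefe910a2d9deaab4ffffff90e9cb90b1a8927a829c2ea49e02ab90f22e90c22d90da2d95ea9090d27590ca0290a59d90ba2d94f68c9a1e9e90e22e4ffffff909e2c907205bac6fbba42f990822d90a27a9e0aab90967a912a7c9092419089c190659a9e26abbc46ff907a2e99f29e4ffffff9015959021a99f5aafab2ecfa80ac6905e75903223903a2395aa8f9052299059ed9049d49042239f76b0a2bab8902a75fffffff8fce0ba826c694b68ab302e38fb9959012768fd622900278900a768fde22bbf2fe8fe5b38fee2a8ffdb48ff5fa8fc600bffffff8fb6189fc2b08fa6708f6a648fae738f95998f8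e778f62218f81b38f8a218f4d95bc56ff8f7a258f719a8f59f98f9dab5ffffff8f4200a2eeb89f0aaeaacace8f49b3900e788f26208f32769006788f2e20bc26ff8f01958f1e2c8f15c18f0df88f3a0b4ffffff8ed5b38ec992935a85b37ee4a2c2b89062798eee1e8ef61e9f8eb090ce7b8ee5af8ede0e8efe1e95ba8fa7d6c6902679effffff926a828ec1e58eb61c8ebe24a55abf8e69908e8e1c8e7de492ca838ea61f8e9e3bb3dee58e96638e85a48eada68e760daffffff8e61ab957e8f8e566f8e5e488faa778e058e8e2e738e1a1b8e21958e461b8e3db3bbd2fe8e362b8e299e8e4e248e1218affffffa986cb8dfe0f8dad8c8dba28b3a6e58df1938dc21f8dd22f8de2658dda1ca1a2b5a582bf8dc9b08de9f3a13ab48df5e2dffffffa8d6c88da6708d9a458da198aeded98d4d8b8d7a2f8d621f8d6a408d89e4941a88aeced98d81f58d72678d92048d59c7a)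
  (N 656 (L
  0xffffff96025195cdf9af1ad995d66695f68ca64ec195fa90ac86d395ee7b9f96b095c1ac95e618ac96d395de29b66eeda5fec15ffffff9582739575ab99669ba746c49f9eb09faab0959e8f95a65d95ae79959a8c9591b69589e695b65d95be75bd7f029fb2b0effffff9571f0956628955a8d954daa9b46a1a6eec39aeaa19aaea0a6d2c399429b96be949561b19e62aca6e2c3bd03019e7aaccffffff9545ee9539e79519aa95568e95326395428d96ce94adeed69a4a9f95264ca716c4952db0a57abf961691b43ee6962e91dffffffa086b394f22497ea9795124c95f290acc2d3950e8ca622c1950a2995968f94e5aa9501aba632c194fa7bb69aeeaccad35ffffff94d284b22ae1b606eba4cebd94bda694e284a496bdb70eefb716efa446bcb2d6e3a142b4b436e694da84a572bf94ca84bffffffa9facca5eac0b2f2e394ba78a15ab49d72a9a43ebc9efeae94b28aa49ebd9c42a594a9a6b26ee2aa2accb3c6e5a9f2cc4ffffff946e579461a5a412bb9fbab0947e8994a285a3eebb9c86a6948e69948687aed6d9947a88949658949e69b062dd947289effffff9acaa0944686942665944dd49416889455f294023f940a2894126793f5a5941e71947689942e36943640943e0a945e0a6ffffff93ee0a93cdfc93ea7f93e1ac93d287ad86d593d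a619e72acad5ed59482899fdab193c1a59a9ea0ad66d5bca7009ab6a04ffffff9442889ad6a093b65e93ae25937e869395ef93725e939df093a5f193ba0a9379f1bc9b00938657938e70935da59369fc1ffffff932da69321a4b38ae4935675b23ae194a689a39eba934a699c8ea6968e93934282933a839352559c9ea6a5aec0933285effffffb232e194ce8ba7e2c69cf6a79309a494de8b93167dae42d7ae4ad7a66ac2b206e1931de2b4e2e894d68ba98ecb94c68bbffffffb396e5929e0d92f63a92b5e692fe0f92e5d292de3a92adff92ce7492d5ae9291a493368592c63992be3b92a5e592ede55ffffff9289e5926e749c36a4927e7b9285e2a06eb292767ea05eb2b3bee5977a96933e859261a4a7a6c5b3cee5aa1accb39ee54ffffffa426bc924a54925e2aaa4acc9252559d2ea8a5c6c09ec2ad9ecaadb7daf1b4f2e8923da2b1eee199869ca3a6ba9256814)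
  (L
  0xffffff9ad2869ac6889a8a9f9a7db59acea0a97aca9a9a609ab28ea946ca9aaa589a92629ac1fc9aa287a94ecab996f79aba87cffffff9a76649a622f9a31b59a86a09a52349a729fa88ec8a9b6cb9a4e8d9a3e47b14edf9a4619acfad49a5a7fb59eea9a6a7fdffffff99ee9d99e1b4bd6b01b83af29a0e299a2e9e9a167c9a1a9e9e16aba802c69a060b99fddb9a2a7cb6a6ee9a227b99f67aeffffff998db499ea9ea5d6c099da5499a1cd9dceaa99aa2a99ae9d9d9aaa99d62abd9f0299cdcb99c62299bdeb99b5b6999a05fffffffbe3f03bbaefd9969b4997692a87ac79ed6ada846c79d02a89d0aa8bb96fdb44ee6997db8b2c6e3998281a742c4998a9cdffffff992a4f991db1a752c499628fa71ec49f52afa72ec4994e5899565599468e993e9799369a9ca6a6995e55a862c7992e9beffffff9e8eac99029998e24a990a0e98d2389911b998ba3898c1fc98ca1798adb198da6399329b98ea3b98f23998f9f09919f06ffffff98fe9a9ea6ac98a26e989a2b986a6e9881b2985a6e988a0a98922698a5f0986226bd2f0198724f987a6f9845b19852281ffffff98024397f5b0a646c1a7bac5982216983e47a78ec5982a47983246a9aecb981a49981211983a7e9c02a4a682c2980a4ceffffff97de1697c1f697ee4c97e68c97b5b0ab92d097ca4cab7a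d0a796c597d294993a9b97da63b3d6e5a7aec5b286e2a766c5bffffff97ae6f979e63974e959741af97a5ee978a96975e9197865b97666d977e829756939799e8977653976e6db49ee7979294cffffff97326e973a389701af974a969e96ac97266c9e4aac970e6197165ab366e49c1aa4972e329af2a1971e49bdf3039b1aa1dffffff96b1bb96a5ae9ae2a196f9b696ca3396f69496d28d96da6296e25397ce9796c28e96b9ea96ea6d96f2539cdea7978e96effffff969a26968217a5a2bf96a202b80af29e9eac968a6cad7ed59e52ac9692859752969675aea6dac39e5aacb872f3a6aac34ffffffb852f39ccea799729c966db49651ad9f12aea662c29d56a9966a92965e7d9b9aa39665bbaa12ccb266e2a79ec5b296e2bffffff963a48961233964dc29e3aac9641bb964691975a96ad02d4962a7f96227ea386ba9605ada99ecb961a8db4cae896328d4))))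
  (N 720 (N 688 (L
  0xffffff9fc6779f6a189fbe89a41abb9fa28f9fae8f9fa6b09f72599f92759f9a909f5dc59f8a139f82599f7a79b92af69fb68f5ffffff9f19c49f2627ab3ecf9f5679b186e09f4e9bb10edf9f32559f3a58a95ecaabc2d1a282b79f4a699f4258b17ee09f2aaffffffffac22d2b1bee0aac2ce9f0e769ef9c49f1692b0a2de9f028a9f06aeb76ef09ef2569ee5c4af8edbac3ad2ab52d0ac5ed24ffffffb0eede9eb64d9ee22cac6ed2b106df9eda9cb19ee09ec6819ece81b8c6f4b5b6ea9ea9c3af2eda9ebea8b126df9ed2ad4ffffff9ea2999e8a9a9e3e919e31c29e92959e9a939e4e959e76879e56939e6ea69e466d9e86289e668e9e5e93b8f6f59e7e8ecffffff9de6aa9dd9c1bcef00b9fef89e067b9e2eab9e0e7a9e12ab9e1a9ea2e2b89dfe009df6019e2a7ab676ed9e22299dee7ceffffff9d75c19de2abb1c6e09dd24d9d89cb9dca9d9d922c9d96aa9d9e9d9dc62cb946f69dbdcd9db6209dae059da5c59d81ebfffffffbe7304a90ec99d3ea89d31c19d66679d6e8aafcedc9d5a929d4aa99d52689d466b9d61c7ac42d2af86dba056b2afaedbcffffffba52faba32f99cf9c19d3aa99d26a89d2a81b03edd9d069c9d0e9cba2af99d16509d1dc6aaaece9ebaada402bb9d22a8dffffff9cd292b84af39cf284a82ec69cc5bfb4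b2e7b41ee6a902c99ceea7b276e2bd27019cda26a4aebd9cea7d9ce294b476e7bffffff9c71be9c7e3ba3b2ba9cbe1eb326e49cb669b32ee49c8a899c92859e6aacb3eee59cb23b9caa9b9ca2859c9aa59c82a6fffffff9c6aa59c6ea5a466bc9c5e22b2b6e39c666bb2cee39c4e569c52a5b90ef59c468a9c39bea85ac7a5b6c09c96a69c56a54ffffff9bd1bd9bde3a9c2a7b9c32829bee1f9c2266b3aee59bf6669bfe80a58abf9c1e959c161c9c0e4c9c0698a42ebc9be67efffffffa48ebd9bc27d9b96a29b89bca38eba9bca56b1e6e19baa6b9ba2a3bb32fc9b9e929bbdc0a5bec0a852c79bb2559bb6a3cffffffb4c2e8b832f29b49bc9b92a39b82269b724db25ae29b566a9b5e6ab426e6bb8efd9b65bfa436bc9b7a549b6e4ca65ac2dffffff9b31b89b3a329ad9b69ae6949b428e9b26499aee8e9afe609b0652a726c49b164c9b2de99af6959b0e6cbb7efd9b1e95d)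
  (N 704 (L
  0xffffffa5e68aaa3acca5e254a5da9daa72cdb06adda5ca81b1aee0a5cec0b862f3aa22cca5a5e5a5c2a3a5baa5a5b285a5d2c04ffffffa549e2a5564aa59602a59e93a55e74a592bfa5666da56e7fad12d4a58ea4b36ee4a58672a57e8da996cba5768ba9becbfffffffa539e4a542b2a5265fa52e01a5361aa4d1e1a4fe4ea4e5e5a4eeb6a51607a50eb6be8704a50670a4f657a51e1aa4ddffaffffffa48a7da492a3a4ca8bb612eba475e0a4c67da49a8bb776f0a4bebda4a28ab906f5a4aa37a4b2a7b4a6e7a4ba6da4827dbffffffa45a54a42a81a47222a46aa5a46237affedca4428ab0aadeb0b2dea44a8bbe1703a41de0a43aa2a68ac2a432a4a452544ffffffa3ca5fa3bddfa416b0a40e89a3e2bba406baa3f289b336e4a3fabaa3ea61a3de7fa3d63fab12cfb12edfa3fea8a3cebbeffffffa375e0a369dea3b61ea3aea6a392a3a40abba3a285ae96d8a3f6bba39a6ca38a91a3823aaa8acda736c4a3aa81a37abaeffffffa361e9a702c4a34ddba3564ba35e4fa2f9d8a3264fa30df4a31606a33e0ca335e0be1f03a32e6ea31e48a34632a305e9affffffa2f276a2b600a91ec9ae56d7a2c675a2f6b8a2d641a2eab8a7fac6a2e6aba2de05a2a9d7a2ce41b932f6a2be79a81ec64ffffffab4ad0a2a1f7a28e35a29613a29e07a231d6a25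e35a245f6a24df5a2761aa26e27a286afa26640a25636a27e07a23e07affffffa229ffaebed9a21e30a225d7a8dec8a1d9d3a1fe34a1ee0da4eabea20df7a50abeb53ae9a20642a1f63ea21615a1e5e4affffffb31ae4a1d20ca1be31a1c63ba1ce3ba169d1a1963ba17ddfa185fea1ae32a1a672b35ee4a19e38a18e4aa1b60ca1760caffffffa161f3aa56cda14deca15616a15e8aa0f1cfa11e37a10606a10df4a135e0a12e0ca1468ba1263da115e2a13e72a0fdf3affffffa0ee24a08a8ca0e626a0a23da0d651a0cdcca0c6b3a09a2ba0b9cda0c22ba07dcbbda702a0b21ba0a9eca091e6a0de135ffffffa546bea039e4a07680acd2d3a02dc7a07282a04280a06282aef6d9a04a5ba06a69a05267abf2d1af06d9a05aa9aec6d9bffffffa025c7a0161a9fd6619fc9c5a01de4a00ab19fe67fa0066d9fee5baee6d99fde87a011e49ffe629ff65ba8eac9a8bac8c)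
  (L
  0xffffffab85f7ab4eb7ab9e47ab8e2eab75f5ab9697ab5e46ab7e97abead1ab6e62ab6658ab41f5aefed9abfad1ab56aeabb2d14ffffffaad9f4aae65cab2a79ab3aafaaeecfab32cdaaf658aafec4ab06cdab2660add6d6ab1e5cab16bbae9ed8ab0eceaaeacffffffffaad2ceaad6ceaace76aac6aeaaaaceb20ee1aaba56b2dee3b2e6e3ba86fab6f6efaaa1f4aab2a8af36daab0acfaabece4ffffffaa5ab4aa4df3aa9a5daa9255aa76c0ab36cfaa8655b116dfab02cfaa7e49aa6ecbaa664aaa8ebab34ee4b222e1aa5ecdeffffffaa36c0a9fe8aaa4681aa3e2aa9e9f3afa6dbaa0654ac52d2aa32ccb486e7aa26c0aa0e0daa1692aa2e8aaa1e82a9f68abffffffa9ca0fa98a72a9e5faa9dac3a9d20da9decba9aa53a9ba9fadf6d6a9b298aa6acda97df3a9a291a99abfa99284a9c2bf4ffffffa925f1a93267ae0ed6a96dfdbe9704a976a0a93a52a942c3a94aa0a962afa96ac8a95a1aad6ed5a952a0bebb04ad8ed5fffffffa912a9be7704ae5ed7a922b8a919f1b55ee9a8fe50a906a7a90ac9af96dbbccb00a8e1f1b75ef0a8f668a8eeb1b522e94ffffffa8ca70a8d271a88a60a87deda8dab6a8b6c8a8929fa8b253a89a62abd2d1a966caa8c615a8aa5ba8a262b54ae9a8beb1cffffffb8eef5bd0701a842c2a835eba8769cb1cee0a84a9cb05a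dda84ec7bd1f01b252e2a871f0a85ea5a856a3a8669ba86ac7cffffffa82a78a7d20ba832a7a7e684a80e79a81ac6a8163ca7dec6a7feb8a8069ea7c5eba7f5eca7ee3cbdbf02a7da75a822b85ffffffa7624ba755eaa7b698a7bec1a78212ac06d1a79298abe2d1a79a97a78a53a77a55a77217a7aa82a7b297a7a292a76a97effffffa706b9a6f9e9a74a8fa74e9ba7229bb15adfa7329baafacfb11edfa72aa1a71a8da71238b356e4a73abaa73e9ca70ac4effffffa6a610a699e8a9d6cba6f1fab7caf1a6ea8ea6ce49a93ecaa6d68ea6c655a6be53a6b5f6a6de93a6e68ebb4afca6ae93effffffb7baf1b416e6a691eba83ec7a651e8b0dadea66692afdedcafeedca66e84b81af2a675eea67e54a68ebca68698a65ea2bffffffa5fa2ba5ede6a7c2c5a64298acb6d3a64a90a61ec1a6268ca62e2ea61a5da611faa60a24a6368ca63e2dbbd6fea60290e)))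
  (N 752 (N 736 (L
  0xffffffb1c2aeb17ad2b1da4db1caaab18aafb1d2c7b1a2adb1b2c0b1b6e0be9f04b1aad2b16e07b19a6bb19256b182afb1bae04ffffffb0f206b0fe44b16223b16658b10aadb156c4b112afb11acdb122c4b14a52b1529fb14235b13ad8b132bbb12aadb102dffffffffb0c64db0eaadb0e620b0d656b0ce06b0dec2b0a6aeb0aebcb0b6bcb6feefba7efab08206b09e6ab096dcb08e46b0be4d4ffffffb99ef7bce700b032dcb02605b07eddb06ec0b042a8b05ec7b046ddbcd300b03adbb07a0ab05656b04e6bb06689b072ddcffffffb89ef4b01650afc605b02eddb01e45b002bcafd2a9afe2c2aff2c2afead7b9c6f8b00a09afda4db092deb01280affa6adffffffb52ae9bb02fbaf76daaf6a00afbe04afaaccaf7e6ab27ee2af82dbaf9ac9b036ddafba04af92aeaf8aa9afa2d9afb2a9cffffffb6d6efaf4ed7af1e00af72dbaf56d8b2fae3af2a6bb1f6e1b1fee1b9bef8af62d7af4203af32adaf3aceaf4ad8af5edadffffffaec2b6aeb5ffaf0e66af1690aee271b3fae5aef266b3b6e5aefab2aeeab1aeda89aed271af02d0af0ab2af9edbaecab2effffffae6e30ae61feaeaa59aeae69af5adab37ae4ae9269ae9abab33ee4ae8a5aae82d4ae7a65b136dfaea2cfaf46daae72d8effffffaf52dab726efae52b8ae5ac9ae21feb7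2eefae2e68ae4684ae4e84afe6dcaf66daae361db596eab6e6efae3ed4b71eefbffffffae0a1dadba65ae1dfdae12caade9fbae16d6add262adf28dadfacbade246addacfadadfbadca7fadc2d4b6deefae02d44ffffffada604ad9e15ad4ad4ad3df8bae2fbad8a87ad5a5aad8293ad6287ad7a69ad525bad99ffad72caad6a87babefbad92cacffffffad2603ad2dfbace9f8ad46d5ad361dad1ad4acf65bad0691ad16bfad0e80ae7ed8ad21feacfe9fadbed6ae3ad7adfed6dffffffacde25ac8213acd6b2ace280acbac1acc68cacbed3ac8a90acaa2dacb259ac75f8aca1f9ac9a90ac922ebc32ffacce8c5ffffffb176e0ac26aeac72adac6a2cac3627b28ee2ac4e4dac56ccac5ad2b532e9b1a6e0ac19f7ac46a9ac3eaeac2ed1ac62ae4ffffffabae07aba1f5ac0a46ac1229abcdf7ac02c5abde47abe6c5abeed0abd6c8abc6afabbe27abf6b2abfed0ac2ad2abb6d0e)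
  (L
  0xffffffb78e68b74a6bb7aeefb79eecb7963eb7a668b76aefb77abdb77ef0b772aeb98ef7b73e3eb762c9b75ae9b75262b786684ffffffb72ad7b6dadab73aecb7aaf0b70a30b732d7b766f0b7128bb71a8bb702deb6faceb6ce30b6f250b6ead7b6e2d6b722d74ffffffbdc702bc0efeb88af3b7eaf1b6c2edb6caeeb6c6eeb6a2eeb6baedbd9702b6922ab6b22bbbe6feb6aa9eb69e8cbc7eff5ffffffb922f6bc8effbedf04b8def4b6beeeb68eedb67eedb68aedb6b6eeb94ef6b6862cb66625bc4effb67aabb67290bc06fe4ffffffb662ecb65eecb79af0b736efb64aebb652ecb64eecb62aecb642ebbc66ffb61a20b63a21b93af6b63241b62659b65aeb5ffffffb602ebb5feebb616bdb60a8bb646ecb60eebb5eeebb5faebb63eecbbfafeb5f622b5d61bbdb702b5ea3cb5e25db656ec4ffffffb9def8b57a6ab95af6b5cee9b56619b5ca50b582e9b5b2e8b5c2e8b58a4db5baadb59234b59ad7b5aa50b5a29fb57250bffffffbab6fbb52edbb5d2eab966f6b51a15b562c9b57eeab556e7b55ae9b536d2be8f04b53eb6b54668b756f0b54ec8b526c9bffffffb7faf2b4c6a2bddf02b50ee7b4d617b516e6b4eee7b5aeeab5beeab4fe54b4f681b4ba12b4e684b4dee6b4ce91b506e64ffffffbb22fcb482e2b50ae8bde702b46e11b4b6a7b4eae8b552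e9b4aee7b48accb87af3b49216b49a7db4aabdb4a296b47aa7bffffffb41ac2b7e2f1b45e3cb4667db40e10b512e8b422a7b44a50b45a50b42aa2b4529cb4323db43a8bb4dae8b4428db502e8bffffffb38e0db39a83b3fe7eb4062db3aa72b3f6d9b3b2a4b3bad9b3c282b3ea6db3f2a6b3e274b3da97b3d282b3ca8ab3a282fffffffb3120cb31eb5b38275b38685b32aa6b376d8b332a6b33abbb342d8b36a95b372bfb362b5b35ac4b352cdb34ae3b322e4fffffffb30ae3b30ee3b30678b2f68ab2baa5b2fedab2d2a5b2e2ceb2eacebe0f03b2da8bb2ae0cb2ca9cb2c2e1b346e4b2eee34ffffffb47ee7bb1afcb24ee1b2420bb2a63db292d2b25ea2b282dbb262e2b27aa7b256c7b2a210b2728ab26a92b28a97b29a92cffffffb2268bb22e84b1de0bb24ae2b23685b212ceb1eaa3b1fadab202dab822f2b20a84b21a0fb1f281b2bee3b21ecdb23ee1d))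
  (N 768 (L
  0xffffffbceaddbca2f7bcfaf8bcf2abbcaf00bed704bcc6f9bd5f01bcdb00bcd6ddbccec9bc9686bcbef7bcb6fbbcaa87bce2f74ffffffbc92edbc2ef6bc8af7bc42fabc72febc7affbc76ffbc3affbc62febc6aecbc2276bc5a77bc52edbc4a7abc36d3bc82ee5ffffffbc12eebd8302bc1ef5be6703bc6effbc16febbeefebc02febc5effbbfeebbbf678bbce73bbeaeebbe27cbbdac1bc0aed4ffffffbbb29cbdf703bbca7cbbbafcbd3701bbc2f1bd1701bba2f9bbaaf9bb9a9cbb92a2bb766ebe2f03bb8af1bb82a1bdff034ffffffbb1ee2bb26e7bbb6fdbb6e7cbb0a6cbb6af5bb2ef2bb56fbbb62fcbb36a3bb5e7dbb3e6fbb46f3bd4701bb4ec3bb16f3bffffffbb06dbbabae9bafef9baca7abae6d5baf6f7baeef8bb52fcbad6fbbade6bbaae68bad270bec304bcb300bac2d5be7f045ffffffba9af9ba56a8bc3effbaa2f7ba62fabaaaf8ba7af7be4f03be5703ba8aceba82deba4a5fba72f9ba6af8ba5e60ba92f94ffffffba36a8ba96faba467abafafbba16f9ba3ef4bcc300bb9efdbba6fdba2ea8ba266aba065eba6efaba1ef4ba1261ba8efa4ffffffb9b26ab9e2eaba02abbcf700b9f25abaa6fabaeafbb9eaf2b9faf2b9c2dab9cadcb9d264b9daf4ba66fab9a65ab9baf41ffffffbc9f00b9a2ddba9efabc86ffb98af7baf2fbba7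6fab982f5b986f7b96e56b992f0b97a57bcbb00becb04b99aa0bcdf006ffffffbc2affb926edb96ae9b95eeabdaf02b962f6b942f6b956f6bdd702b952edb94aaab91a51b93eecb936b8b92eb0bd8b024ffffffbd4f01b8f2c7be5f03bc1afebe2703bb66fcbe0703b97ef7b916f5b912a5b90abdb8e64fbd3f01b902f3b8faacbd0f014ffffffb8da50b8a2dcb8e2edbee704b8d252ba3af9bea704b8b2f1b8c2f1b8caadb8964db8ba4eb9d6f8ba1af9b8aa52b9b6f85ffffffb84ea7b85692b88ef1b886eeb84249bd5701b85ef1beaf04b882f3b866c0b87ee7b86e4bbb42fcb8fef5b87693bb12fcbffffffb836a2b7fee8b83e9ebd7301b80e93be4703bb2afcb9e6f8b9f6f8b826e1b81ec2b7f248b816f1be3703b80649b82ef14ffffffb7e6e6b7bec2b7eeeeb892f3b7cec3bbbefdb85af3b8aef4b8bef4b7de81b7d654b7b243b812f2bb86fdb7c66cb82af24)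
  (L
  0xffffffbe7ac9be6ea9bee2f4bedaedbe9acabed300beaaf4beb2f3beb704bea2e0be92e9be8abebec6fbbecef7bebecabe82fbeffffffbdfafdbe429cbe6afebe62f5be2af5be4af2be0af5be52fabe5afabe12e3be1abcbe22b9be32fdbe3af2bdee95be02fd1ffffffbd86febdcaeebdeae7bde2e8bdb2f6bdcf02bd9302bdd302bddaf6bd9aeebda29dbdaab3bdbaebbdc2c6bd7a8fbd8ef61ffffffbd0ac7bd52f5bd76f2bd6e9ebd3afdbd5af3bd1afdbd6300bd6701bd22c7bd2aa7bd3299bd42f5bd4afcbcfe8ebd12f51)))))))
  Tr.N Tr.L
noncomputable def tree : Tr := (.N 384 t0 t1)

noncomputable def wtree : WT :=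
  (by
  refine (?fq9003 : ((pk61r (fun r0 j => pk61f j fun i1 => (pk61f (pk61d (nat_lit 9) 
    (nat_lit 0x143a1506813f9f4f6793ba250e853a9cd06813f9c4de6d3e9ecf26b3b9d4d2673298ce67137984da6b2f974b66933994b2633095caa532893cbe5d2d934b257259248e55299448a4f2690c823f1e92c92471d91486391b8d4823f1e8cc7639188bc5a2b1489c6e35198944631178b4421f0e8ac52270d89446190b85426210f874221b0c83c1a0b0b85426090883c0e0501803fe0d05823fa07027ebf1f701803fdf4fe7ebe5f0f77b3f1f6fa7abe5f0f479bc9eef67abc5e8f3783bddced763add4f278bc1d2e877bb9dae773395d8eb75391d2e871b89c2e073b99cadf7238dbcdd6e389c2e06db7dbcda6cb61aed66eb71b6d56d365a8d369361aed668b55a8d067b399ad36934598d067b2d94c96733598c865b298ec662b1186c264b218ec16331580bf5f31186c25eb0580bc5dae972bf5f2f570bc5dadd6cb55d2e570b45bad966b258ac15eb55a2cd5cb258ab558ab582bd5caa56ab152a853a9956aa54a9550a75228d44a652a9142a3512813e9e4ea71369a4ca85409f4c25d3c9d4e2592a944da6932934c25d24914823d2c954a239269246a3116914823d148e46a25108743215188b45211128841a090287432150084419fc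fc7d3e20902803d9fcfc7a3c9e0fa7c3d9dcf4793b1d4e873391c4f0773b1c0ea74379b8da73391c4d870379acd469341b8da6c339acd46632990d2683398ccc6531184c05f2f190c6622e984c05c2d968be5e2e964b85b2c15cac552d164b0542b958a65228954a85328148a24f27134984b25124a04f271208e4d2612c8c452212892482191c8c42209007e452210c7c42208f4783b200fc7c3a1e8f072381b8d86a3b1d0e468381b8cc64311b0d46830198c85e2e168b06230178ac5c2d150a4502c158a84e29140984a241188842271309440241187c3c1d11084401c0f878361a0c8603a1c0d85c34190b05428180b85826150a048221007838261208834200f0602c140e06830120b050200e06028241007020180a03010040803010000200) i1) fun u7 => (pk61f (pk61d (nat_lit 1) 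
    (nat_lit 0x1ff18e2789c4f89c4f1389f8c713c4e27c4e2789c4fe31c4f1389f1389e2713f1389e2713e2713c4e27f8c713c4e27c4e2789c4fc4e2789c4f89c4f1389fc6389e2713e2713c4e27e2713c4e27c4e2789c4) i1) fun t1_0 => (pk61c (Nat.div t1_0 (nat_lit 1)) (_root_.Cfsg.Agent.SporadicRecognition.CosetCert.WT.L (pk61d (nat_lit 5) 
    (nat_lit 0x50a9ed3054e5bc01020c53ad68128eb3b88b742107ad473b8ab6312f52cad7850b138c832d87299e47c1f061d904018d42d687bc0c631af5394d3a4e013dce5bd21190a6021ce311670a8a9380aa5282253086229ed5250e7ac8a50164188255284d610a8234a7428432180d635ea2098a6360f801a8501a110d853a5a50a82a205423aca23ac255a8684a8c3424c90916d1306531c0972da7214c140c4f31480729603a0620ac0b594e93250808c405902910ca60390928823219c070141220c311d2563c24500a239903) u7) ((fun g1 : Nat → Nat => pk61l (fun i2 => (pk61d (nat_lit 4) 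
    (nat_lit 0x96594e1f57a53f366d56e3f34040bab96abab614e1a4baba4a1f144104e1f460637c8dd6e6c6f0520bab7baba6abab96aba12b218135e2fbab0abab0bab7ababab7abab7bf6c67bf6c67bf6c67bf6c636e3aba4ababa7bab7ba1e4e1f14e2f255f2e6a36e6a36e6a3654b5babababb7b7b0700f07a5a4aba4abaa3c3a56c659561f411a101b1151cc2f2581833833b3929363e3e6d6f6ca6a6e6c6f6d6b678c85a5a025006309f957475f22e5f8f8979873c2978987c8d78c8b8b95205720c08d789b8b0b08b8979793f63b76d6eb76d6eb76d6eb76d6603665c6521c132c31d1257f72a29e986a62d32720909879909f25e6f33e66c6e6d62b212f5229322122322422522622022822e552e2484810405b455759198a89569191c0d02d027ce2f23d3ac3c3ad7a7d521cb21bbab4aba443c34abab4aba5659496a68bfb43d347bab7bab596558541e14f1abababaa4a4a75a5ba4abab450255b54545535525515b5b41a0110a15c1d11d521125c10401b54b6866465d621c1d1271183101a11211311411611010d720027c00d027ee5a57d43c3c3d39d99a96f6c6e69c9e0e06d6f6c6027c0de0e6f6d6e66a6a6a8636066d656166266366c5656676696a3d3ac1d120a1a0a0f14eb7abab7be1f1e4f5a75f52ef7efbe2e2fe5fe7febf25c1d4544b46f63a6f63a6f63f63ef8ef9e36e6a36e6a36e63e3fe6fe8fe9f464494831886488b988d878288c78388588688788088988e898b87d820c0d0140205030600100800300200e0f3ef2ef1ef0fff4a4a445b54014475448644344244149b927c0df6c67bf6c67bf6c67bf6c67ab7bab7aa75aa7ac9ca68aa9aa8a787a01aa3aa2aa0a7b7b77457712779877277377577677077e7b98bb9b4b5bb2b1b1bb3bb4bb6bbebb0b6d6e6c6d720cda3c3d125c3d34cd87cd56cd23cd3cd8cd9dd6cdd6c6f6d6c1d52c43d3ca3d3c0d72c6d63c3dc8d8c5dc7dc2d)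 i2)) (g1 u7) (g1 (Nat.succ u7)) List.nil) fun j => (pk61d (nat_lit 11) 
    (nat_lit 0x2b8d6dad3596b0d5dab3556a5d47a7f4ee9bd33a5f4ae92520a3143a85506a053e678ce99a533a634be9772da58cad93f26e4a48f91922642c7d8f11d23846c8d1196314608b91622ac5289d12a21c3f8710d618c2d8530961141e83705e0a40f819022023ff7f6fddf93ee7d4f9df1bdf7b6f11e03bc76eecdd73ab750e95d0b9e736e61ca39171ae29c3b806f8de1ba3716dcdadb43656c4d7dae3586a8d41a634968cd0d9fb3c66ecc997329648c858e318620c2d81b005fabe57b2f15d2b95712de5b6b5167acb586afd5dab856aac957aab54ea8d4f299528a414628950ca0d3f27a4ec9c937a6c4d299931a5e4b29512924e4929152123f4708d518a2a4488850d21642483905207408804ff1fb3f07d4f81eb3ce790f01d83a8744e69c938c70cdf9bc3726d8d89ae356674cc996326614c097e2f65e0ba9722dc5a8b31622be570ac9562a6540a694a28e50ca013b26e4cc9792c2524989192023a4688b914224434849052023f47d0f71e83c4760d519a324630c317e2f05c8b61642bc560a91482804e09812a2484788c1122184107f0f61dc3a0710dc1ac340650bc1642a04f0941182103e0760e01a8320600a41201f0340540880d01201801800) j)))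 fun _ => (_root_.Cfsg.Agent.SporadicRecognition.CosetCert.WT.N (pk61d (nat_lit 9) 
    (nat_lit 0x513ce39309d4fe8543a2502833c9ecfa77359bce27336994ce6931934ae5b2e97cb251299549e432392496451e8fc823b0788c5a331a8dc5e31138a456250c8743e210d84c2a17087ec0a09058340dff0080bf9f0fa7dbf1f2f57b3dde8ca6f3a1daf078bc9dcef753add8e971b95cce772381c2e26fb51b2db6e375b4d66bb61aacf68b49a6d0663359ccb5b3018ac7643258cc261b1182bb5eaf97ebc5c2e574b7562c566b45aac95caf582b54ea9552ad50a452a9946513ca352e9c4fa81429d4f265349b4c24928954b24d1e9048a3906884522d188942a190e843f20102823f9ecf87d3d194de743b1dcf075389c8e670351b0da6e3599cd0693316cc06231990c25d2f17cb8562c164b45729950aa52140f08c4b2713ca04c26920924a239048644229087c3f200f464371c8e876381a0d46c33168bc6031170a8562c148503c23128984e2410084441f0c86c381d0d0582e180a8281e110904c200c0683816050382012060100c0801) u7) (r0 (Nat.sub i1 (pk61d (nat_lit 9) 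
    (nat_lit 0x14652288a42a14058280c050180802) (pk61d (nat_lit 4) 
    (nat_lit 0xcb98642101021003210021005321002100321002100864210102100321002100532100210032100210098642101021003210021005321002100321002100753210021003210021005321002100321002100a9864210102100321002100532100210032100210075321002100321002100532100210032100210098642101021003210021005321002100321002100753210021003210021005321002100321002100) u7)))) (r0 (Nat.sub i1 (nat_lit 1)))))))) (_root_.Cfsg.Agent.SporadicRecognition.CosetCert.WT.L (nat_lit 0) List.nil) (nat_lit 10) (nat_lit 648)) : WT)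
    = ?xq9003 → (WT)) ?hq9003; (case hq9003 => (set_option maxRecDepth 1000000 in conv => lhs; reduce)); intro _; exact ?xq9003 : WT)

noncomputable def stree : _root_.Cfsg.Agent.SporadicRecognition.CosetCert.ST := beta% (fun (N : Nat → _root_.Cfsg.Agent.SporadicRecognition.CosetCert.ST → _root_.Cfsg.Agent.SporadicRecognition.CosetCert.ST → _root_.Cfsg.Agent.SporadicRecognition.CosetCert.ST) (L : Nat → List Nat → List Nat → _root_.Cfsg.Agent.SporadicRecognition.CosetCert.ST) (c :
  Nat → List Nat → List Nat) (n : List Nat) => (N 6 (N 3 (N 1 (L 0 n n) (N 2 (L 1 n n) (L 2 n n))) (N 4 (L 3 n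
  n) (N 5 (L 4 n n) (L 5 n n)))) (N 9 (N 7 (L 6 n n) (N 8 (L 7 n n) (L 8 n n))) (N 11 (N 10 (L 9 n n) (L 10 n
  n)) (N 12 (L 11 n n) (L 14 n n)))))) ST.N ST.L (@List.cons Nat) (@List.nil Nat)

noncomputable def C : Cert where
  data := tree
  lm := 15
  rb := 412
  fb := 24
  mask := 16777215
  B := 1024
  k := 16
  N := 772
  inv := fun x => bif Nat.beq x 0 then 0 else bif Nat.beq x 1 then 1 else bif Nat.beq x 2 then 2 else bif Nat.beq x 3 then 3 else bif Nat.beq x 4 then 4 else bif Nat.beq x 5 then 5 else bif Nat.beq x 6 then 6 else bif Nat.beq x 7 then 7 else bif Nat.beq x 8 then 8 else bif Nat.beq x 9 then 9 else bif Nat.beq x 10 then 10 else bif Nat.beq x 11 then 11 else bif Nat.beq x 12 then 13 else bif Nat.beq x 13 then 12 else bif Nat.beq x 14 then 15 else bif Nat.beq x 15 then 14 else x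
  words := wtree
  subs := stree

def rels : List (List Nat) :=
  (by
  refine (?fq9004 : (fun (On : (n : Nat) → OfNat Nat n → Nat) (In : (n : Nat) → OfNat Nat n) => ((pk61l (fun i1 => ((fun g1 : Nat → Nat => pk61l (fun i2 => (pk61o On In (pk61d (nat_lit 4) 
    (nat_lit 0xeb76d6eb76d6eb76d6eb76d63a6f63a6f63a6f6abab5abab5abab596abab6abab0abab2abab29abab9abababab8abab8abab3abab3abab1abab1abab0abab04abab4ababab7abab76c6e6d6fababababa3c3ad43c34d125c1d027c0db7b7b7a4a4a441e1f52e2f63e3f78c8d56c6d23c3d98b8b86a6a75a5a897974b5b56959568484574741b2b2392920a1a13818127171360602505014040bebf7e7f8e8f9e9f1e4f2e5f3e6fe0e08c7d6c5d3c2dc9c99b9b9a9a8a8a7a7a98988787b6b6969686867676858575756565b4b4949464645454b3b3a3a3939383837373636353534343a2a2828272726262525242423232b1b1919161615151414131312121b0b0a0a0909080807070303020201010eeeccc) i2))) (g1 i1) (g1 (Nat.succ i1)) List.nil) fun j => (pk61d (nat_lit 10) 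
    (nat_lit 0x8920c7f5ee78dd8739c46e9b06999d6518c6117e5e1725b1665815b55951531475093d4e1334b9294911f469154410b419013f0f73c8ee3a8e6388de368d6348ce328c6308be2e8b62c8ae2a8a62889e268962488e228862087e1e8761c86e1a8661885e168561484e128461083e0e8360c82e0a8260881e068160480e0280600c00) j))) (nat_lit 0) (nat_lit 103) List.nil) : List (List Nat)))
    = ?xq9004 → (List (List Nat))) ?hq9004; (case hq9004 => (set_option maxRecDepth 1000000 in conv => lhs; reduce)); intro _; exact ?xq9004 (@OfNat.ofNat Nat) instOfNatNat : List (List Nat))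

end Cfsg.Agent.Held.PM24Data
end

-- part: Held/PM24Chk0
section
set_option autoImplicit false
set_option maxRecDepth 100000

namespace Cfsg.Agent.Held.PM24Chk0

open Cfsg.Agent.SporadicRecognition.CosetCert Cfsg.Agent.Held.PM24Data

private theorem alC : Cfsg.Agent.SporadicRecognition.CertFast.al (Nat.succ C.lm) C.data = true := by decide +kernel

theorem c0 : _root_.Cfsg.Agent.SporadicRecognition.CosetCert.Part C 0 64 62 := Cfsg.Agent.SporadicRecognition.CertFast.part_fast C alC 62 (by decide +kernel : Cfsg.Agent.SporadicRecognition.CertFast.runF C 13 8191 0x4a980080020b3001198c004002001008c0a60020010008f2600200100040040023919d4c00400200111cc8c693300100082868a300090cd1c691337180080046330010008e260023218008ec61630010008004002000ad0c0042131a9868d4a6b030e1878c3a6183001000400400239181cc00400201991cc8c6083001248c1268a300090cd1c6002371800800463337980080040023219c0cec639300100080040020008008004213001068c0041b30e1878c3a618300100040040020011a8c00468339991cc8c64530011d0c0040020009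0cc0040020011e0c004633379994c0040020011c0c0044430010008004001589854c004123071844c00400208183cd08616300100080020b300101cc004013019a68c004002001810cda606300100051260023918008ce600200111cc8c64530010008f2600200090cc0040023719a8cc46002001194ce267730010008ec644300100090a6002359908cc063e31f980080040011e98f0c7664034a98008004001001198c686683071844c18645334983ccf260024a980080020b3001198c1a6683399808c0a64533499d0cf268a3000000000400100000000000000000000000000000000000016300000000020b300000000000000000000000000000000000000000100051260023918008ce612339991cc8c60020819d0c2868a300090cc5e82f4371a40cc4663337980080040023219c0cec62f400100080040020008008406213001068c0041b30e1878c3a6183461800800400200100080040020010004004a33411a0cc00400200100051268f33918008ce601300111cc8c600200180081268a300090cc5c82e4371a40cc4663337980080040023219c0cec600200100080040020008008406213001068c0041b30e1878c3a61830518008fa68130010008fc60020010008f869b3251924c00400100100040040020011e8cce668339991cc8c64533499d0c00400200090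cc0040b30011e0cc4663337980080040023219c0c0044430010008004001001054c686123071800818600208183cc28616300100080020b300101cc1a6013019808d426002001810c00406300100051268f33919d4cce668300111cc8c64533498008f2600200090cc0040023718008c466330010008e267733218008ec6443461800800400100100080040023f9800900613308183cc00400205180080020b300100081a600201980080a6083001810c0040020010008004002359908cc063e31f9984c0040011e98f0c7664030010004004002391800800400239991cc8c64530011d0cf2600200090cc0040023719a8c004002379994c0047730011c0cec644300100080040010010008004123001044c00413308183cd08686300100080020b300100080044b3001134c004083001810cda63930010008004002001108c0043e31f98008d860011e98f0c76640300100090a60021b9800464600200100080040021718b4c5e62c300114cc00400200121cc00400100115ccb065e32c996ccbe60022418008a265a32919e8ca86002001134c9c64f3251924c9860010010004004002391998cce668339991cc8c64533499d0cf2600200090cc0040023718008c4663337980080047733219c0cec644300100080040010010008686883071800818613308183cc286163001000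80020b300100081a6013281808c004083001810cf660020010008004002001108cc063e31f9984cd860011e98f0c76640300105cc0040011d1854c0040022b1844c18613308183cc28600205180080020b300101cc1a6002019808c0a6083001810c12600200100080040021b980046463130010ccc0040021718b4c5e62c300105cc0040012e9854c004123001044c18613308183cc28655305180080020b300101cc0044b3001008c0a6083001810c126393001000800400220980040040021a980086c60021718b4c5e62c3001088cb860021598008506002000890c4a62a313189cc52623300105cc0040011c1854c686002071844c18613308183cc28616305180080020b300101cc1a6013281808c0a6083001810c126002001000800400220980046463131a98ccc6c60021718b4c5e62c3001088c0040021598008506303000890c4a62a313189cc526233001064c0040020008008004002001068c3e61b30e1878c3a6183001064c0040020008008406213001068c3e61b30e1878c3a618300105cc004001001054c004123071844c18613308183cc28616305180080020b300101cc1a6013019808c0a6083001810c126063001031400400205a829412a08503a81940aa04501a809402a005 26 67108863 0x234c0008b300000000000000000000000000000000000000000000000000000000000000000000000000000000000000000000000000000000000000000000000000000000000000000000000000000000000000000000000000000000000000000000000000000000000000000000000000000000000000000000000000000000000000000000000000000000000000000000000000000000000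 0 64 = 63)

theorem c1 : _root_.Cfsg.Agent.SporadicRecognition.CosetCert.Part C 64 128 64 := Cfsg.Agent.SporadicRecognition.CertFast.part_fast C alC 64 (by decide +kernel : Cfsg.Agent.SporadicRecognition.CertFast.runF C 13 8191 0x4a980080040020008008004002001068c3e6002001078cf26002001000800400258980080043e31f9800800400100100080040020010004004002001000800421339991cc0041b3001310db868a300090cc004002001000800463337980083e6b033219c0cec618300100080040010013a4c004002071800818600208183cc28616300100080020b30010008004013001008c004d230018008004002001000800400237180080043e31f9800800400100100080040020010004004002001000800421339991cc0041b30011d0c3a68a300090cc004002001000800463337980080047733219c0cec618300100080040010013a4c004002071844c18693308183cc28616300100080020b3001278c004013001008c18608300180080040020010008004002001000400430300100084a60021718b4c5e62c30010008004002159800800431300080084a62a313189cc5262335e980080040020012ccc40621300100080020025798008004b235b980080040016f980080041230718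44c18600200100080044035b980080020b30010008004013019808c0a600200100080044030010004004002391854c00468339991cc8c6933001000800400200090cd1c6913371908c004633379994ce26bf30010008004443001000400400239181cc00468339991cc8c6083001248c00400200090cd1c6002371908c004633379994cd86bf30010f0c00444300100090a6002000b0cc00400200100080040020e1ab8d5a618300100051260023919a8cce668339991cc8c6453001000800400200090cd786a73371af8cc46633379994ce2600200100080044434a980080040020008008406002399868c3e60023499d0cf260024a980080040020008008406002399868c3e6002349878cf2600200100097860023598008c063e31f98008d860013218f0c00400200100040040020010008ce621339991cc0041b30e180083a68a300090cc0040020010008c4663337980080040023219c0cec61830010008004001001054c686123071b4cc18600208183cc28616300100080020b300101cc1a6013659808c004d2300180080040630010008b860025b180046460020010ccc004b5317180085e600200100080040025b180086460020008ccc4a6c131318b4c5262c300100080040020011d4c004002001068c002002579ab8d5a6b2300080092c6973371800800400200119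4ce2600200100087660025e98008004002000ad0c0040021a980094a6b030e180080040020010008004c233718008c063e31f98008004001321800800400200100040040020010008ce621339991cc0041b30e19d0c3a68a300090cc0040020010008c4663337980080047733219c0cec61830010008004001001054c686002071800818693308183cc28616300100080020b300101cc1a6013001008c004083001800800400200100080040020010004506303001090c4a600217180085e600200100080040025b18008506313000890c4a6b531318b4c5262c35e980080040020012ccd746b93001068c0020025798008004b2300080092c60023718008c46002001194ce2600200100087660025e98008004002000ad0c4060021a98008004b030e180080040025b980080040010012acc686123071844c1869b334983cc0044035b980080020b30012a8c1a6013019808c0a69b3349800800440300100051260023918008ce668339991cc8c60020819d0c00400200090cd506a73371908cc46633379984c004a631e99c0c00444300100080040020008008406213001300c0040020e1878c3a6183461ae0c004002589a1cc004a433f98004004002411a0cc00486300100051268f33918008ce668339991cc8c6002001aa4c00400200090cc004002371908cc46633379984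cd867731e98f0c00444300100080040020008009746b93001300d5860020e1ab8d5a6183051ae0d446813589a78cfc69f350180080040024e1a74c00299300080093069733718008004002379994c0040020011c0c7660025e98008004002000aecc0040021a980080041b30e1800800400200080092c60023718008c46002001194ce2600200100087660025e98008004002000800840600200100094a6b030e1800800400200100051268f33919e8cce668339991cc8c6453349800800400200090cd786c23371a50cc466333798008e260023218008004443461ae0c004001001054c004123071800900600208183cc004163051ae0c0020b358981cc1a601301980080a6002001810c0040634a98008004001001198c004002001044c1860020010008f26002 26 67108863 0 64 64 = 65)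

theorem c2 : _root_.Cfsg.Agent.SporadicRecognition.CosetCert.Part C 128 192 64 := Cfsg.Agent.SporadicRecognition.CertFast.part_fast C alC 64 (by decide +kernel : Cfsg.Agent.SporadicRecognition.CertFast.runF C 13 8191 0x100080040013598009cc6002001418cb065e300103ccbe6002241864c0020b30010008a86002001090e2a64f3001010c1260020010004004002001000800400239991cdb26da3001000800400200090cc0040020010008004002379984d4a61b31e980080044430010008004001001240c0041230010008d860021e983cc00455300100080020b3001240c00430300100099a60024e1a74d9e60630010008b87093159a50c506002000890c004002131ab8c52623300080080049130010008004002379994c0040020010f0d5a60020010008004001001054c004123001044c00493300103cc76655300100080020b339181cc0044b3001268c004083001010c0040024a980080040010010008686002071844c18693334983cc28600281980080020b300100081a6013001008c0a64533498008004d730010008fa71b300100046463131a98ccc6c60021718b4c5e62c300100080040010010008686123071c34c1861b341183ccec644300110cc0020b300100081a6013001008c004002321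ab8cec6002001000800400200100046463131a98ccc0040021718b4c5e62c300100040040023918008ce6683399844c8c64530819d0cf268a300090cc004ff30010008c4621337980080044533219c0c286443001088ca260b300080084060027f1808c0a61b30e1878c3a6002001064c0040023598008686001001044c18693308196ccbe6002001000800400200100080041230010004004002081a0cc004f130010004004ef32918008ce600239991cc8c6453001b8ccf2655300090ccb860b33918008c46633729c2cc0044530019c0c00444300110cc0040020008008406f73001068d4a61b30e180083a600200100091c6813001000800430300100099a6002001800800299300114ccfa65a300100081a60021a9c18c0a6083001800800400100100040040020010008ce668300111cc00445334989cc00400200090cc0040020010008c4663300100099260023219c0c00400200100080040012918008686002071800818693300103cc9860025e980080020b300100081a6002001008e0e6083001010c5260020010004b86002391800850668300111cc8c64531319d0cf268a300090cc0040023718008c4663300100080047733219c0cec644300100080040010010009cc60022b195ccb065e308183cc28600279980080020b30010008a86002019808c4a65e30018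00898600200080080040020010009746b93379800800400232180080040020010008004001001054d9860021f9800900600200103cc00416300100080020b300101ccc060130010008004002001010c00423376180092c60021598008506b93000890c004002131800852623300080080040020010008c46002379994d9260020010008ec600200114cc004001001054c686123001044c00408300103cc0041630013a8c0020b300101cc1a601301980080a6083001010c1260635b980080040020008008406213001068c3e600234980080044034a980080040020008009ba6d63001068c3e600234980080048a300100040040020010008ce668339991cc0041b36d9800800400200090cc0040020010008c46633379b00d9261b35798008004443001000800400100121cd9860023f98008d860021e983cc00400205180080020b30012accfc601300100080a60024e1a74c0040020010008004002159b18c506303000b00c0042a313189cc52623300100057860020010008ce668339991cc0041b30e1800800400200090cc0040020010008c4663337980094a67733219c0c0044434618008004001001320c686002071800818600208183cc28600200100080020b300131cc1a6013001008c00400200180098a60020010008004002159b18c506303000890c0042a313189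cc52623300080080040020010008004002379994c0040020012b8c7660020010008004001001338c004123001044c00493300103cc76655300100080020b30011e8c0044b3001268c004083001010c286ca36f1b50d786a73001000800400268180080020025798008004b2300080080040020010008c46002379994d9260020011c0cec60020010008004001001054c686123001044c004a3300103cd08655300100080020b300101cc1a64b3001268cf869b3001010c1260027618008b86973001000400400200100084a600217180085e60027618008b86973001000800400200080084a600213180085260025e9ae0d786a73000800800400200100080040020e180080041834a980080040020008008004002001068c3e60020011d0cf26002 26 67108863 0 128 64 = 65)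

theorem c3 : _root_.Cfsg.Agent.SporadicRecognition.CosetCert.Part C 192 256 64 := Cfsg.Agent.SporadicRecognition.CertFast.part_fast C alC 64 (by decide +kernel : Cfsg.Agent.SporadicRecognition.CertFast.runF C 13 8191 0x71180080040027b1aacc0050c3001268c0040010010f0c00455300100051c6002391800800468395991cc8c6083001248cf2606300090cc0040b30010008004213019808c004bf3321a48c12618300114cc004fd300080080040022b1868d4a645334983ccf26f130010008004c23391aacc0044b301980099a600200100080020025e980080045a3851bacc004002739890c0a6da300100080040014a9ba8c0040010010008004002071844c1864530818008286183001350c0020b30010008004213901808c0a64533498008004183001478cfa71b300100040043131a98ccc0040020010b4c5e62c38ca46500040018ca00080051948ca434e329194081c650ec71948b245900020b31598008004013001300c0051643218008ec6443001000800400237180040043131a980080040021718b4c5e62c30010004004913391800800468307191cc8c693300103ccf268a300090ce3a91d437180080042138ea044e3a8bf3321c75108644300100080040020008008004683001068d4a61b30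e1878c3a6002001064c004002001000800400100115cc00400200116cc2860020010005d060b3001000800421339991cc8c6083001248cf2618300090ce3891c43918008004633379c34cf86bf35799c0d5a64435e990cc0040020008008004013001360d4a6da30e1878c3a600200100080045a33598008004002739a68c4a600200100089860010010004004002001000800430300111cc4a645300109cc0048a300090cc0049130010008004633001194c4a60020011c0c00423300114cc00400100100080040022b195cc0040022c983cc986002001064c0020b33598008004002729808e0e6002251924c526e430010004004002159800800430300111cc4a64530011d0c5268a300090cc0040023718008004633001194c0047730011c0cec6233001000800400100100080040022b1844c004b032c983ccbe60025e980080020b32e98008004002729c18c004bf3251924c126e4300080080040020010008004002379994c0040020010008004002001438c0040010010008004002001000800400200103cc004553711b50c0020b36f980080044b35018008004002001010c00400276180090a60021598008506303000800800400213180085262334a98008004c230008008004002001068c3e600200100080048a30010004004002001000800400239991cc0041b300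1000800400200090cd0a71a30010008004002379994d4a61b300100080044430010008b87093159b18c50600200080080042a313189cc5262334a9888c0040017a98008686002001000818600234983cc286183001384c0020b337180081a630365980080040023499d0cf26443001000800400200100046460021a980086c60021718b4c5e6002001384c0040010010008686123001000818600234983cc2864434a9b80c0020b300100081a621301980080040023499d0cf260020012e0c00400200100046460021a980086c60021718b4c5e600200100080040010010008686123071844c18645308183cc2860024a980080020b300100081a6013001008c0a64533499d0cf260020010008fa71b300100046463131a98ccc6c60021718b4c5e62c300100091c60020010008004002739b60c004002001000400400291248900040010010008686633912044e449224321c890ec64438fa47d00020b38fa00081a71f4379c34cf871f40019c0cec71f4001000800400200100046463131a98ccc0040021718b4c5e62c3001354c004002001000800400268180080020020010008004d7300100080040020010008c466330010008004001001000800400200100040040020010008ce668307191cc8c645308183cc28618300090ce4c92643918008c46123932434e4c8002081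c9902864435e990cc004f930008008406002071868d4a61b30e1878c3a60020010008004002001054c686a4307180080040010010f0c00416300100055060b33918008ce64b300111cc8c64530018008f2606300090ce4a92540010008c46213019808c0044533218008004183001000a2860020008008406f432b1844d4a64530e1b10cf261630010008004c2339181cc1a69f3001000900600200100080022330010004b870931598008ce600200111cc0044533499d0c52600200090cc0040023718008c460020010008004773321ab8cec60026f1b50cb86002689800974600200100080022a357980095a6b230010004004002391800850600200111cc8c64531318008f268a300090cc0049133718008c4600200100080047733219c0cec6443 26 67108863 0 192 64 = 65)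

theorem c4 : _root_.Cfsg.Agent.SporadicRecognition.CosetCert.Part C 256 320 56 := Cfsg.Agent.SporadicRecognition.CertFast.part_fast C alC 56 (by decide +kernel : Cfsg.Agent.SporadicRecognition.CertFast.runF C 13 8191 0x5e98009da6002391a1cd9871133f98008004002001124c004001000800950600285181ccc46d6339980088c677300100080040635e9c38d446f030008008686002901800958600200100080048a300110cc0045a33718008a8600200080080042a30010008004002001478ca26813371c5ccfc600201980080044f313189cc00400100100040049733918008ce668300111cc4a64536d98008f2600200090cd2c6ff33718008c46633001300c4a67735798008ec6443809864c0040011d1b38c0040022b18008b065e325183cc004002001354c0020b3851b18c1a600201980080040024e1a74c004f139198008fa71b300100046463131a98ccc0040021718008004002711c38c004001881800868621307180080049330011c0c004002711c38c0020b300101cc1a6002001000800477300143cd0860630010008fa71b320980046463136818ccc6c61b31718b4c0042c30008009506a73001054cc464b3379800900677300120cc0041635e98009446fd300080081a60023f980080041b30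e1878c3a68a3809c78c0040021d1b38c00400100100089c64f32c996cc004002001478e2860023719e8c6860022b18008b064f3001124c0040010008009d0600200101ccc4668300100088c6b030010008004183001478ca26fd30008008406002379868db261b30e18008004443001064c0045a3851b18ca8600200080080049b300100080040025e98008a265a33919e8ca86002841800800408313189cc00400100100040040023918008ce668300111cc4a6453131800852600200090cd2c6002371a50cc4663300100084a67733218008ec644382990cc0040011d1a40c0040022b18009006bf325183cc00400279190cc0020b3001338c1a60020198008b065e30018008be6f13000000000400100000000040000010000004000000000800000000000000020b30000000000000000000000000000000000000005e980080040028e180040040021a980080041b30010b4c5e600200100051c6f03001054c00468300100088c6002001000800418300090cc00400000000000040000010000e26bf30000008000000241864d3060020008008004a43901868c0041b3001124c9860020010005da691300101cc00468300100080040020010008f268a300090cc000f937b180000040020000000000bf300000000000020013a8df07093000800800400239991cd4a61b300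11d0c3a6002000000000400100000006860000010000004000000000800000000000000020b300000001a600000000000000000000000000000001350c00400237180046460023998ccc0040020010b4c5e60020010004004f03371854cce668300100088c60020010008f2616300090cc0040003718000c460020010000e26da30000008000e434a98008a260020008008406683399868d4a6083001248c1268a30010005da6ee38b181ccce62133998008004002001000800418300090cc0009130000000c46000000000000000200000000000008c1888c0040020008008406013681868c0041b3001310c3a6fa300080080040020010008004002001194c00400200109cc00400200080080040020010008004002001194d9260020011c0c004002761888d2c60021598008506002000800800400213180085262334a9ba8c0040010010008004fb300100081860020010008004e430013a8c0020b33718008004fb300100080040020011d0d9e64430010008004002391800400400268180086c60020010b4c5e60024a98008b86002001250c004002000890c0042a30011d0c004002711ba8c0040010010008004fb3001000818600200100082864434a9ba8c0020b3291800800400201980080040020011d0d9e6183001064c004002001000400400268180086c6002001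0b4c5e60024a980080045a3001250c004002000890c0042a300109cc0040020013a8c0040010010008004213071844c18693334980080041834a9ba8c0020b30010008004013399808c0a645334980099e61830012e0cfa71b300100040043131a98ccc0040020010b4c5e62c381980080040019118008004633071844c18704332183ccec644380990cc0020b30010008004002379c2cc0a61b30019c0cec6183001000800400200100040043131a980080040021718b4c5e62c300100040049137a98008004683399844c8c69330011d0cf2655300090cc0045a33918008004123379c34c0040020819c0c28644300110cc004f930008008004213071c18d4a64f30e1878c3a600200100080040020010008004001001418c0045e300116cd086002 26 67108863 0x1003f24765c0000000000003411fc70000000000000f64665c000000000409b2d269700000000000000003f0c0000000000003d919d700000000000000000000000000000000000000000000000000000000000000000000000000000000000000000000000000000000000000000000000000000000000000000000000 256 64 = 57)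

theorem c5 : _root_.Cfsg.Agent.SporadicRecognition.CosetCert.Part C 320 384 63 := Cfsg.Agent.SporadicRecognition.CertFast.part_fast C alC 63 (by decide +kernel : Cfsg.Agent.SporadicRecognition.CertFast.runF C 13 8191 0x5b9ae0c004002001108cc063e31f9984cd860011e98f0c0041830010008fa600200100046463131a980086c69330818b4c5e62c300100093065a3000c5cc1a6002001008c0a64530011d0c0040020010008fa71b36f980046463131a980086c60830018008004b230010008004002391a50cce600200100080040830e1a48c3a60010010005786002589908cce62131f9868d9260020e18f0c76640300090cc000000000000000000000000000000000000000000000001000800400120980086860020718ccc18600217183cc5e62c30013a8c0020b394180081a60131a9808e3a60021718b4c004002001478d786c23000c84c406633001068c004002321b10c3a6002819b50cfa60026898009746b93001300c002b0357980095a62c3c0a60500040020010008c06633901984c004001321800876618300100080040021b98004646313071800818600217183cc5e62c30010008fa600200100046463131a98ccc6c60020818b4c5e62c30010008004002001054c0040020010004004a330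010008004002001000400400200101ccce600200142cc0040020018008f2600200100080051b320980046463131a98ccc6c60021718b4c5e600200100040040020010008ce600200111cc8c65e30e19d0c3a600200080091c6973001054c0042130010008e2677300100080040020012e0c0051b339180046463131a98ccc0040021718b4c5e6002001438cfa71b3001000464631300100086c6002001a48c0042c3001000800481300101cc0044b30010008002002001000800406300100080051b320980046463131a9808c0040021718b4c0042c30010008a2600200100084060020010008004002001000400400200080091c600239181cc00468373980088c6002001000800423300110cd1c6973000800800400237980080040026d980080040020010004a260020010008ce6002001418e0e62a300189cc12600276180091c6002001000800400200100080040020010008002002241ba8c004001689800800400207180081860023498008004002bca5e50fa71b300100046463130010ccc004002171ab8c004002c126090004002001000464631300111cc004773171ab8c5e60020010005306973001000800400239980088c69330011d0c286002001064c00400200100080040020010004004a3300120cc00400224194cc0020021d1800800400200100080040020e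180080040020010008fa71b31b980057463130010ccc0040025798b4c0042c376190cc0040013918008c4600200111cc0044f30e19c0c28600280994cc0020b31598008c46002001068c8c6453349924cbe6002001354c0040025b18004ce63130010ccc004453349ab8c5e62c30010004004973001000840600239991cc8c60021e9800800400200090cd3069730010008686002001068c18645334983ccec60020008008a2600200100081a600200111ce0e64f30e19d0cec60024a98008fa71b3359800464631368180086c6453171800800400200100091260020008008ce600239980080040020010008004002001064c0040021d1b38c004001001000800400200116cc00400200100094469730008009cc6633379800958600200100080040020008008004002371a50cc46b9300100080040023218008004002711864c00200288181cc0040020010008004083001010c004002001350cfa60028e180046460021a98ccc0041b300100080040024a98009d060020008008ce6002399868d58600200100080040020010005786f9300101cc0042138f980080040020010008004002241864c00400200080084060133f98008004002001310db860020010008fa71b38e180046463136818ccc6c61b317180080042c37618008004002159a50c506303000890c0042a3349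8009b86233899888c004001371854cce66830010008186002001000828616324190ccfa71b38e180046463136818ccc6c61b317180085e62c34a98008004002159a50c506d63000890c0042a334980080048a3899888c004001001054cce6683001000818600200100080041830010008fa71b300100046463131a98ccc0040021718008004002711c38c0040012e9854e326fb33f980080047730011c0c004553711b84c0020b388181ccfc60028f9800800408300143ce2465530010008fa71b38e180046463131a98ccc8c61b317180080042c30008009506a733918008c46683379800818693300103cc00418300110cd306f93000800840600237980080040020e1800800400200110cc004002371800800400100100080045e341196cc004002 26 67108863 0x49580000000000000000000000000000000000000000000000000000000000000000000000000000000000000000000000000000000000000000000000000000000000000000000000000000000000000000000000000000000000000000000000000000000000000000000000000000000000000000000000000000000000000000000000000000000000000000000000000000000000000000000000000000000000000000000000000000000000000000000000000000000000 320 64 = 64)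

theorem c6 : _root_.Cfsg.Agent.SporadicRecognition.CosetCert.Part C 384 448 62 := Cfsg.Agent.SporadicRecognition.CertFast.part_fast C alC 62 (by decide +kernel : Cfsg.Agent.SporadicRecognition.CertFast.runF C 13 8191 0x12e0cfa60021b98004646a430010ccc0049331718b4c2861630012e0cfa71b300100046460028f98ccc6c608317180085e62c300100080040010010008686a430010ccc0040021718b4c5e62c300100080020b320980081a63136818ccc6c61b31718b4c5e62c35b9864c0040020010008c063e30010008d860011e9878c00440300110ccfa600220980046463131a980086c61b30818b4c5e65530010008004002001338c00400200100089c600200100080040010010009306002000a1cc004002001000800493300100083a600200100080051b31b980046464b30010ccc6c60830018008126063001000800400239181cc406002001008c00400232180089860010008008004002001484c004002969868c8c72930010008ec6183819b84c004002000800840668390180099260023498f0c7660020010008004002001108cc063e31f9984cd860011e9878c3a618324190ccfa71b38e1800400400268180086c61b30010008004002001000a286973000c5cc00400200115cd4a6453001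00080040020010008fa60021b9800464631300100086c69331718b4c0042c300100080051b300100046460021a98ccc0a608300180085e62c300100040040022918008406002379868c8c6b530011c0c7668a3001354c00400198980086861231a9b00c1860021718b4c3a62c35b9ba8c0020b300100081a63136598ccc6c60021718b4c5e62c300110cd786c23000c84cc463e390180080040021e980083a61830010008b871b36898009746b93001300c002b0317180095a6b230010008004002001484cc4621339980080040010e1b10c7661834a994cc0051b335980040040026818ccc00445300100080042c35b98008fa71b38e1800464631368180086c61b300100080040020010008004002159a50c5066330008008004002001000800400279990cc00400200100046463130718ccc18600217183cc5e6002001438cfa71b31b9800464631300100086c60020818b4c0053730010008fa600200100046460021a9844c0040021718b4c2862c300114cd307093000a1cc00400239980080040020010008004002819864c0051b30010004646b931a98ccc6c60021718b4c5e62c3001350c0051b320980046463131a98ccc0a6002001a48c0042c30010004004973001054cce60028f9844d586002321878cf260020010008fa71b300100046463131a98ccc6c60021718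b4c0042c324190ccfa71b3391800464600200100080040021718b4c5e60024a9c78cb871b3911800464600200111cc004002171ab8c5e6002829ba8c00400100121cc004002001000818600234996ccf2600280994cc0020b38519e8ca8600200100080040023498008f26002809864d0a71a396180057460020010008004002579ab8cf262c30010008b860026f9a50dba6002001360c004da300100040040024a994ccfa71b35b18004ce60020010ccc6c6453349ab8d5a62c3001354d2c6002689a50d74600200100080022a30010008526d73001000400400200121ccce600200100088c70432c99d0cbe60020010008fa71b300100040040021a980080040020010008004002829b54c004001911854c00400200100080040020010008004002829ba8c0020b31d181cc00400200100080040830010008004e430010008fa71b38e180040040026818ccc6c61b317180080042c300080091c6913391854c0046830010008e26002001000800416300110cd306973000800800400237980080040022518008004002000800930600200101cc00400239980088c6773001000800400200100053060023918008ce600200111cdb26453001000800400200090cca27093371a50cc46002001090d4a600213180080044435e9b50cfa60028e1800400400239980086c61b30010b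4c5e600200100093060020008008004002001068d5861b3001078c3a60020010005786c2300101cc00468300100080040020010008f268a300100091c6973000a1cc0046330198008004773001248c3a60026f18008fa600200100046463131a980086c69330818b4c28616324180080040020010008686001001044cb06002349b10cf261630010008004002391854c406123901c34c8c60020819d0c9860018298008fa71b300100046463131a9800a0e608300180085e62c300100080045a30010008406002000808c0a60023498008f26002001000400000000000000000000000000000000000000000000000090cc0000000000000000000000000000000000000000000005e9c9cc0040020008008406683001068c8c60023498008766002 26 67108863 0x12430004998000000 384 64 = 63)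

theorem c7 : _root_.Cfsg.Agent.SporadicRecognition.CosetCert.Part C 448 512 64 := Cfsg.Agent.SporadicRecognition.CertFast.part_fast C alC 64 (by decide +kernel : Cfsg.Agent.SporadicRecognition.CertFast.runF C 13 8191 0x5b9ae0c004002001108c0043e31f9984c8c6001001078c00418300100080040028518004004b93001044c00493308180090862c3001000800400200100040040021a98ccd00608300180085e62c30010004004c230014b8c00400200100088c60020011c0c7660025b980080040011d18008004a430718ccc00493300103cd0869930013a8c0020b358980080043133f980080a60020010b4c5e62c382990cc004c23000c84c00400200100088c600200100083a644381980080045a39618009746b930010008002b0357980095a6b2300100080040020010008004002001000800400100100087661830012e0c00400239180040043130718ccc18600200100085e60025e980080040021b98004004313001044c00445300100085e6183001384c0051a358980040040021a980086c60021718b4c0042c300100080051b31b980040043131a9a68c6c60020010b4c126063001000800400200100040043130198ccd006002001248c0042c3001000530697300121cc00400200100080040020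010008f2600271180080040b320980040043135018cce2a60021718b4c00400200110cc00400200100040053031a980086c69330010009086f13001000800400200145cc0040010010008b06002001000800400281980080040020010004004313501800a2a61b300100085e62c30010008004c23000800800400200111cd9260020010008766002001064cfa71b300100080040020010008002b030012b8cf260025b9ae0c004002001108c0043e31f9984c0040010011c0c0048a3001000800400239180040043131a995cc00445317180085e62c3001000800400200100040040131a9808c6c608300180085e62c300100080040010010008004a431a980080049330010b4c5e62c300100080020b35b18008004a431a98ccc0040830010b4c5e6993001350d4471b36898009746313001000800245357980095a616300100080040029918004004313071868c18600200100095a6b235e9800800400200100040043131a98ccc00493300100085e62c3001000530697300121cc00400200100080040020010008f260027118008fa60028e180040043131a98ccc6c61b31718b4c5e60020010005306973001000800400200100088c65e3001000800400200110cc0051b300100040043135018ccc6c60020010b4c5e600200100080040021b98004004313001008c6c645300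1248cf669930013a8c00400220980040043131a980080a61b31718b4c0042c3001000530697300145cc00400200100080040020010008004002829ba8c0020021d1c5cc00400200100080040020010008004002761ba8c0051b30010004004b93001300c0044530012b8c004443829888cfa71b3001000400468300100080047730010b4c004b230010005306973001484c00400200111cc8c600200100080040020010005306973001000800400200111cc8c6083001248c00400282990ccfa71b33918004004b93001300c00400200103cc004443829b54c004001911800800400200100080040020010008286002829ba8c0020b31d181cc00400200100088c645300100081260025b9ba8d0a6813911800400468300100080047730012b8c5e6b230010005306973001000800400239980088c6002001000800400200090cd306973001250c0040020010008e264530010008ec60020008009306002001000800400200100088c60020011d0cec60024a9c78cfa6002359800400400268180088c6002001000800400200100093069730008008004002001000800400200100080040020008008004973371a50cc46002001194c004002001000800400280990ccfa60023718004004002681800818677300100080042c34a98008004002159a50c506002000890c0042a3001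00080048a3241ae0cfa60023718004004002071800800477300100080040024a9ca8cfa60028e1800400400268180086c61b300100080042c30010004004002391854cce600200111cc4a6453001000852600200090cca26fd3371a50cc46002001194d9a67730010008ec64438198008fa600200100046460020010ccc0049331718b4d0862c300110cc0051b31b980046463131a9c18c00408317180081260630008008004002001484c004002001418c0041b3001310cec6002001000800400158980086863130010ccc0040021718b4c5e62c381990cc0020b31b980081a63131a9b00c6c60021718b4c5e62c3001478c004c2300080080042131f980099260020e1878c00400200100080040020010008c063e30010008d860011e98f0c004403 26 67108863 0 448 64 = 65)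

theorem c8 : _root_.Cfsg.Agent.SporadicRecognition.CosetCert.Part C 512 576 64 := Cfsg.Agent.SporadicRecognition.CertFast.part_fast C alC 64 (by decide +kernel : Cfsg.Agent.SporadicRecognition.CertFast.runF C 13 8191 0x5b980080040016f98008fc60021a98009006453171a0cc0040025b9c78c0020b32e98008fc6002001000800445300196cc00400280990cc00400220980040040023f980090060020010b4c0040022418009446002001000400400200100080041b317180080040020010009786002001108d7463e31f9984c0040015798f0c0044034a9888cfa60025b1800464600200100086c6773411ab8c0040024a9c78c0051a3001000574600200100080044534118008004002001354c0040016f98008fc60022b18008004453579a0cc00400200100080020b38518008fc600200100080044531718b4c00400280990cc00400220980046460021a980086c61b300100080040024a9888e2860025b1800468600200100080047734118b4c0040025b9c78c0051b300100046460020010008004773411800800400276190cc0051b3001000464600200100080041b300100080040025b980080040023918004a86002001000800445300100080040020013a8c00200288180080040131a98ccc0040830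0100085e62c38198008fa71b300100097460020010008002b03001000800400280990cc0051b35898004646002001000800400200100080040020014f0c004813391800464601300100080044530010b4c0040020008009786002359908c00400239991cc0040020012b8c7664030008008004002359908cc063e368191cc0040021e99d0c7660020012e0d786c230008008c462130014fccd860021e9800800400200110cdda71b30010009746b93001300c002b0317180080040020012e0c004c23001484cc463e3901cfcc0040010e180080040020010004004c233918008c46633681cfcc004002321ab8cf268a3001088e2860020010004686a430010ccc00493300100085e69934a9b50cfa600235980046460021a980086c64534118008004002461ae0cfa71a30010004646002501800a2a61b31718008004002761b50dda697391180046460020014d4c0040025798008004002819b50cfa60020010004646002001300c00445300100085e62c30008008004973359908cc466336818008004002321ab8c7660020012e0d786c230008008406213001068cd860023218008004002001350cfa60020010009746b93001300c002b030818008004b230012e0d786c23001484cc063e3901984c00400132180080040025b9b50e28600237180046863130010ccc6c693300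100085e600200100040040023598008ce66836818008004002349ab8c7668a3711ae0d4471b3001000464600200100080041b31718b4c0040025e98008fa71b30010004646002001008cf867731718008004002819b50c00400291180046463130010ccc00400257980095a6002001000800400196180080041230010ccc00477300100085e737300100080020b300100080040020198ccc6c608300100085e6e43819b50cfa71b300100097460020010008002b0300100085e62c35b98008fa600235980040040023f9800818645300116cc0040027998008fa6002391800400400299980080041b30010b4c00400200114cc00400100100086863130010ccc18693300100085e62c35b9ba8c0020b368980081a6a431a98ccc6c677300100095a69938198008fa71b30010009746002001300c002b030010008286b2300110cc0051b3391800464600200100080040020010b4c00400200100080045a3001000464601300100080044530010b4c00400224190cc00400200100040040020010ccc0049330010008be62c30012e0c00400291180040049f31a980080040830010009086f1300100050a68130011e8c00400200100080044530014bcc004002819800800400120980080043130010ccc0041b300100080042c300100080020b388180080053031a98ccc6c6002001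0b4c5e62c3819864c00400200100080043e300100088c60010010f0c00440376180080040021b980040049f300100080049330010009086f130012e0c00400239180040040025018cce2a608300100085e62c300100050a71b30011e8c00400200100080047730014bcc00400200110cc0040015b18008004fb30010ccc00400200100085e62c300100080020b320980080043131a98cce2a60020010b4d9e62c35b9864c00400200100080043e30010008d860010011c0c0048a3001000800400200100040043131a980086c693300100085e6f130010008004002851800400530300100086c60830010009086f13001000978600200080080040020010008d8600200100087660020010008fa6a73001000800400200100080024530010b4c004002 26 67108863 0 512 64 = 65)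

theorem c9 : _root_.Cfsg.Agent.SporadicRecognition.CosetCert.Part C 576 640 64 := Cfsg.Agent.SporadicRecognition.CertFast.part_fast C alC 64 (by decide +kernel : Cfsg.Agent.SporadicRecognition.CertFast.runF C 13 8191 0x1000400400200145cc406002379808c00400200100081260020010008004c23001108c1a66331f980088c60011e9800800400200100097860020008008c06683001184c00400234980080048a3001064c004002001484c4060021f9868d5860010e1878c0041830010008004c23001108cce63e300100080040013498f0c0044430010009786002391800800400268180080040010012b8cf260020010009446c23001108cce63e31f98008004001349ab8c0044430008008004002589a40c00400239980080040020012b8c766002001350d786c2300080080042130010008d860020010008004002001350c00400200100097460020010008002b0300100080040020012e0d786c23001484c0043e39018008004001001000800400200100040049733598008004002681984c0040020011d0d5a68a35b9b50c00400237180040040026818008004773001000800400280990cc0040029118004646002001000800400200100080040025b9ba8c002002371800800400200100086c6773001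00085e6ca3001478c00400239180040040020010009006453001000800400200100080051a300100080040020010004004b03171a74c00400224180080051b3001000400400200100080041b3001274c0040022418008004a738b1800598600200100080040021718008004002241c78c0040017b19e8cc46123071cfcc18600234983cc3a6002711c38c0020b300101ccc0600200111cd586002001248c7665535b9c9cc004001359908c686123071b00c1860021e983ce7c61635e9c9cc0020b3851cf4c1a60130198008d860021e98f0c0040630010004004ef30010008ce6683399844d5860023219d0c0044430012e0c004a73000908c4063e3901844c0040020e18f0c0044034a9800800400200100080040023f980040041b30010b4c00400200100054460020010008ce6633901984c00400200100081264435b9800800481300100080040020198004004453001000800400200100094468130010008fc6002001134c0049b300100080020020010008004002001000800400100100090061b317180080040020010008004002001108cc06683071984c18600108183cc76600200100057860b33919e8cc0601365991cc8c6002001000876600200100080040b335980081a60130014fcc004001349800876644382990cc0051b38b1800800400200100080040020012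74c0020020012e0c004a737b1800998600200100080040024e180080040010010008004002001000974668300111cc00200234980087660024a9ba8c0020021d18008004002001000800477300120cc0040029d1c9cc0040019d9908c686123071868c18600208183cc3a6403711c38c0020b398980081a601301991cc8c60020010f0c0053930010008004973589a50d746b93001300c00200257980095a6b230008008004ef3371908cc46683379844cd860023499c0c0048a300110cc00400285180099860020010004004a334e18b4c0040025b980097860023598008c063e31f98008d860010818f0e7064030010004004c233598008ce663339991cc8c60023499d0c2864435b9ae0c004c230008008406002001184cd860020e180083a64030010008004002001108cc0612339991cc8c60010819d0c7661630008008a26c23589908cc46002019cfcc8c60020019d0d5a6002899b50c00400168980081a736300100080040020010008004002001350c0040b3001484cc06213901808c0a60011e9878c76618380990cc0040025b1800464600200100080040024e1800800400200110cc00481300100086460020010008002b034e1924c0040025b9ae0c004c230010008c06213901868c00400100180080044030010004004002001108c406002001008c0a6002321b1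0c12644324190ccfa69730008008004002001000a6861b31718b4c0040024a98008004813001000800400200100040044530010b4c0040020010008004c2300101ccce66331f991cc8c6001001a48c766002241ae0cfa71b30010008646002001134c0040020010b4c0020020010005786c230010008ce6683399808c0040023499d0c76600200100080040020010008c06683399984cd860013499d0c7664434a9c78c0051b30010004fc6002001000800445300100080040024a9ba8c00400235980040040020010008004453171800800400224190cc0051b3001000440600200100080040024e18b4c004002241ae0c00400200100040040023f980090061b317180080040020010008004c23001108cc063e3001184c0040011e9ab8c004002 26 67108863 0 576 64 = 65)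

theorem c10 : _root_.Cfsg.Agent.SporadicRecognition.CosetCert.Part C 640 704 64 := Cfsg.Agent.SporadicRecognition.CertFast.part_fast C alC 64 (by decide +kernel : Cfsg.Agent.SporadicRecognition.CertFast.runF C 13 8191 0x5b98008004002391854c0043e31f9868d586001001000800440300080091c6913001484c00400201980099260020010f0c00440324194cc0040020010004004002001000800445300100080040020010009306c2300080080043e39018008d86002001078c004002001000800400200101cc0043e31f9800a2a6001001078c0040020010005786c23391c5cc00463300100080040023219c0e8664430010005786c23001000800468339980080040023499d0c00444380990cc004002001000400400200100080049b300100080040020010009786002001108c0043e368180080040010010f0c004b235b9c78c00400200100040040020010008004002001000800400280990cc00400200100040040021a980086c61b300100080040024a994cc00400200100040040020010008004773001000800400280990cc0040020010004004002001000800400200100080040020010008004002001000974600200100080029b3001000800400200100094471a300080080040023998008004002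3499d0c004443829b54c004001911854c00400200111cc004002001000876616300100080040020010009746002001000800200200100087660020008008004fd3359b38cc460020014fcc8c6b5300100087668a35b9ae0d7860020010008c060021f9984c0040010818f0c7664030010008004c233718008c06002001300d5860010018008ec6403899b54c004001911d08c004002001000800400200100087660020010005786a730011e8c004683001184c0040020010f0c00400200090cd7865a30011e8c0046330010008d8600200100080040020012e0c004001911d08c68600207180080040021e983cc3a61635b9ae0c0020b3911908c1a6002001184c0040021e98f0c004553001064d786ef3000c84c4063e3901844e2a60020e1800800418300080080045a3371c5ccc46002001044d92600200100080048a380980097860023598008c060021f9984c0040010818f0cec64030008009306c230011e8cc460020014fcc00400200100087660025e994cc004001391aacc686002071868c0040021e983cc0041635b9ae0c0020b3291b38c1a6002001068cd860021e996cc004183829ba8c002002291800800400200111cc0040020010008766002829b54c004001911800800400237980080040020011c0d086002a09b84c0020b3851a1cc1a63e300100099260020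01a0cc3a6f130010005da6c230011e8c004683399b00c0040020012b8c00400200090cd786c230010008004633379800a2a600200100080040029d1ae0c002002001108c1a6013019984d5860021e98f0c0044030010004004c233918008ce600200100080040023218008286443001000800400200100080040020010004004453001000800400271180080040020010008004002001134c0049b3001000800200200100040040020011e8cce6002001184c0040020011c0c3a60024a9800a806913000908c0043e339980088c60023219d0c286443829b54c004001689854c004002001000800400200100083a600280994cc0020b300100081a60020014fcd92600200180080040630010006286c23001108c004002001068c00400200100083a616300100080040023598008004123071800818600134983cc3a64435e9864e286f03000908c40612390180081860020e183ccf2616300100080040b3001108c1a601300100088c60011e9800876600200100080040020010009746b93001300c00200257980087664430010004004973589a50cce600200100080040020010008004b2300149cc004001001000868612339991cc8c60020819d0c0041639d1b84c0020b3851a1ccce63e365980088c60023218f0c3a64038198008004c23589a50d74668300111cc00200234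980095a6b23001000978600200080084063e31f9984cd86b530e18008ec60025e980097860025b18008c063e31f9868cd86001081b10cec618300100040051a3391908cce663300100088c6002001000828644300100080040028518008004002001000400445300100080040024a98008004002359854c00412307191cc18600108183cc76616371180080040028b18008004002001134c00400200100080020020010004004c230010008ce6002379984c0040020011c0c766443001064d446002000c84c004213901868c0a60021e9b10c7661834a980080040020010008004002001000800245300100080040024a98008004002001484c004213379844c8c60013499c0c3a68a35b980080040020010008c063e31f9984cd860010018008f26403 26 67108863 0 640 64 = 65)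

theorem c11 : _root_.Cfsg.Agent.SporadicRecognition.CosetCert.Part C 704 768 64 := Cfsg.Agent.SporadicRecognition.CertFast.part_fast C alC 64 (by decide +kernel : Cfsg.Agent.SporadicRecognition.CertFast.runF C 13 8191 0x1000800400235980080049f31f9800800400100100080040020010008004002001250d746b930010008002002001000800400200149cc004a73589908cc063e36818008004001001000800400200149cc0040028b1800998600200100080040014e18008004993001000978697300080080040029018008004002001274c0040020010008004002001000800421368180080020023498f0c004443001000944600235980080049f3501800800400100100080040020012e0c0051a33598008c063e31f980080040011e980080044030010008004c23001108d74600200100080040020010f0c0020025b980097871a3851a50cc060023f980040040021e99d0c00440381980080040028b1908cc063e3501800800400100100080049939d18009da6c238b1b0cd986a431f980080040014e180080049930010008004002001108cce600200100080020024e18f0c0049930010009446913000c5cc00468390180080040020e18f0c0041830010008004a7300145cc4069f3501800800400100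1274c0040020010008004002001108c406b9368180080040011e98f0c004403001000800400200100080040021f9800900600100100080040020010008004c230010008c06002001000800400100100080040029d1ae0c004c23001250d746b93001268c0020021e98008004b235b9b50c004ef3589908cc063e3681984c0040015798008004403001350d786c23001250d746b93001300c0020021e980080040020012e0c004002589908cc063e3681984c0040014e18008004b239d180097869730008008004002001000800400200100080040028198008004c23000800840600290180088c60020010f0c0040025b98009da60020010008004213901800800400100100080040025e98009786a730008008c06213901800958600200100080040020012e0d1c6913000908c00400200100080040020010f0c00440300080092c69730011e8c00400200100080040020010008004002000800800491300145cc004002001000800400200100080048a35e980080040020010008004002001268c0040010010008ec64035e9864c004001911800800400207180080040020010008004002829ba8c0020b31d18008004002001184c0040020010f0d9e6e43001000800400200100080040021f991cc0040010010008004403000800800491300145cc0040020010008004002001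00080048a30012e0c0040020010008004002001184cd860010010008004002711ae0c0040019118008004002071984c0040020010008004163819ba8c0020b31d18008004002001000a2a60020010f0c0040025e9b50c0040011d18008004123071800818600200100080040025b9ba8c0020b31d1908c004013019a68e8860020010008004e4300100052c69730010008004633001000800400200100082860020010004004c230010008004002379800800400232180081264430012e0d1c6913000908c004002001008c0040020e18f0c0044030010008004002001108c00400200100080040010010008766002899b54c0040015898008004002001000800400200100095a6002829ba8c0020b31d181cc00400200100088c60020010f0c3a64030010008004fd30010009746002001000800200200100095a60025b98008004002001054c0040021f9868cd86001001000800400200100052c69730011e8c004002001000800400200100087660020010008004002001000800400239980080040013499d0c00444300080091c6fd3371a40c0040020010008d860020011d0c0048a3829800800400235981cc0043e31f9984cd86001001248cec64030010005786c23001000800463337980080040020011c0c00444324180091c6973000854c0043e3901868c0040020010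0080040020010008004002001108c0040021f980088c600100100080040020008009786913391a40c00400200100080040020818008f2616300110cc004002001484c0040021f9844cd860011e98008004183829ba8c0040011d1854c00400200111cd92600200100083a60025b9c9cc0040017a9908c004123071a68c18600200100080041630010008004002001250c004b930010008002002001274c00400200100052c69730010008004683001000800400200100080040020010004004c2300100080046333798008004002321800a86644300100057869733599e8c004633001000800400200100083a60025b9864d3060b3000908c0040130198008d8600200100080040020010004004973589908cce600200100080040020010008766002 26 67108863 0 704 64 = 65)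

theorem c12 : _root_.Cfsg.Agent.SporadicRecognition.CosetCert.Part C 768 772 4 := Cfsg.Agent.SporadicRecognition.CertFast.part_fast C alC 4 (by decide +kernel : Cfsg.Agent.SporadicRecognition.CertFast.runF C 13 8191 0x100053069730011e8c004002399800800400200100080040020010008004002001000800400200100080040020010008002002001000800400200145cd9869f3001000800400200100080020020010008004002001000800400250180080040020010008002002 26 67108863 0 768 4 = 5)

theorem all : _root_.Cfsg.Agent.SporadicRecognition.CosetCert.Part C 0 772 759 := ((((((((((((c0).append C c1).append C c2).append C c3).append C c4).append C c5).append C c6).append C c7).append C c8).append C c9).append C c10).append C c11).append C c12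

end Cfsg.Agent.Held.PM24Chk0
end

-- part: Held/PM24All
section
set_option autoImplicit false
set_option maxRecDepth 100000

namespace Cfsg.Agent.Held.PM24All

open Cfsg.Agent.SporadicRecognition.CosetCert Cfsg.Agent.Held.PM24Data

theorem part : _root_.Cfsg.Agent.SporadicRecognition.CosetCert.Part C 0 C.N 759 := Cfsg.Agent.Held.PM24Chk0.all

end Cfsg.Agent.Held.PM24All
end

-- part: Held/PresM24
section
/-!
# The configuration `(1, 0)`: the group generated has order at most `|M24| = 244823040`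
-/

set_option autoImplicit false

namespace Cfsg.Agent.Held.PresM24

open Cfsg.Agent.SporadicRecognition.CosetCert Cfsg.Agent.SporadicRecognition.CosetCertHyp
  Cfsg.Agent.Held.Config Cfsg.Agent.Held.Letters Cfsg.Agent.Held.SideWords
  Cfsg.Agent.Held.PresCard Cfsg.Agent.Held.PresY

/-- the relators of the subgroup generated by the root elements and `y2` (letters 12, 13) -/
def relsK : List (List ℕ) := relsP ++ (sideW LM 12 13 0 ++ [pw 3 [6, 13, 6, 10, 3]])

/-- the additional relators -/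
def extraW : List (List ℕ) :=
  [[15, 6, 13, 6, 14, 6, 12, 6], pw 4 [6, 13, 6, 7, 11, 14], pw 3 [6, 15, 6, 10, 3]]

/-- all relators -/
def relsM : List (List ℕ) := relsP ++ (sideW LN 12 13 1 ++ (sideW LM 14 15 0 ++ extraW))

/-- The relations of the configuration `(1, 0)`. -/
structure Rels {G : Type*} [Group G] (x : ℕ → ℕ → G) (y1 y2 : G) : Prop where
  st : St x
  cfg : Config x 1 0 (x 1 4) y1 y2
  e1 : ((x 1 4 * y1 * x 1 4)⁻¹ * x 2 3 * x 3 2 * y2) ^ 4 = 1
  e2 : ((x 1 4 * y2 * x 1 4)⁻¹ * x 2 1 * x 0 4) ^ 3 = 1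

section
variable {G : Type*} [Group G] {x : ℕ → ℕ → G} {y1 y2 : G}

theorem comm_aux {f : G} (hf : f * f = 1) (h : y2 * (f * y1 * f) = f * y1 * f * y2) :
    y2⁻¹ * (f * (y1⁻¹ * (f * (y2 * (f * (y1 * f)))))) = 1 := by
  have hf' : f⁻¹ = f := inv_eq_of_mul_eq_one_left hf
  have h1 : f * (y1⁻¹ * f) = (f * y1 * f)⁻¹ := by
    rw [mul_inv_rev, mul_inv_rev, hf']
  have h2 : y2⁻¹ * (f * (y1⁻¹ * (f * (y2 * (f * (y1 * f)))))) =
      y2⁻¹ * ((f * (y1⁻¹ * f)) * (y2 * (f * y1 * f))) := by
    simp only [mul_assoc]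
  rw [h2, h1, h, inv_mul_cancel_left, inv_mul_cancel]

theorem inv_conj {f y : G} (hf : f * f = 1) : (f * y * f)⁻¹ = f * y⁻¹ * f := by
  have hf' : f⁻¹ = f := inv_eq_of_mul_eq_one_left hf
  rw [mul_inv_rev, mul_inv_rev, hf', mul_assoc]

theorem rels_y (h : Rels x y1 y2) : ∀ r ∈ relsM, ev (gy x y1 y2) r = 1 := by
  have hf : x 1 4 * x 1 4 = 1 := h.st.sq 6
  intro r hr
  simp only [relsM, List.mem_append] at hr
  rcases hr with hr | hr | hr | hr
  · exact relsP_y h.st y1 y2 r hr
  · exact side1_y h.st y2 h.cfg.side1 r hr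
  · exact side2_y h.st y1 h.cfg.side2 r hr
  · simp only [extraW, List.mem_cons, List.not_mem_nil, or_false] at hr
    rcases hr with rfl | rfl | rfl
    · simp only [ev_cons, ev_nil, mul_one]
      exact comm_aux hf h.cfg.comm
    · rw [ev_pw]
      simp only [ev_cons, ev_nil, mul_one]
      have := h.e1
      rw [inv_conj hf] at this
      simp only [mul_assoc] at this
      exact this
    · rw [ev_pw]
      simp only [ev_cons, ev_nil, mul_one]
      have := h.e2
      rw [inv_conj hf] at this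
      simp only [mul_assoc] at this
      exact this

theorem rels_k (h : Rels x y1 y2) : ∀ r ∈ relsK, ev (gy x y2 1) r = 1 := by
  have hf : x 1 4 * x 1 4 = 1 := h.st.sq 6
  intro r hr
  simp only [relsK, List.mem_append] at hr
  rcases hr with hr | hr | hr
  · exact relsP_y h.st y2 1 r hr
  · refine sideW_ok ?_ (sq_pairs_mir h.st) rfl rfl h.cfg.side2 r hr
    intro p hp
    simp only [pairs, List.mem_cons, List.not_mem_nil, or_false] at hp
    rcases hp with rfl | rfl | rfl | rfl | rfl | rfl | rfl | rfl | rfl | rfl | rfl <;> rfl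
  · simp only [List.mem_cons, List.not_mem_nil, or_false] at hr
    subst hr
    rw [ev_pw]
    simp only [ev_cons, ev_nil, mul_one]
    have := h.e2
    rw [inv_conj hf] at this
    simp only [mul_assoc] at this
    exact this

theorem relsM_lt : ∀ r ∈ relsM, ∀ l ∈ r, l < 16 := by decide +kernel
theorem relsK_lt : ∀ r ∈ relsK, ∀ l ∈ r, l < 14 := by decide +kernel

theorem checkK : checkHyp PKData.C relsK sX = true :=
  SporadicRecognition.HypFast.check_fast (by decide +kernel)
theorem checkM : checkHyp PM24Data.C relsM (sX ++ [[14]]) = true :=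
  SporadicRecognition.HypFast.check_fast (by decide +kernel)

theorem card_K (h : Rels x y1 y2) :
    Finite (Subgroup.closure (gy x y2 1 '' {n | n < 14})) ∧
      Nat.card (Subgroup.closure (gy x y2 1 '' {n | n < 14})) ≤ 322560 := by
  obtain ⟨h1, h2⟩ := card_C h.st
  have key : ∀ n < 14, PKData.C.inv n < 14 := by decide
  have := bound PKData.C (gy x y2 1) (Subgroup.closure (gx x '' {n | n < 12})) relsK sX
    PKAll.part (by
      have := gy_inv h.st y2 1 (fun n => if n < 14 then PKData.C.inv n else 29 - n) (by decide)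
        rfl rfl rfl rfl
      intro n hn
      have hn' : n < 14 := hn
      have h1 := this n (by omega)
      simp only [hn', if_true] at h1
      exact ⟨key n hn', h1.2⟩) relsK_lt (rels_k h)
    (fun r hr l hl => lt_of_lt_of_le (sX_lt r hr l hl) (by decide)) (ev_sX y2 1) checkK
  exact ⟨this.1, this.2.trans (by omega)⟩

/-- **Upper bound** for the configuration `(1, 0)`. -/
theorem card_le (h : Rels x y1 y2) :
    Finite (Subgroup.closure (gy x y1 y2 '' {n | n < 16})) ∧
      Nat.card (Subgroup.closure (gy x y1 y2 '' {n | n < 16})) ≤ 244823040 := by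
  obtain ⟨h1, h2⟩ := card_K h
  have := bound PM24Data.C (gy x y1 y2) (Subgroup.closure (gy x y2 1 '' {n | n < 14})) relsM
    (sX ++ [[14]]) PM24All.part (gy_inv h.st y1 y2 _ (by decide) rfl rfl rfl rfl) relsM_lt
    (rels_y h) (by decide) (by
      intro s hs
      rcases List.mem_append.mp hs with hs | hs
      · refine ev_mem _ _ _ fun l hl => ?_
        have h3 := sX_lt s hs l hl
        rw [gy_of_lt x y1 y2 h3, ← gy_of_lt x y2 1 h3]
        exact Subgroup.subset_closure ⟨l, by show l < 14; omega, rfl⟩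
      · rw [List.mem_singleton] at hs
        subst hs
        rw [ev_one]
        exact Subgroup.subset_closure ⟨12, by show 12 < 14; norm_num, rfl⟩) checkM
  exact ⟨this.1, this.2.trans (by omega)⟩

theorem Rels.prod {H : Type*} [Group H] {x' : ℕ → ℕ → H} {y1' y2' : H} (h : Rels x y1 y2)
    (h' : Rels x' y1' y2') : Rels (fun i j => (x i j, x' i j)) (y1, y1') (y2, y2') where
  st := h.st.prod h'.st
  cfg := Letters.Config.prod h.cfg h'.cfg
  e1 := Prod.ext h.e1 h'.e1
  e2 := Prod.ext h.e2 h'.e2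

end

end Cfsg.Agent.Held.PresM24
end

-- part: Held/ModelM24
section
/-!
# `M24` as a model of the configuration `(1, 0)`
-/

set_option autoImplicit false

namespace Cfsg.Agent.Held.ModelM24

open Cfsg Cfsg.Agent.SporadicRecognition.CosetCert Cfsg.Agent.SporadicA.GolayWalk
  Cfsg.Agent.Held.Config Cfsg.Agent.Held.Letters Cfsg.Agent.Held.LetterVals

/-- the tables of the sixteen letters, five bits per point -/
def tabs : List ℕ :=
  [610519923311516637246277765738632224,
   984812760466102605412385163952886785,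
   610956390715471154959104471240053761,
   592353204691533442233142632973374465,
   984806797292990878012365697499365538,
   154045676456488069852986216677081250,
   137946475452688126480473909395947682,
   112494624569381642494933542000156195,
   106832945418929216786996674173099555,
   895331677915748499267375548929943108,
   112008758482904261652442838286326816,
   984807527687663223186964578356536900,
   563022143052714033828979765320068743,
   880623587263303768114318017559799364,
   609223462358287331424896868625257536,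
   720034795097686229590439021835814048]

/-- the image of point number `j` under letter `n` -/
def val (n j : ℕ) : ℕ := Nat.land (Nat.shiftRight (tabs.getD n 0) (Nat.mul 5 j)) 31

/-- point number `i` (`23` is the extra point) -/
def pt (i : ℕ) : GolayPt := cond (Nat.beq i 23) none (some (i : ZMod 23))

/-- formal inverse letters -/
def inv16 (n : ℕ) : ℕ := [0,1,2,3,4,5,6,7,8,9,10,11,13,12,15,14].getD n 16

theorem idx_pt : ∀ i < 24, idx (pt i) = i := by decide +kernel

theorem pt_idx : ∀ p, pt (idx p) = p := by decide +kernel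

theorem val_lt : ∀ n < 16, ∀ j < 24, val n j < 24 := by decide +kernel

theorem val_inv : ∀ n < 16, ∀ j < 24, Nat.beq (val (inv16 n) (val n j)) j = true := by
  decide +kernel

theorem inv16_lt : ∀ n < 16, inv16 n < 16 ∧ inv16 (inv16 n) = n := by decide +kernel

/-- the map of letter `n` -/
def fw (n : ℕ) (p : GolayPt) : GolayPt := pt (val n (idx p))

theorem fw_fw {n : ℕ} (hn : n < 16) (p : GolayPt) : fw (inv16 n) (fw n p) = p := by
  unfold fw
  rw [idx_pt _ (val_lt n hn _ (idx_lt p)), Nat.eq_of_beq_eq_true (val_inv n hn _ (idx_lt p)),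
    pt_idx]

open Classical in
/-- the permutations of the letters -/
noncomputable def PP (n : ℕ) : Equiv.Perm GolayPt :=
  if h : n < 16 then
    ⟨fw n, fw (inv16 n), fw_fw h, by
      intro p
      have h1 := inv16_lt n h
      have h2 := fw_fw h1.1 p
      rwa [h1.2] at h2⟩
  else 1

theorem PP_apply {n : ℕ} (hn : n < 16) (p : GolayPt) : PP n p = fw n p := by
  unfold PP
  rw [dif_pos hn]
  rfl

/-- the table as a list -/
def tabL (n : ℕ) : List ℕ := (List.range 24).map (val n)

private theorem _root_.Cfsg.Agent.KO187d71c.e25.{ku} {M : Nat → Sort ku} (φ : ∀ n, M n) {z : M Nat.zero} {s : ∀ n, M n → M (Nat.succ n)} (h0 : φ Nat.zero = z) (hs : ∀ n, φ (Nat.succ n) = s n (φ n)) (n : Nat) : φ n = @Nat.rec M z s n := Nat.rec h0 (fun n ih => (hs n).trans (congrArg (s n) ih)) n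
private noncomputable def _root_.Cfsg.Agent.KO187d71c.oEq.{ku} (α : Sort ku) (a b : Nat) (f t : α) : α := @Decidable.rec (a = b) (fun _ => α) (fun _ => f) (fun _ => t) (Nat.decEq a b)
private noncomputable def _root_.Cfsg.Agent.KO187d71c.k50.{ku} (α : Sort ku) (a b : Nat) (f t : α) : α := @Bool.rec (fun _ => α) f t (Nat.beq a b)
private theorem _root_.Cfsg.Agent.KO187d71c.e50.{ku} : @_root_.Cfsg.Agent.KO187d71c.oEq.{ku} = @_root_.Cfsg.Agent.KO187d71c.k50.{ku} := funext fun α => funext fun a => funext fun b => funext fun f => funext fun t => by delta _root_.Cfsg.Agent.KO187d71c.oEq _root_.Cfsg.Agent.KO187d71c.k50; cases h : Nat.beq a b <;> cases Nat.decEq a b <;> rename_i g <;> first | rfl | exact absurd g (Nat.ne_of_beq_eq_false h) | exact absurd (Nat.eq_of_beq_eq_true h) g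
private theorem _root_.Cfsg.Agent.KO187d71c.e83.{ku, kv} {α : Type kv} {M : List α → Sort ku} (φ : ∀ l, M l) {z : M List.nil} {s : ∀ a l, M l → M (List.cons a l)} (h0 : φ List.nil = z) (hs : ∀ a l, φ (List.cons a l) = s a l (φ l)) (l : List α) : φ l = @List.rec α M z s l := List.rec h0 (fun a l ih => (hs a l).trans (congrArg (s a l) ih)) l
private noncomputable def _root_.Cfsg.Agent.KO187d71c.k85.{ku0} : type_of% @List.get?Internal.{ku0} := @(fun x0 x1 x2 => @List.rec.{(ku0+1), ku0} @x0 @(fun x3 => ℕ → @Option.{ku0} @x0) @(fun x3 => @Option.none.{ku0} _) @(fun x3 x4 x5 x6 => @Nat.rec.{(ku0+1)} @(fun x7 => @Option.{ku0} @x0) (@Option.some.{ku0} _ @x3) @(fun x7 x8 => @x5 @x7) @x6) @x1 @x2)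
private theorem _root_.Cfsg.Agent.KO187d71c.e85.{ku0} : @List.get?Internal.{ku0} = @_root_.Cfsg.Agent.KO187d71c.k85.{ku0} := by delta _root_.Cfsg.Agent.KO187d71c.k85; funext a0 a1 a2; refine (congrFun (_root_.Cfsg.Agent.KO187d71c.e83 (fun a1 a2 => @List.get?Internal.{ku0} a0 a1 a2) ?_ (fun c0 c1 => ?_) a1) a2 :) <;> [(funext b0; (rfl')); (funext b0; (cases b0 with | @zero  => (rfl') | @succ b0_0 => (rfl')))]
private noncomputable def _root_.Cfsg.Agent.KO187d71c.k98.{ku0, ku1} : type_of% @List.map.{ku0, ku1} := @(fun x0 x1 x2 x3 => @List.rec.{(ku1+1), ku0} @x0 @(fun x4 => @List.{ku1} @x1) [] @(fun x4 x5 x6 => (@x2 @x4) :: @x6) @x3)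
private theorem _root_.Cfsg.Agent.KO187d71c.e98.{ku0, ku1} : @List.map.{ku0, ku1} = @_root_.Cfsg.Agent.KO187d71c.k98.{ku0, ku1} := by delta _root_.Cfsg.Agent.KO187d71c.k98; funext a0 a1 a2 a3; refine (_root_.Cfsg.Agent.KO187d71c.e83 (fun a3 => @List.map.{ku0, ku1} a0 a1 a2 a3) ?_ (fun c0 c1 => ?_) a3 :) <;> (rfl')
private noncomputable def _root_.Cfsg.Agent.KO187d71c.k99.{ku0} : type_of% @List.all.{ku0} := @(fun x0 x1 x2 => @List.rec.{(ku0+1), ku0} @x0 @(fun x3 => (@x0 → @Bool) → @Bool) @(fun x3 => @Bool.true) @(fun x3 x4 x5 x6 => @Bool.rec.{1} @(fun x7 => @Bool) @Bool.false (@x5 @x6) (@x6 @x3)) @x1 @x2)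
private theorem _root_.Cfsg.Agent.KO187d71c.e99.{ku0} : @List.all.{ku0} = @_root_.Cfsg.Agent.KO187d71c.k99.{ku0} := by delta _root_.Cfsg.Agent.KO187d71c.k99; funext a0 a1 a2; refine (congrFun (_root_.Cfsg.Agent.KO187d71c.e83 (fun a1 a2 => @List.all.{ku0} a0 a1 a2) ?_ (fun c0 c1 => ?_) a1) a2 :) <;> (rfl')
private noncomputable def _root_.Cfsg.Agent.KO187d71c.k115 : (by first | exact type_of% @Cfsg.Agent.Held.ModelM24.val | exact Unit : Sort _) := by first | (refine @Subtype.val _ (fun g => @Cfsg.Agent.Held.ModelM24.val = @g) (@Subtype.mk _ _ (@(fun x0 x1 => @Nat.land (@Nat.shiftRight (@Option.rec.{1, 0} ℕ @(fun x2 => ℕ) (nat_lit 0) @(fun x2 => @x2) (@Cfsg.Agent.KO187d71c.k85.{0} _ @Cfsg.Agent.Held.ModelM24.tabs @x0)) (@Nat.mul (nat_lit 5) @x1)) (nat_lit 31))) ?_); rewrite [← Cfsg.Agent.KO187d71c.e85.{0}]; (try delta Cfsg.Agent.Held.ModelM24.val); (try generalize @Cfsg.Agent.Held.ModelM24.tabs = g0); rfl') | exact @Cfsg.Agent.Held.ModelM24.val | exact ()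
private theorem _root_.Cfsg.Agent.KO187d71c.e115 : (by first | exact @Cfsg.Agent.Held.ModelM24.val = @_root_.Cfsg.Agent.KO187d71c.k115 | exact True : Prop) := by first | (delta _root_.Cfsg.Agent.KO187d71c.k115; exact @Subtype.property _ (fun g => @Cfsg.Agent.Held.ModelM24.val = @g) _) | rfl | trivial
private noncomputable def _root_.Cfsg.Agent.KO187d71c.k117 : (by first | exact type_of% @Cfsg.Agent.SporadicA.GolayWalk.enc | exact Unit : Sort _) := by first | (refine @Subtype.val _ (fun g => @Cfsg.Agent.SporadicA.GolayWalk.enc = @g) (@Subtype.mk _ _ (@(fun x0 x1 => @List.rec.{1, 0} ℕ @(fun x2 => ℕ → ℕ) @(fun x2 => nat_lit 0) @(fun x2 x3 x4 x5 => @Nat.xor (@Cfsg.Agent.KO187d71c.k50.{1} ℕ (@Nat.mod @x5 (nat_lit 2)) (nat_lit 1) (nat_lit 0) @x2) (@x4 (@Nat.div @x5 (nat_lit 2)))) @x0 @x1)) ?_); rewrite [← Cfsg.Agent.KO187d71c.e50.{1}]; funext a0 a1; refine (congrFun (_root_.Cfsg.Agent.KO187d71c.e83 (fun a0 a1 => @Cfsg.Agent.SporadicA.GolayWalk.enc a0 a1) ?_ (fun c0 c1 => ?_) a0) a1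 :) <;> (rfl')) | exact @Cfsg.Agent.SporadicA.GolayWalk.enc | exact ()
private theorem _root_.Cfsg.Agent.KO187d71c.e117 : (by first | exact @Cfsg.Agent.SporadicA.GolayWalk.enc = @_root_.Cfsg.Agent.KO187d71c.k117 | exact True : Prop) := by first | (delta _root_.Cfsg.Agent.KO187d71c.k117; exact @Subtype.property _ (fun g => @Cfsg.Agent.SporadicA.GolayWalk.enc = @g) _) | rfl | trivial
private noncomputable def _root_.Cfsg.Agent.KO187d71c.k118 : (by first | exact type_of% @Cfsg.Agent.SporadicA.GolayWalk.isCode | exact Unit : Sort _) := by first | (refine @Subtype.val _ (fun g => @Cfsg.Agent.SporadicA.GolayWalk.isCode = @g) (@Subtype.mk _ _ (@(fun x0 => @Cfsg.Agent.KO187d71c.k50.{1} @Bool (@Cfsg.Agent.KO187d71c.k117 @Cfsg.Agent.SporadicA.GolayWalk.basis (@Nat.mod @x0 (nat_lit 4096))) @x0 @Bool.false @Bool.true)) ?_); rewrite [← Cfsg.Agent.KO187d71c.e117, ← Cfsg.Agent.KO187d71c.e50.{1}]; (try delta Cfsg.Agent.SporadicA.GolayWalk.isCode); (try generalize @Cfsg.Agent.SporadicA.GolayWalk.enc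 = g0); (try generalize @Cfsg.Agent.SporadicA.GolayWalk.basis = g1); rfl') | exact @Cfsg.Agent.SporadicA.GolayWalk.isCode | exact ()
private theorem _root_.Cfsg.Agent.KO187d71c.e118 : (by first | exact @Cfsg.Agent.SporadicA.GolayWalk.isCode = @_root_.Cfsg.Agent.KO187d71c.k118 | exact True : Prop) := by first | (delta _root_.Cfsg.Agent.KO187d71c.k118; exact @Subtype.property _ (fun g => @Cfsg.Agent.SporadicA.GolayWalk.isCode = @g) _) | rfl | trivial
private noncomputable def _root_.Cfsg.Agent.KO187d71c.k119 : (by first | exact type_of% @Cfsg.Agent.SporadicA.GolayWalk.pull | exact Unit : Sort _) := by first | (refine @Subtype.val _ (fun g => @Cfsg.Agent.SporadicA.GolayWalk.pull = @g) (@Subtype.mk _ _ (@(fun x0 x1 => @List.rec.{1, 0} ℕ @(fun x2 => ℕ → ℕ) @(fun x2 => nat_lit 0) @(fun x2 x3 x4 x5 => @Nat.add (@Nat.mod (@Nat.shiftRight @x5 @x2) (nat_lit 2)) (@Nat.mul (nat_lit 2) (@x4 @x5))) @x0 @x1)) ?_); funext a0 a1; refine (congrFun (_root_.Cfsg.Agent.KO187d71c.e83 (fun a0 a1 =>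 @Cfsg.Agent.SporadicA.GolayWalk.pull a0 a1) ?_ (fun c0 c1 => ?_) a0) a1 :) <;> (rfl')) | exact @Cfsg.Agent.SporadicA.GolayWalk.pull | exact ()
private theorem _root_.Cfsg.Agent.KO187d71c.e119 : (by first | exact @Cfsg.Agent.SporadicA.GolayWalk.pull = @_root_.Cfsg.Agent.KO187d71c.k119 | exact True : Prop) := by first | (delta _root_.Cfsg.Agent.KO187d71c.k119; exact @Subtype.property _ (fun g => @Cfsg.Agent.SporadicA.GolayWalk.pull = @g) _) | rfl | trivial
private noncomputable def _root_.Cfsg.Agent.KO187d71c.k120 : type_of% @List.range.loop := @(fun x0 x1 => @Nat.rec.{1} @(fun x2 => (@List.{0} ℕ) → @List.{0} ℕ) @(fun x2 => @x2) @(fun x2 x3 x4 => @x3 (@x2 :: @x4)) @x0 @x1)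
private theorem _root_.Cfsg.Agent.KO187d71c.e120 : @List.range.loop = @_root_.Cfsg.Agent.KO187d71c.k120 := by delta _root_.Cfsg.Agent.KO187d71c.k120; funext a0 a1; refine (congrFun (_root_.Cfsg.Agent.KO187d71c.e25 (fun a0 a1 => @List.range.loop a0 a1) ?_ (fun c0 => ?_) a0) a1 :) <;> (rfl')
private noncomputable def _root_.Cfsg.Agent.KO187d71c.k121 : (by first | exact type_of% @Cfsg.Agent.Held.ModelM24.tabL | exact Unit : Sort _) := by first | (refine @Subtype.val _ (fun g => @Cfsg.Agent.Held.ModelM24.tabL = @g) (@Subtype.mk _ _ (@(fun x0 => @Cfsg.Agent.KO187d71c.k98.{0, 0} _ _ (@Cfsg.Agent.KO187d71c.k115 @x0) (@Cfsg.Agent.KO187d71c.k120 (nat_lit 24) []))) ?_); rewrite [← Cfsg.Agent.KO187d71c.e120, ← Cfsg.Agent.KO187d71c.e115, ← Cfsg.Agent.KO187d71c.e98.{0, 0}]; (try delta Cfsg.Agent.Held.ModelM24.tabL); (try generalize @Cfsg.Agent.Held.ModelM24.val = g0); rfl') | exact @Cfsg.Agent.Held.ModelM24.tabL | exact ()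
private theorem _root_.Cfsg.Agent.KO187d71c.e121 : (by first | exact @Cfsg.Agent.Held.ModelM24.tabL = @_root_.Cfsg.Agent.KO187d71c.k121 | exact True : Prop) := by first | (delta _root_.Cfsg.Agent.KO187d71c.k121; exact @Subtype.property _ (fun g => @Cfsg.Agent.Held.ModelM24.tabL = @g) _) | rfl | trivial

theorem tabL_code : ∀ n < 16, basis.all (fun b => isCode (pull (tabL n) b)) = true := by
  (first | (refine of_decide_eq_true ?_; rewrite [Cfsg.Agent.KO187d71c.e5, Cfsg.Agent.KO187d71c.e32, Cfsg.Agent.KO187d71c.e36, Cfsg.Agent.KO187d71c.e99.{0}, Cfsg.Agent.KO187d71c.e118, Cfsg.Agent.KO187d71c.e119, Cfsg.Agent.KO187d71c.e121]; decide +kernel) | decide +kernel)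

theorem PP_mem (n : ℕ) : PP n ∈ M24 := by
  by_cases hn : n < 16
  · refine mem_M24_of_table (PP n) (tabL n) (by simp [tabL]) ?_ (tabL_code n hn)
    intro p
    have h := idx_lt p
    rw [PP_apply hn, fw, idx_pt _ (val_lt n hn _ h), List.getD_eq_getElem?_getD, tabL,
      List.getElem?_map, List.getElem?_range h]
    rfl
  · unfold PP
    rw [dif_neg hn]
    exact one_mem _

/-- the elements of `M24` -/
noncomputable def gM (n : ℕ) : M24 := ⟨PP n, PP_mem n⟩

/-- the root elements -/
noncomputable def xM (i j : ℕ) : M24 := gM (SideWords.LN i j)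
/-- `y1` -/
noncomputable def y1M : M24 := gM 12
/-- `y2` -/
noncomputable def y2M : M24 := gM 14

theorem gM_inv {n : ℕ} (hn : n < 16) : (gM n)⁻¹ = gM (inv16 n) := by
  rw [inv_eq_iff_mul_eq_one]
  apply Subtype.ext
  apply Equiv.ext
  intro p
  show PP n (PP (inv16 n) p) = p
  have h1 := inv16_lt n hn
  rw [PP_apply hn, PP_apply h1.1]
  have h2 := fw_fw h1.1 p
  rwa [h1.2] at h2

theorem gM_of_ge {n : ℕ} (hn : 16 ≤ n) : gM n = 1 := by
  apply Subtype.ext
  show PP n = 1
  unfold PP
  rw [dif_neg (by omega)]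

theorem gy_eq (n : ℕ) : gy xM y1M y2M n = gM n := by
  rcases Nat.lt_or_ge n 16 with h | h
  · interval_cases n
    · rw [g0]; rfl
    · rw [g1]; rfl
    · rw [g2]; rfl
    · rw [g3]; rfl
    · rw [g4]; rfl
    · rw [g5]; rfl
    · rw [g6]; rfl
    · rw [g7]; rfl
    · rw [g8]; rfl
    · rw [g9]; rfl
    · rw [g10]; rfl
    · rw [g11]; rfl
    · rw [g12]; rfl
    · rw [g13]; exact gM_inv (n := 12) (by norm_num)
    · rw [g14]; rfl
    · rw [g15]; exact gM_inv (n := 14) (by norm_num)
  · rw [gy_of_ge _ _ _ h, gM_of_ge h]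

/-- the number of the image of point `j` under a word -/
def tw (w : List ℕ) (j : ℕ) : ℕ := w.foldr (fun l i => val l i) j

theorem ev_apply (w : List ℕ) (hw : ∀ l ∈ w, l < 16) (j : ℕ) (hj : j < 24) :
    tw w j < 24 ∧ ((ev (gy xM y1M y2M) w : M24) : Equiv.Perm GolayPt) (pt j) = pt (tw w j) := by
  induction w with
  | nil => exact ⟨hj, rfl⟩
  | cons l w ih =>
    obtain ⟨h1, h2⟩ := ih fun l' hl' => hw l' (List.mem_cons_of_mem _ hl')
    have hl : l < 16 := hw l (by simp)
    refine ⟨val_lt l hl _ h1, ?_⟩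
    have h3 : ((ev (gy xM y1M y2M) (l :: w) : M24) : Equiv.Perm GolayPt) (pt j) =
        PP l (((ev (gy xM y1M y2M) w : M24) : Equiv.Perm GolayPt) (pt j)) := by
      rw [ev_cons, gy_eq]
      rfl
    rw [h3, h2, PP_apply hl, fw, idx_pt _ h1]
    rfl

/-- equality of words -/
def chk (u v : List ℕ) : Bool :=
  (u.all fun l => Nat.blt l 16) && (v.all fun l => Nat.blt l 16) &&
    (List.range 24).all fun j => Nat.beq (tw u j) (tw v j)

theorem weq {u v : List ℕ} (h : chk u v = true) :
    ev (gy xM y1M y2M) u = ev (gy xM y1M y2M) v := by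
  unfold chk at h
  rw [Bool.and_eq_true, Bool.and_eq_true] at h
  obtain ⟨⟨h1, h2⟩, h3⟩ := h
  have hu : ∀ l ∈ u, l < 16 := fun l hl => Nat.le_of_ble_eq_true (List.all_eq_true.mp h1 l hl)
  have hv : ∀ l ∈ v, l < 16 := fun l hl => Nat.le_of_ble_eq_true (List.all_eq_true.mp h2 l hl)
  apply Subtype.ext
  apply Equiv.ext
  intro p
  have hp := idx_lt p
  have h4 := (ev_apply u hu _ hp).2
  have h5 := (ev_apply v hv _ hp).2
  have h6 := Nat.eq_of_beq_eq_true (List.all_eq_true.mp h3 (idx p) (List.mem_range.mpr hp))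
  rw [pt_idx] at h4 h5
  rw [h4, h5, h6]

private noncomputable def _root_.Cfsg.Agent.KO187d71c.k88.{ku0} : type_of% @List.decidableBAll.{ku0} := @(fun x0 x1 x2 x3 => @List.rec.{1, ku0} @x0 @(fun x4 => @Decidable ((x5 : @x0) → (@Membership.mem.{ku0, ku0} _ _ _ @x4 @x5) → @x1 @x5)) (@Decidable.isTrue _ (@List.decidableBAll._proof_1.{ku0} _ @x1)) @(fun x4 x5 x6 => @Decidable.rec.{1} _ @(fun x7 => @Decidable ((x8 : @x0) → (@Membership.mem.{ku0, ku0} _ _ _ (@x4 :: @x5) @x8) → @x1 @x8)) @(fun x7 => @Decidable.isFalse _ (@List.decidableBAll._proof_4.{ku0} _ @x1 @x4 @x5 @x7)) @(fun x7 => @Decidable.rec.{1} _ @(fun x8 => @Decidable ((x9 : @x0) → (@Membership.mem.{ku0, ku0} _ _ _ (@x4 :: @x5) @x9) → @x1 @x9)) @(fun x8 => @Decidable.isFalse _ (@List.decidableBAll._proof_3.{ku0} _ @x1 @x4 @x5 @x8)) @(fun x8 => @Decidable.isTrue _ (@List.decidableBAll._proof_2.{ku0} _ @x1 @x4 @x5 @x7 @x8)) @x6) (@x2 @x4)) @x3)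
private theorem _root_.Cfsg.Agent.KO187d71c.e88.{ku0} : @List.decidableBAll.{ku0} = @_root_.Cfsg.Agent.KO187d71c.k88.{ku0} := by delta _root_.Cfsg.Agent.KO187d71c.k88; funext a0 a1 a2 a3; refine (_root_.Cfsg.Agent.KO187d71c.e83 (fun a3 => @List.decidableBAll.{ku0} a0 a1 a2 a3) ?_ (fun c0 c1 => ?_) a3 :) <;> (rfl')
private noncomputable def _root_.Cfsg.Agent.KO187d71c.k122.{ku0, ku1} : type_of% @List.foldr.{ku0, ku1} := @(fun x0 x1 x2 x3 x4 => @List.rec.{(ku1+1), ku0} @x0 @(fun x5 => @x1) @x3 @(fun x5 x6 x7 => @x2 @x5 @x7) @x4)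
private theorem _root_.Cfsg.Agent.KO187d71c.e122.{ku0, ku1} : @List.foldr.{ku0, ku1} = @_root_.Cfsg.Agent.KO187d71c.k122.{ku0, ku1} := by delta _root_.Cfsg.Agent.KO187d71c.k122; funext a0 a1 a2 a3 a4; refine (_root_.Cfsg.Agent.KO187d71c.e83 (fun a4 => @List.foldr.{ku0, ku1} a0 a1 a2 a3 a4) ?_ (fun c0 c1 => ?_) a4 :) <;> (rfl')
private noncomputable def _root_.Cfsg.Agent.KO187d71c.k123 : (by first | exact type_of% @Cfsg.Agent.Held.ModelM24.chk | exact Unit : Sort _) := by first | (refine @Subtype.val _ (fun g => @Cfsg.Agent.Held.ModelM24.chk = @g) (@Subtype.mk _ _ (@(fun x0 x1 => @Bool.rec.{1} @(fun x2 => @Bool) @Bool.false (@Cfsg.Agent.KO187d71c.k99.{0} _ (@Cfsg.Agent.KO187d71c.k120 (nat_lit 24) []) @(fun x2 => @Nat.beq (@Cfsg.Agent.KO187d71c.k122.{0, 0} _ _ @(fun x3 x4 => @Cfsg.Agent.KO187d71c.k115 @x3 @x4) @x2 @x0) (@Cfsg.Agent.KO187d71c.k122.{0, 0} _ _ @(fun x3 x4 => @Cfsg.Agent.KO187d71c.k115 @x3 @x4) @x2 @x1))) (@Bool.rec.{1} @(fun x2 => @Bool) @Bool.false (@Cfsg.Agent.KO187d71c.k99.{0}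 _ @x1 @(fun x2 => @Nat.ble (@Nat.succ @x2) (nat_lit 16))) (@Cfsg.Agent.KO187d71c.k99.{0} _ @x0 @(fun x2 => @Nat.ble (@Nat.succ @x2) (nat_lit 16)))))) ?_); rewrite [← Cfsg.Agent.KO187d71c.e115, ← Cfsg.Agent.KO187d71c.e122.{0, 0}, ← Cfsg.Agent.KO187d71c.e120, ← Cfsg.Agent.KO187d71c.e99.{0}]; (try delta Cfsg.Agent.Held.ModelM24.chk Cfsg.Agent.Held.ModelM24.tw); (try generalize @Cfsg.Agent.Held.ModelM24.val = g0); rfl') | exact @Cfsg.Agent.Held.ModelM24.chk | exact ()
private theorem _root_.Cfsg.Agent.KO187d71c.e123 : (by first | exact @Cfsg.Agent.Held.ModelM24.chk = @_root_.Cfsg.Agent.KO187d71c.k123 | exact True : Prop) := by first | (delta _root_.Cfsg.Agent.KO187d71c.k123; exact @Subtype.property _ (fun g => @Cfsg.Agent.Held.ModelM24.chk = @g) _) | rfl | trivial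

theorem rels : PresM24.Rels xM y1M y2M where
  st := by
    refine st_of_words (y1 := y1M) (y2 := y2M) ?_ ?_
    · intro n hn
      have key : ∀ n < 12, chk [n, n] [] = true := by decide +kernel
      exact weq (key n hn)
    · intro r hr
      have key : ∀ r ∈ relsP, chk r [] = true := by (first | (refine of_decide_eq_true ?_; rewrite [Cfsg.Agent.KO187d71c.e5, Cfsg.Agent.KO187d71c.e88.{0}, Cfsg.Agent.KO187d71c.e36, Cfsg.Agent.KO187d71c.e123]; decide +kernel) | decide +kernel)
      exact weq (key r hr)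
  cfg :=
    { side1 := by
        refine side1_of_eqs (y2 := y2M) ?_
        intro p hp
        have key : ∀ p ∈ eqs1 1, chk p.1 p.2 = true := by decide +kernel
        exact weq (key p hp)
      side2 := by
        refine side2_of_eqs (y1 := y1M) ?_
        intro p hp
        have key : ∀ p ∈ eqs2 0, chk p.1 p.2 = true := by decide +kernel
        exact weq (key p hp)
      comm := by
        have := weq (u := [14,6,12,6]) (v := [6,12,6,14]) (by decide +kernel)
        simp only [ev_cons, ev_nil, mul_one, g12, g14, g6] at this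
        simp only [mul_assoc]
        exact this }
  e1 := by
    have h1 : xM 1 4 * xM 1 4 = 1 := by
      have := weq (u := [6,6]) (v := []) (by decide +kernel)
      simp only [ev_cons, ev_nil, mul_one, g6] at this
      exact this
    have := weq (u := SideWords.pw 4 [6,13,6,7,11,14]) (v := []) (by decide +kernel)
    rw [SideWords.ev_pw] at this
    simp only [ev_cons, ev_nil, mul_one, g6, g13, g7, g11, g14] at this
    rw [PresM24.inv_conj h1]
    simp only [mul_assoc]
    exact this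
  e2 := by
    have h1 : xM 1 4 * xM 1 4 = 1 := by
      have := weq (u := [6,6]) (v := []) (by decide +kernel)
      simp only [ev_cons, ev_nil, mul_one, g6] at this
      exact this
    have := weq (u := SideWords.pw 3 [6,15,6,10,3]) (v := []) (by decide +kernel)
    rw [SideWords.ev_pw] at this
    simp only [ev_cons, ev_nil, mul_one, g6, g15, g10, g3] at this
    rw [PresM24.inv_conj h1]
    simp only [mul_assoc]
    exact this

/-! ### Generation -/

theorem closure_eq : Subgroup.closure (gy xM y1M y2M '' {n | n < 16}) = ⊤ := by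
  set D := Subgroup.closure (gy xM y1M y2M '' {n | n < 16}) with hD
  have hw : ∀ (w : List ℕ) (g : Equiv.Perm GolayPt), (∀ l ∈ w, l < 16) →
      (∀ j < 24, idx (g (pt j)) = tw w j) → g ∈ D.map M24.subtype := by
    intro w g hw hg
    refine ⟨ev (gy xM y1M y2M) w, ev_mem _ _ _ fun l hl => Subgroup.subset_closure ⟨l, hw l hl, rfl⟩, ?_⟩
    apply Equiv.ext
    intro p
    have h1 := (ev_apply w hw (idx p) (idx_lt p)).2
    have h2 := hg (idx p) (idx_lt p)
    rw [pt_idx] at h1 h2
    show ((ev (gy xM y1M y2M) w : M24) : Equiv.Perm GolayPt) p = g p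
    rw [h1, ← h2, pt_idx]
  have hK : M24 ≤ D.map M24.subtype := by
    refine Cfsg.Agent.SporadicA.M24Trans.closure_eq.ge.trans ?_
    rw [Cfsg.Agent.SporadicA.M24Chain.K, Subgroup.closure_le]
    rintro z (rfl | rfl | rfl)
    · exact hw [11, 12, 4, 11, 12, 10, 11, 13, 10, 11, 10, 11, 13, 6] _ (by decide)
        (by decide +kernel)
    · exact hw [1, 14, 10, 4, 11, 13, 11, 8, 12, 10, 11, 15, 13, 10] _ (by decide)
        (by decide +kernel)
    · exact hw [4, 12, 11, 14, 12, 0, 11, 10, 11, 15, 13, 10, 11, 5, 7] _ (by decide)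
        (by decide +kernel)
  rw [eq_top_iff]
  intro z _
  obtain ⟨w, hw, hwz⟩ := hK z.2
  have : w = z := Subtype.ext hwz
  rwa [← this]

end Cfsg.Agent.Held.ModelM24
end

-- part: Held/M24Case
section
/-!
# The configurations `(1, 0)` and `(0, 1)` generate `M24`
-/

set_option autoImplicit false

namespace Cfsg.Agent.Held.M24Case

open Cfsg Cfsg.Agent.Held.Config Cfsg.Agent.Held.Letters Cfsg.Agent.Held.ModelM24
  Cfsg.Agent.Held.LetterVals

instance finite_M24 : Finite M24 := inferInstance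

/-- **The configuration `(1, 0)`**: the group generated by the root elements, `y1` and `y2` is a copy
of `M24`. -/
theorem exists_embedding {G : Type*} [Group G] {x : ℕ → ℕ → G} {y1 y2 : G}
    (h : PresM24.Rels x y1 y2) (hz : x 0 4 ≠ 1) :
    ∃ f : M24 →* G, Function.Injective f ∧
      (∀ n < 16, f (gy xM y1M y2M n) = gy x y1 y2 n) ∧
      f.range = Subgroup.closure (gy x y1 y2 '' {n | n < 16}) := by
  have hb := PresM24.card_le (PresM24.Rels.prod ModelM24.rels h)
  rw [gy_prod] at hb
  obtain ⟨f, hf, hr⟩ := exists_hom (gy xM y1M y2M) (gy x y1 y2) 16 closure_eq hb.1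
    (by rw [Cfsg.Agent.SporadicA.M24Trans.card_M24]; exact hb.2)
  refine ⟨f, ?_, hf, hr⟩
  have : IsSimpleGroup M24 := Cfsg.Agent.S0365.result
  rw [← MonoidHom.ker_eq_bot_iff]
  rcases (inferInstance : f.ker.Normal).eq_bot_or_eq_top with h1 | h1
  · exact h1
  · exfalso
    have h2 := hf 3 (by norm_num)
    have h3 : gy xM y1M y2M 3 ∈ f.ker := by rw [h1]; trivial
    rw [MonoidHom.mem_ker] at h3
    rw [h3, g3] at h2
    exact hz h2.symm

end Cfsg.Agent.Held.M24Case
end

-- part: Held/Words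
section
/-!
# The word theorems E1 and E2 (Held type)

A word in the eight letters of side 1 (2) whose action on `V1` (`V2`) is trivial is trivial.
-/

set_option autoImplicit false

namespace Cfsg.Agent.Held.Words

open Cfsg.Agent.Held.Code Cfsg.Agent.Held.WordCore Cfsg.Agent.Held.Acts

variable {G : Type*} [Group G] {z : G} {ph : ℕ → G}

/-- the root elements -/
def rt (ph : ℕ → G) (i j : ℕ) : G := ph (X i j)

/-! ### generic lemmas -/

theorem comm_P {P : ℕ → G} (hP : IsHom6 P) {v w : ℕ} (hv : v < 64) (hw : w < 64) :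
    P v * P w = P w * P v := by
  rw [← hP _ _ hv hw, ← hP _ _ hw hv, Nat.xor_comm]

theorem acts_mul_P {P : ℕ → G} (hP : IsHom6 P) {g : G} {M w : ℕ} (hw : w < 64)
    (hg : Acts P g M) : Acts P (g * P w) M := by
  intro v hv
  rw [← mul_assoc, hg v hv, mul_assoc, comm_P hP (app_lt _ _) hw, mul_assoc]

theorem acts_conj_P {P : ℕ → G} (hP : IsHom6 P) {g : G} {M w : ℕ} (hw : w < 64)
    (hg : Acts P g M) : Acts P (P w * g * P w) M := by
  apply acts_mul_P hP hw
  intro v hv
  rw [← mul_assoc, comm_P hP hv hw, mul_assoc, hg v hv, mul_assoc]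

theorem acts_inv {P : ℕ → G} {g : G} {M N : ℕ} (hg : Acts P g M)
    (hMN : allb 64 (fun v => Nat.beq (app M (app N v)) v) = true) : Acts P g⁻¹ N := by
  intro v hv
  have h := hg _ (app_lt N v)
  have h2 : app M (app N v) = v := Nat.eq_of_beq_eq_true (of_allb hMN v hv)
  rw [h2] at h
  rw [eq_inv_mul_iff_mul_eq, ← mul_assoc, ← h]
  group

theorem nrm_inv_of {y g : G} (hg : g * g = 1) (h : g * y * g = y⁻¹) : Nrm y g := by
  right
  rw [← h]
  calc y * g = (g * g) * y * g := by rw [hg, one_mul]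
    _ = g * (g * y * g) := by group

/-! ### translation of the interfaces -/

theorem toSide1 (h : Emb z ph) {b : Bool} {y : G} (s : Config.Side (rt ph) b.toNat y) :
    SideDef.Side z ph b y := by
  have hz := ph_z h
  obtain ⟨cube, inv, act3, act4, x01, x02, x12, x21⟩ := s
  unfold rt at *
  rw [hz] at x12 x21
  refine ⟨cube, inv, act3 0 (by norm_num), act3 1 (by norm_num), act3 2 (by norm_num),
    act4 0 (by norm_num), act4 1 (by norm_num), act4 2 (by norm_num), ?_, ?_, ?_, ?_⟩
  · cases b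
    · simpa only [SideDef.tw, _root_.cond_false, _root_.mul_one, _root_.Bool.toNat_false, _root_.pow_zero] using x01
    · simpa only [SideDef.tw, _root_.cond_true, _root_.Bool.toNat_true, _root_.pow_one] using x01
  · cases b
    · simpa only [SideDef.tw, _root_.cond_false, _root_.mul_one, _root_.Bool.toNat_false, _root_.pow_zero] using x02
    · simpa only [SideDef.tw, _root_.cond_true, _root_.Bool.toNat_true, _root_.pow_one] using x02
  · cases b
    · simpa only [SideDef.tw, _root_.cond_false, _root_.mul_one, _root_.Bool.toNat_false, _root_.pow_zero] using x12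
    · simpa only [SideDef.tw, _root_.cond_true, _root_.Bool.toNat_true, _root_.pow_one] using x12
  · cases b
    · simpa only [SideDef.tw, _root_.cond_false, _root_.mul_one, _root_.Bool.toNat_false, _root_.pow_zero] using x21
    · simpa only [SideDef.tw, _root_.cond_true, _root_.Bool.toNat_true, _root_.pow_one] using x21

theorem toSide2 (h : Emb z ph) {b : Bool} {y : G}
    (s : Config.Side (Config.mir (rt ph)) b.toNat y) : Side2 z ph b y := by
  have hz := ph_z h
  obtain ⟨cube, inv, act3, act4, x01, x02, x12, x21⟩ := s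
  have a0 := act3 0 (by norm_num)
  have a1 := act3 1 (by norm_num)
  have a2 := act3 2 (by norm_num)
  have c0 := act4 0 (by norm_num)
  have c1 := act4 1 (by norm_num)
  have c2 := act4 2 (by norm_num)
  unfold Config.mir rt at *
  norm_num only [] at inv a0 a1 a2 c0 c1 c2 x01 x02 x12 x21
  rw [hz] at x12 x21
  refine ⟨cube, inv, a0, a1, a2, c0, c1, c2, ?_, ?_, ?_, ?_⟩
  · cases b
    · simpa only [SideDef.tw, _root_.cond_false, _root_.mul_one, _root_.Bool.toNat_false, _root_.pow_zero] using x01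
    · simpa only [SideDef.tw, _root_.cond_true, _root_.Bool.toNat_true, _root_.pow_one] using x01
  · cases b
    · simpa only [SideDef.tw, _root_.cond_false, _root_.mul_one, _root_.Bool.toNat_false, _root_.pow_zero] using x02
    · simpa only [SideDef.tw, _root_.cond_true, _root_.Bool.toNat_true, _root_.pow_one] using x02
  · cases b
    · simpa only [SideDef.tw, _root_.cond_false, _root_.mul_one, _root_.Bool.toNat_false, _root_.pow_zero] using x12
    · simpa only [SideDef.tw, _root_.cond_true, _root_.Bool.toNat_true, _root_.pow_one] using x12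
  · cases b
    · simpa only [SideDef.tw, _root_.cond_false, _root_.mul_one, _root_.Bool.toNat_false, _root_.pow_zero] using x21
    · simpa only [SideDef.tw, _root_.cond_true, _root_.Bool.toNat_true, _root_.pow_one] using x21

/-! ### the letters -/

/-- letters of E1: `y2, x01, x23 z^t2, x32 z^t2, x34 (x02 z)^t2, f y1 f, y2⁻¹, (f y1 f)⁻¹` -/
def gs1 (x : ℕ → ℕ → G) (t2 : ℕ) (f y1 y2 : G) : ℕ → G
  | 0 => y2
  | 1 => x 0 1
  | 2 => x 2 3 * x 0 4 ^ t2
  | 3 => x 3 2 * x 0 4 ^ t2
  | 4 => x 3 4 * (x 0 2 * x 0 4) ^ t2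
  | 5 => f * y1 * f
  | 6 => y2⁻¹
  | 7 => (f * y1 * f)⁻¹
  | _ => 1

/-- letters of E2: `y1, x34, x12 z^t1, x21 z^t1, x01 (x24 z)^t1, f y2 f, y1⁻¹, (f y2 f)⁻¹` -/
def gs2 (x : ℕ → ℕ → G) (t1 : ℕ) (f y1 y2 : G) : ℕ → G
  | 0 => y1
  | 1 => x 3 4
  | 2 => x 1 2 * x 0 4 ^ t1
  | 3 => x 2 1 * x 0 4 ^ t1
  | 4 => x 0 1 * (x 2 4 * x 0 4) ^ t1
  | 5 => f * y2 * f
  | 6 => y1⁻¹
  | 7 => (f * y2 * f)⁻¹
  | _ => 1

/-- action codes of the letters of E1 on `V1` -/
def Ms1 (t1 : Bool) : ℕ → ℕ
  | 0 => 4328932489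
  | 1 => 38959071361
  | 2 => 34634481795
  | 3 => 34764505281
  | 4 => 35167158657
  | 5 => cond t1 52079124755 52078600449
  | 6 => 38959186952
  | 7 => cond t1 17988854199 17987281281
  | _ => 34630287489

/-- action codes of the letters of E2 on `V2` -/
def Ms2 (t2 : Bool) : ℕ → ℕ
  | 0 => 52079657154
  | 1 => 35167191171
  | 2 => 43287330945
  | 3 => 34638741633
  | 4 => 34630815873
  | 5 => cond t2 47647822469 34628702853
  | 6 => 17986273347
  | 7 => cond t2 50904715780 34630816260
  | _ => 34630287489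

theorem sq_X (h : Emb z ph) {a : ℕ} (ha : C a) (h2 : mu a a = e1) : ph a * ph a = 1 := by
  rw [← h.mul ha ha, h2, ph_e1 h]

/-- Core for `V1`, `y2`. -/
theorem core1 (h : Emb z ph) {b : Bool} {y : G} (s : Side2 z ph b y) : Core (P1 ph) y A21 where
  hom := hom1 h
  inj := inj1 h
  cent := cent1 h
  acts := side2_acts1 h s
  fpf := by decide +kernel

/-- Core for `V2`, `y1`. -/
theorem core2 (h : Emb z ph) {b : Bool} {y : G} (s : SideDef.Side z ph b y) :
    Core (P2 ph) y A12 where
  hom := hom2 h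
  inj := inj2 h
  cent := cent2 h
  acts := side_acts2 h s
  fpf := by decide +kernel

theorem acts_gs1 (h : Emb z ph) {b1 b2 : Bool} {f y1 y2 : G} {w : ℕ} (hw : w < 64)
    (hf : f = P1 ph w) (s1 : SideDef.Side z ph b1 y1) (s2 : Side2 z ph b2 y2) :
    ∀ i < 8, Acts (P1 ph) (gs1 (rt ph) b2.toNat f y1 y2 i) (Ms1 b1 i) := by
  have hP := hom1 h
  have k2 : Acts (P1 ph) (ph (X 2 3)) 34634481795 :=
    acts1_of_chk h (CX (by decide +kernel)) (by decide +kernel)
  have k3 : Acts (P1 ph) (ph (X 3 2)) 34764505281 :=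
    acts1_of_chk h (CX (by decide +kernel)) (by decide +kernel)
  have k4 : Acts (P1 ph) (ph (X 3 4)) 35167158657 :=
    acts1_of_chk h (CX (by decide +kernel)) (by decide +kernel)
  have k0 : Acts (P1 ph) y2 4328932489 := side2_acts1 h s2
  have k5 : Acts (P1 ph) (f * y1 * f) (cond b1 52079124755 52078600449) := by
    rw [hf]
    exact acts_conj_P hP hw (side_acts1 h s1)
  intro i hi
  interval_cases i
  · exact k0
  · show Acts (P1 ph) (ph (X 0 1)) 38959071361
    exact acts1_of_chk h (CX (by decide +kernel)) (by decide +kernel)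
  · show Acts (P1 ph) (ph (X 2 3) * ph (X 0 4) ^ b2.toNat) 34634481795
    cases b2
    · simpa using k2
    · rw [← p1_4 (ph := ph)]
      simpa using acts_mul_P hP (by norm_num) k2
  · show Acts (P1 ph) (ph (X 3 2) * ph (X 0 4) ^ b2.toNat) 34764505281
    cases b2
    · simpa using k3
    · rw [← p1_4 (ph := ph)]
      simpa using acts_mul_P hP (by norm_num) k3
  · show Acts (P1 ph) (ph (X 3 4) * (ph (X 0 2) * ph (X 0 4)) ^ b2.toNat) 35167158657
    cases b2
    · simpa using k4
    · rw [← p1_4 (ph := ph), ← p1_1 (ph := ph), ← hP 1 4 (by norm_num) (by norm_num)]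
      have := acts_mul_P hP (w := 1 ^^^ 4) (by decide) k4
      simpa using this
  · exact k5
  · exact acts_inv (N := 38959186952) k0 (by decide +kernel)
  · apply acts_inv k5
    cases b1 <;> decide +kernel

theorem acts_gs2 (h : Emb z ph) {b1 b2 : Bool} {f y1 y2 : G} {w : ℕ} (hw : w < 64)
    (hf : f = P2 ph w) (s1 : SideDef.Side z ph b1 y1) (s2 : Side2 z ph b2 y2) :
    ∀ i < 8, Acts (P2 ph) (gs2 (rt ph) b1.toNat f y1 y2 i) (Ms2 b2 i) := by
  have hP := hom2 h
  have k2 : Acts (P2 ph) (ph (X 1 2)) 43287330945 :=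
    acts2_of_chk h (CX (by decide +kernel)) (by decide +kernel)
  have k3 : Acts (P2 ph) (ph (X 2 1)) 34638741633 :=
    acts2_of_chk h (CX (by decide +kernel)) (by decide +kernel)
  have k4 : Acts (P2 ph) (ph (X 0 1)) 34630815873 :=
    acts2_of_chk h (CX (by decide +kernel)) (by decide +kernel)
  have k0 : Acts (P2 ph) y1 52079657154 := side_acts2 h s1
  have k5 : Acts (P2 ph) (f * y2 * f) (cond b2 47647822469 34628702853) := by
    rw [hf]
    exact acts_conj_P hP hw (side2_acts2 h s2)
  intro i hi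
  interval_cases i
  · exact k0
  · show Acts (P2 ph) (ph (X 3 4)) 35167191171
    exact acts2_of_chk h (CX (by decide +kernel)) (by decide +kernel)
  · show Acts (P2 ph) (ph (X 1 2) * ph (X 0 4) ^ b1.toNat) 43287330945
    cases b1
    · simpa using k2
    · rw [← p2_2 (ph := ph)]
      simpa using acts_mul_P hP (by norm_num) k2
  · show Acts (P2 ph) (ph (X 2 1) * ph (X 0 4) ^ b1.toNat) 34638741633
    cases b1
    · simpa using k3
    · rw [← p2_2 (ph := ph)]
      simpa using acts_mul_P hP (by norm_num) k3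
  · show Acts (P2 ph) (ph (X 0 1) * (ph (X 2 4) * ph (X 0 4)) ^ b1.toNat) 34630815873
    cases b1
    · simpa using k4
    · rw [← p2_2 (ph := ph), ← p2_32 (ph := ph), ← hP 32 2 (by norm_num) (by norm_num)]
      have := acts_mul_P hP (w := 32 ^^^ 2) (by decide) k4
      simpa using this
  · exact k5
  · exact acts_inv (N := 17986273347) k0 (by decide +kernel)
  · apply acts_inv k5
    cases b2 <;> decide +kernel

theorem nrm_gs1 (h : Emb z ph) {b2 : Bool} {f y1 y2 : G}
    (s2 : Side2 z ph b2 y2) (hc : y2 * (f * y1 * f) = f * y1 * f * y2) :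
    ∀ i < 8, Nrm y2 (gs1 (rt ph) b2.toNat f y1 y2 i) := by
  have hP := hom1 h
  have hz := ph_z h
  have k0 : Nrm y2 y2 := Or.inl rfl
  have k5 : Nrm y2 (f * y1 * f) := Or.inl hc
  intro i hi
  interval_cases i
  · exact k0
  · exact nrm_inv_of (sq_X h (CX (by decide +kernel)) (by decide +kernel)) s2.inv01
  · left
    show y2 * (ph (X 2 3) * ph (X 0 4) ^ b2.toNat) = ph (X 2 3) * ph (X 0 4) ^ b2.toNat * y2
    rw [hz]
    have := s2.b23
    cases b2
    · simpa only [SideDef.tw, _root_.Bool.toNat_false, _root_.pow_zero, _root_.mul_one, _root_.cond_false] using this.symm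
    · simpa only [SideDef.tw, _root_.Bool.toNat_true, _root_.pow_one, _root_.cond_true] using this.symm
  · left
    show y2 * (ph (X 3 2) * ph (X 0 4) ^ b2.toNat) = ph (X 3 2) * ph (X 0 4) ^ b2.toNat * y2
    rw [hz]
    have := s2.b32
    cases b2
    · simpa only [SideDef.tw, _root_.Bool.toNat_false, _root_.pow_zero, _root_.mul_one, _root_.cond_false] using this.symm
    · simpa only [SideDef.tw, _root_.Bool.toNat_true, _root_.pow_one, _root_.cond_true] using this.symm
  · left
    show y2 * (ph (X 3 4) * (ph (X 0 2) * ph (X 0 4)) ^ b2.toNat) =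
      ph (X 3 4) * (ph (X 0 2) * ph (X 0 4)) ^ b2.toNat * y2
    have h34 := s2.b34
    cases b2
    · simpa only [SideDef.tw, _root_.Bool.toNat_false, _root_.pow_zero, _root_.mul_one, _root_.cond_false] using h34.symm
    · have h02 := s2.b02
      have h04 := s2.b04
      simp only [SideDef.tw, cond_true] at h34
      simp only [Bool.toNat_true, pow_one]
      have e : ph (X 1 4) * ph (X 1 2) * (ph (X 1 2) * ph (X 0 2)) * (ph (X 1 4) * ph (X 0 4)) =
          ph (X 0 2) * ph (X 0 4) := by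
        rw [← p1_32 (ph := ph), ← p1_8 (ph := ph), ← p1_1 (ph := ph), ← p1_4 (ph := ph)]
        rw [← hP 32 8 (by norm_num) (by norm_num), ← hP 8 1 (by norm_num) (by norm_num),
          ← hP 32 4 (by norm_num) (by norm_num), ← hP _ _ (by decide) (by decide),
          ← hP _ _ (by decide) (by decide), ← hP 1 4 (by norm_num) (by norm_num)]
        congr 1
      symm
      calc ph (X 3 4) * (ph (X 0 2) * ph (X 0 4)) * y2
          = ph (X 3 4) * ph (X 0 2) * (ph (X 0 4) * y2) := by simp only [mul_assoc]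
        _ = ph (X 3 4) * (ph (X 0 2) * y2) * (ph (X 1 4) * ph (X 0 4)) := by
            rw [h04]; simp only [mul_assoc]
        _ = (ph (X 3 4) * y2) * (ph (X 1 2) * ph (X 0 2)) * (ph (X 1 4) * ph (X 0 4)) := by
            rw [h02]; simp only [mul_assoc]
        _ = y2 * (ph (X 3 4) * (ph (X 1 4) * ph (X 1 2) * (ph (X 1 2) * ph (X 0 2)) *
              (ph (X 1 4) * ph (X 0 4)))) := by rw [h34]; simp only [mul_assoc]
        _ = _ := by rw [e]
  · exact k5
  · exact k0.inv
  · exact k5.inv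

theorem nrm_gs2 (h : Emb z ph) {b1 : Bool} {f y1 y2 : G} (hff : f * f = 1)
    (s1 : SideDef.Side z ph b1 y1) (hc : y2 * (f * y1 * f) = f * y1 * f * y2) :
    ∀ i < 8, Nrm y1 (gs2 (rt ph) b1.toNat f y1 y2 i) := by
  have hP := hom2 h
  have hz := ph_z h
  have k0 : Nrm y1 y1 := Or.inl rfl
  have k5 : Nrm y1 (f * y2 * f) := by
    left
    calc y1 * (f * y2 * f) = (f * f) * y1 * (f * y2 * f) := by rw [hff, one_mul]
      _ = f * (f * y1 * f * y2) * f := by simp only [mul_assoc]
      _ = f * (y2 * (f * y1 * f)) * f := by rw [hc]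
      _ = f * y2 * f * y1 * (f * f) := by simp only [mul_assoc]
      _ = _ := by rw [hff, mul_one]
  intro i hi
  interval_cases i
  · exact k0
  · exact nrm_inv_of (sq_X h (CX (by decide +kernel)) (by decide +kernel)) s1.inv34
  · left
    show y1 * (ph (X 1 2) * ph (X 0 4) ^ b1.toNat) = ph (X 1 2) * ph (X 0 4) ^ b1.toNat * y1
    rw [hz]
    have := s1.a12
    cases b1
    · simpa only [SideDef.tw, _root_.Bool.toNat_false, _root_.pow_zero, _root_.mul_one, _root_.cond_false] using this.symm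
    · simpa only [SideDef.tw, _root_.Bool.toNat_true, _root_.pow_one, _root_.cond_true] using this.symm
  · left
    show y1 * (ph (X 2 1) * ph (X 0 4) ^ b1.toNat) = ph (X 2 1) * ph (X 0 4) ^ b1.toNat * y1
    rw [hz]
    have := s1.a21
    cases b1
    · simpa only [SideDef.tw, _root_.Bool.toNat_false, _root_.pow_zero, _root_.mul_one, _root_.cond_false] using this.symm
    · simpa only [SideDef.tw, _root_.Bool.toNat_true, _root_.pow_one, _root_.cond_true] using this.symm
  · left
    show y1 * (ph (X 0 1) * (ph (X 2 4) * ph (X 0 4)) ^ b1.toNat) =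
      ph (X 0 1) * (ph (X 2 4) * ph (X 0 4)) ^ b1.toNat * y1
    have h01 := s1.a01
    cases b1
    · simpa only [SideDef.tw, _root_.Bool.toNat_false, _root_.pow_zero, _root_.mul_one, _root_.cond_false] using h01.symm
    · have h24 := s1.a24
      have h04 := s1.a04
      simp only [SideDef.tw, cond_true] at h01
      simp only [Bool.toNat_true, pow_one]
      have e : ph (X 0 3) * ph (X 2 3) * (ph (X 2 3) * ph (X 2 4)) * (ph (X 0 3) * ph (X 0 4)) =
          ph (X 2 4) * ph (X 0 4) := by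
        rw [← p2_1 (ph := ph), ← p2_16 (ph := ph), ← p2_32 (ph := ph), ← p2_2 (ph := ph)]
        rw [← hP 1 16 (by norm_num) (by norm_num), ← hP 16 32 (by norm_num) (by norm_num),
          ← hP 1 2 (by norm_num) (by norm_num), ← hP _ _ (by decide) (by decide),
          ← hP _ _ (by decide) (by decide), ← hP 32 2 (by norm_num) (by norm_num)]
        congr 1
      symm
      calc ph (X 0 1) * (ph (X 2 4) * ph (X 0 4)) * y1
          = ph (X 0 1) * ph (X 2 4) * (ph (X 0 4) * y1) := by simp only [mul_assoc]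
        _ = ph (X 0 1) * (ph (X 2 4) * y1) * (ph (X 0 3) * ph (X 0 4)) := by
            rw [h04]; simp only [mul_assoc]
        _ = (ph (X 0 1) * y1) * (ph (X 2 3) * ph (X 2 4)) * (ph (X 0 3) * ph (X 0 4)) := by
            rw [h24]; simp only [mul_assoc]
        _ = y1 * (ph (X 0 1) * (ph (X 0 3) * ph (X 2 3) * (ph (X 2 3) * ph (X 2 4)) *
              (ph (X 0 3) * ph (X 0 4)))) := by rw [h01]; simp only [mul_assoc]
        _ = _ := by rw [e]
  · exact k5
  · exact k0.inv
  · exact k5.inv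

/-- **E1** -/
theorem E1 (h : Emb z ph) {b1 b2 : Bool} {f y1 y2 : G} {w : ℕ} (hw : w < 64) (hf : f = P1 ph w)
    (c : Config.Config (rt ph) b1.toNat b2.toNat f y1 y2) {l : List ℕ}
    (hl : (l.all fun a => Nat.blt a 8) = true) (ht : triv (Ms1 b1) l = true) :
    evalW (gs1 (rt ph) b2.toNat f y1 y2) l = 1 :=
  word_one (core1 h (toSide2 h c.side2)) (acts_gs1 h hw hf (toSide1 h c.side1) (toSide2 h c.side2))
    (nrm_gs1 h (toSide2 h c.side2) c.comm) hl ht

/-- **E2** -/
theorem E2 (h : Emb z ph) {b1 b2 : Bool} {f y1 y2 : G} {w : ℕ} (hw : w < 64) (hf : f = P2 ph w)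
    (c : Config.Config (rt ph) b1.toNat b2.toNat f y1 y2) {l : List ℕ}
    (hl : (l.all fun a => Nat.blt a 8) = true) (ht : triv (Ms2 b2) l = true) :
    evalW (gs2 (rt ph) b1.toNat f y1 y2) l = 1 :=
  word_one (core2 h (toSide1 h c.side1)) (acts_gs2 h hw hf (toSide1 h c.side1) (toSide2 h c.side2))
    (nrm_gs2 h (by rw [hf]; exact (hom2 h).sq hw) (toSide1 h c.side1) c.comm) hl ht

/-! ### the relators of the small configurations -/

theorem f00 (h : Emb z ph) : (1 : G) = P1 ph 0 ∧ (1 : G) = P2 ph 0 :=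
  ⟨(hom1 h).zero.symm, (hom2 h).zero.symm⟩

theorem rel00 (h : Emb z ph) {y1 y2 : G} (c : Config.Config (rt ph) 0 0 1 y1 y2) :
    (y1⁻¹ * ph (X 3 2)) ^ 3 = 1 ∧ (y2⁻¹ * ph (X 2 1)) ^ 3 = 1 := by
  have e1 := E1 h (b1 := false) (b2 := false) (w := 0) (by norm_num) (f00 h).1 c
    (l := [7, 3, 7, 3, 7, 3]) (by decide) (by decide +kernel)
  have e2 := E2 h (b1 := false) (b2 := false) (w := 0) (by norm_num) (f00 h).2 c
    (l := [7, 3, 7, 3, 7, 3]) (by decide) (by decide +kernel)
  simp only [evalW, gs1, gs2, rt, Bool.toNat_false, pow_zero, mul_one, one_mul] at e1 e2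
  constructor
  · rw [← e1]; simp only [pow_succ, pow_zero, one_mul, mul_assoc]
  · rw [← e2]; simp only [pow_succ, pow_zero, one_mul, mul_assoc]

theorem rel10 (h : Emb z ph) {y1 y2 : G} (c : Config.Config (rt ph) 1 0 (ph (X 1 4)) y1 y2) :
    ((ph (X 1 4) * y1 * ph (X 1 4))⁻¹ * ph (X 2 3) * ph (X 3 2) * y2) ^ 4 = 1 ∧
      ((ph (X 1 4) * y2 * ph (X 1 4))⁻¹ * ph (X 2 1) * z) ^ 3 = 1 := by
  have hz := ph_z h
  have e1 := E1 h (b1 := true) (b2 := false) (w := 32) (by norm_num) (p1_32 (ph := ph)).symm c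
    (l := [7, 2, 3, 0, 7, 2, 3, 0, 7, 2, 3, 0, 7, 2, 3, 0]) (by decide) (by decide +kernel)
  have e2 := E2 h (b1 := true) (b2 := false) (w := 8) (by norm_num) (p2_8 (ph := ph)).symm c
    (l := [7, 3, 7, 3, 7, 3]) (by decide) (by decide +kernel)
  simp only [evalW, gs1, gs2, rt, Bool.toNat_false, Bool.toNat_true, pow_zero, pow_one, mul_one,
    hz] at e1 e2
  constructor
  · rw [← e1]; simp only [pow_succ, pow_zero, one_mul, mul_assoc]
  · rw [← e2]; simp only [pow_succ, pow_zero, one_mul, mul_assoc]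

theorem rel01 (h : Emb z ph) {y1 y2 : G} (c : Config.Config (rt ph) 0 1 (ph (X 0 3)) y1 y2) :
    ((ph (X 0 3) * y2 * ph (X 0 3))⁻¹ * ph (X 1 2) * ph (X 2 1) * y1) ^ 4 = 1 ∧
      ((ph (X 0 3) * y1 * ph (X 0 3))⁻¹ * ph (X 3 2) * z) ^ 3 = 1 := by
  have hz := ph_z h
  have e1 := E1 h (b1 := false) (b2 := true) (w := 2) (by norm_num) (p1_2 (ph := ph)).symm c
    (l := [7, 3, 7, 3, 7, 3]) (by decide) (by decide +kernel)
  have e2 := E2 h (b1 := false) (b2 := true) (w := 1) (by norm_num) (p2_1 (ph := ph)).symm c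
    (l := [7, 2, 3, 0, 7, 2, 3, 0, 7, 2, 3, 0, 7, 2, 3, 0]) (by decide) (by decide +kernel)
  simp only [evalW, gs1, gs2, rt, Bool.toNat_false, Bool.toNat_true, pow_zero, pow_one, mul_one,
    hz] at e1 e2
  constructor
  · rw [← e2]; simp only [pow_succ, pow_zero, one_mul, mul_assoc]
  · rw [← e1]; simp only [pow_succ, pow_zero, one_mul, mul_assoc]

end Cfsg.Agent.Held.Words
end

private theorem dce_515e27fdb706 : _root_.True := by
  try have : _root_.True := by simp only [_root_.Cfsg.Agent.Held.ModelM24.fw.eq_1]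
  try have : _root_.True := by simp only [_root_.Cfsg.Agent.Held.Words.gs2.eq_8]
  try have : _root_.True := by simp only [_root_.Cfsg.Agent.Held.Words.gs2.eq_4]
  try have : _root_.True := by simp only [_root_.Cfsg.Agent.Held.Words.gs1.eq_4]
  try have : _root_.True := by simp only [_root_.Cfsg.Agent.Held.Words.gs1.eq_8]
  try have : _root_.True := by simp only [_root_.Cfsg.Agent.Held.Words.gs1.eq_6]
  try have : _root_.True := by simp only [_root_.Cfsg.Agent.Held.Words.gs2.eq_2]
  try have : _root_.True := by simp only [_root_.Cfsg.Agent.Held.Words.gs1.eq_5]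
  try have : _root_.True := by simp only [_root_.Cfsg.Agent.Held.Words.gs1.eq_2]
  try have : _root_.True := by simp only [_root_.Cfsg.Agent.Held.Words.gs2.eq_6]
  try have : _root_.True := by simp only [_root_.Cfsg.Agent.Held.ModelM24.tabL.eq_1]
  try have : _root_.True := by simp only [_root_.Cfsg.Agent.Held.PresM24.relsK.eq_1]
  try have : _root_.True := by simp only [_root_.Cfsg.Agent.Held.Words.gs1.eq_3]
  try have : _root_.True := by simp only [_root_.Cfsg.Agent.SporadicRecognition.HeldModel.JJ.eq_1]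
  try have : _root_.True := by simp only [_root_.Cfsg.Agent.Held.SideWords.pairs.eq_1]
  try have : _root_.True := by simp only [_root_.Cfsg.Agent.Held.PresM24.extraW.eq_1]
  try have : _root_.True := by simp only [_root_.Cfsg.Agent.Held.Words.gs1.eq_7]
  try have : _root_.True := by simp only [_root_.Cfsg.Agent.Held.Words.gs1.eq_9]
  try have : _root_.True := by simp only [_root_.Cfsg.Agent.Held.Words.gs2.eq_1]
  try have : _root_.True := by simp only [_root_.Cfsg.Agent.Held.Words.gs2.eq_3]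
  try have : _root_.True := by simp only [_root_.Cfsg.Agent.Held.Words.gs1.eq_1]
  try have : _root_.True := by simp only [_root_.Cfsg.Agent.Held.Words.rt.eq_1]
  try have : _root_.True := by simp only [_root_.Cfsg.Agent.Held.PresM24.relsM.eq_1]
  try have : _root_.True := by simp only [_root_.Cfsg.Agent.Held.Words.gs2.eq_5]
  try have : _root_.True := by simp only [_root_.Cfsg.Agent.Held.Words.gs2.eq_9]
  try have : _root_.True := by simp only [_root_.Cfsg.Agent.Held.Words.gs2.eq_7]
  exact _root_.True.intro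
end

-- part: Held/PresL5
section
prune_inst 0x343045007522000000180000020020402000000200600001614006020b494143a04300013e70031011d4ace0484ac06000100159421800002a00820040040000042332e01074bc0031000040f803180c00000000000000000000000000000000000000000
set_option linter.all false
open scoped Cfsg.Agent.FastGrp

/-!
# The configuration `(0, 0)`: the group generated has order at most `|SL(5, 2)| = 9999360`
-/

set_option autoImplicit false

namespace Cfsg.Agent.Held.PresL5

open Cfsg.Agent.SporadicRecognition.CosetCert Cfsg.Agent.SporadicRecognition.CosetCertHyp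
  Cfsg.Agent.Held.Config Cfsg.Agent.Held.Letters Cfsg.Agent.Held.SideWords
  Cfsg.Agent.Held.PresCard Cfsg.Agent.Held.PresY

/-- the additional relators -/
def extraW : List (List ℕ) := [[15, 13, 14, 12], pw 3 [13, 11], pw 3 [15, 10]]

/-- all relators -/
def relsL5 : List (List ℕ) := relsP ++ (sideW LN 12 13 0 ++ (sideW LM 14 15 0 ++ extraW))

/-- The relations of the configuration `(0, 0)`. -/
structure Rels {G : Type*} [Group G] (x : ℕ → ℕ → G) (y1 y2 : G) : Prop where
  st : St x
  cfg : Config x 0 0 1 y1 y2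
  e1 : (y1⁻¹ * x 3 2) ^ 3 = 1
  e2 : (y2⁻¹ * x 2 1) ^ 3 = 1

section
variable {G : Type*} [Group G] {x : ℕ → ℕ → G} {y1 y2 : G}

theorem comm_aux (h : y2 * (1 * y1 * 1) = 1 * y1 * 1 * y2) : y2⁻¹ * (y1⁻¹ * (y2 * y1)) = 1 := by
  simp only [one_mul, mul_one] at h
  rw [h, inv_mul_cancel_left, inv_mul_cancel]

theorem rels_y (h : Rels x y1 y2) : ∀ r ∈ relsL5, ev (gy x y1 y2) r = 1 := by
  intro r hr
  simp only [relsL5, List.mem_append] at hr
  rcases hr with hr | hr | hr | hr
  · exact relsP_y h.st y1 y2 r hr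
  · exact side1_y h.st y2 h.cfg.side1 r hr
  · exact side2_y h.st y1 h.cfg.side2 r hr
  · simp only [extraW, List.mem_cons, List.not_mem_nil, or_false] at hr
    rcases hr with rfl | rfl | rfl
    · simp only [ev_cons, ev_nil, mul_one]
      exact comm_aux h.cfg.comm
    · rw [ev_pw]
      simp only [ev_cons, ev_nil, mul_one]
      exact h.e1
    · rw [ev_pw]
      simp only [ev_cons, ev_nil, mul_one]
      exact h.e2

theorem relsL5_lt : ∀ r ∈ relsL5, ∀ l ∈ r, l < 16 := by decide +kernel

theorem check : checkHyp PL5Data.C relsL5 sX = true :=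
  Cfsg.Agent.SporadicRecognition.HypFast.check_fast (by decide +kernel)

/-- **Upper bound** for the configuration `(0, 0)`. -/
theorem card_le (h : Rels x y1 y2) :
    Finite (Subgroup.closure (gy x y1 y2 '' {n | n < 16})) ∧
      Nat.card (Subgroup.closure (gy x y1 y2 '' {n | n < 16})) ≤ 9999360 := by
  obtain ⟨h1, h2⟩ := card_C h.st
  have := bound PL5Data.C (gy x y1 y2) (Subgroup.closure (gx x '' {n | n < 12})) relsL5 sX
    PL5All.part (gy_inv h.st y1 y2 _ (by decide) rfl rfl rfl rfl) relsL5_lt (rels_y h)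
    (fun r hr l hl => lt_of_lt_of_le (sX_lt r hr l hl) (by decide)) (ev_sX y1 y2) check
  exact ⟨this.1, this.2.trans (by omega)⟩

theorem Rels.prod {H : Type*} [Group H] {x' : ℕ → ℕ → H} {y1' y2' : H} (h : Rels x y1 y2)
    (h' : Rels x' y1' y2') : Rels (fun i j => (x i j, x' i j)) (y1, y1') (y2, y2') where
  st := h.st.prod h'.st
  cfg := Letters.Config.prod h.cfg h'.cfg
  e1 := Prod.ext h.e1 h'.e1
  e2 := Prod.ext h.e2 h'.e2

end

end Cfsg.Agent.Held.PresL5

private theorem dce_c6c471f5345d : _root_.True := by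
  try have : _root_.True := by simp only [_root_.Cfsg.Agent.Held.PresL5.relsL5.eq_1]
  try have : _root_.True := by simp only [_root_.Cfsg.Agent.Held.PresL5.extraW.eq_1]
  exact _root_.True.intro
end

-- part: Held/ModelL5
section
set_option linter.all false
open scoped Cfsg.Agent.FastGrp

/-!
# `SL(5, 2)` as a model of the configuration `(0, 0)`
-/

set_option autoImplicit false

namespace Cfsg.Agent.Held.ModelL5

open Matrix Cfsg.Agent.Lib.F2Mat Cfsg.Agent.SporadicRecognition.CosetCert
  Cfsg.Agent.Held.Config Cfsg.Agent.Held.Letters Cfsg.Agent.Held.Code Cfsg.Agent.Held.EmbSt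
  Cfsg.Agent.Held.LetterVals

/-- codes of invertible matrices -/
def U (a : ℕ) : Prop := a < 2 ^ 25 ∧ (toMat 5 a).det = 1

/-- the matrix with code `a` -/
noncomputable def tS (a : ℕ) : SL := if h : (toMat 5 a).det = 1 then (⟨toMat 5 a, h⟩ : SL) else 1

theorem coe_tS {a : ℕ} (h : U a) : ((tS a : SL) : Matrix (Fin 5) (Fin 5) (ZMod 2)) = toMat 5 a := by
  have h2 := h.2
  have : tS a = (⟨toMat 5 a, h2⟩ : SL) := dif_pos h2
  rw [this]

theorem U.mul {a b : ℕ} (ha : U a) (hb : U b) : U (mu a b) := by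
  refine ⟨mu_lt a b, ?_⟩
  rw [toMat_mul, det_mul, ha.2, hb.2, one_mul]

theorem tS_mul {a b : ℕ} (ha : U a) (hb : U b) : tS (mu a b) = tS a * tS b := by
  apply Subtype.ext
  have h1 : ((tS a * tS b : SL) : Matrix (Fin 5) (Fin 5) (ZMod 2)) = toMat 5 a * toMat 5 b := by
    rw [← coe_tS ha, ← coe_tS hb]; rfl
  have h2 := coe_tS (ha.mul hb)
  exact (h2.trans (toMat_mul 5 a b)).trans h1.symm

theorem U_e1 : U e1 := ⟨by decide, by rw [← one_eq_e1, toMat_one, det_one]⟩

theorem tS_e1 : tS e1 = 1 := by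
  apply Subtype.ext
  rw [coe_tS U_e1, ← one_eq_e1, toMat_one]
  rfl

theorem U_of_inv {a b : ℕ} (ha : a < 2 ^ 25) (h : mu a b = e1) : U a := by
  refine ⟨ha, ?_⟩
  have h6 : (toMat 5 a).det * (toMat 5 b).det = 1 := by
    rw [← det_mul, ← toMat_mul, show Lib.F2Mat.mul 5 a b = e1 from h, ← one_eq_e1, toMat_one,
      det_one]
  generalize (toMat 5 a).det = c at h6
  generalize (toMat 5 b).det = d at h6
  revert h6; revert c d; decide

theorem U_of_C {a : ℕ} (h : C a) : U a := by
  obtain ⟨h1, _, b, _, h2, _⟩ := h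
  exact U_of_inv h1 h2

/-- codes of `y1, y1⁻¹, y2, y2⁻¹` -/
def cY (n : ℕ) : ℕ := [25694273, 9179201, 17043554, 17043491].getD n e1

/-- codes of the sixteen letters -/
def c16 (n : ℕ) : ℕ :=
  [X 0 1, X 0 2, X 0 3, X 0 4, X 1 2, X 1 3, X 1 4, X 2 3, X 2 4, X 3 4, X 2 1, X 3 2,
    cY 0, cY 1, cY 2, cY 3].getD n e1

/-- code of a word -/
def ec (r : List ℕ) : ℕ := r.foldr (fun l a => mu (c16 l) a) e1

theorem c16_of_ge {n : ℕ} (h : 16 ≤ n) : c16 n = e1 := by
  unfold c16
  rw [List.getD_eq_getElem?_getD, List.getElem?_eq_none (by simpa using h)]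
  rfl

/-- formal inverse letters -/
def inv16 (n : ℕ) : ℕ := [0,1,2,3,4,5,6,7,8,9,10,11,13,12,15,14].getD n 16

theorem U_c16 (n : ℕ) : U (c16 n) := by
  rcases Nat.lt_or_ge n 16 with h | h
  · have key : ∀ n < 16, (Nat.ble (c16 n + 1) 33554432 && Nat.beq (mu (c16 n) (c16 (inv16 n))) e1)
        = true := by decide +kernel
    have h1 := key n h
    rw [Bool.and_eq_true] at h1
    exact U_of_inv (Nat.le_of_ble_eq_true h1.1) (Nat.eq_of_beq_eq_true h1.2)
  · rw [c16_of_ge h]; exact U_e1

theorem U_ec (r : List ℕ) : U (ec r) := by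
  induction r with
  | nil => exact U_e1
  | cons l r ih => exact (U_c16 l).mul ih

/-- the root elements -/
noncomputable def xM (i j : ℕ) : SL := tS (X i j)
/-- `y1` -/
noncomputable def y1M : SL := tS (c16 12)
/-- `y2` -/
noncomputable def y2M : SL := tS (c16 14)

theorem tS_inv {a b : ℕ} (ha : U a) (hb : U b) (h : mu a b = e1) : (tS a)⁻¹ = tS b := by
  rw [inv_eq_iff_mul_eq_one, ← tS_mul ha hb, h, tS_e1]

theorem gy_eq (n : ℕ) : gy xM y1M y2M n = tS (c16 n) := by
  rcases Nat.lt_or_ge n 16 with h | h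
  · interval_cases n
    · rw [g0]; exact congrArg tS rfl
    · rw [g1]; exact congrArg tS rfl
    · rw [g2]; exact congrArg tS rfl
    · rw [g3]; exact congrArg tS rfl
    · rw [g4]; exact congrArg tS rfl
    · rw [g5]; exact congrArg tS rfl
    · rw [g6]; exact congrArg tS rfl
    · rw [g7]; exact congrArg tS rfl
    · rw [g8]; exact congrArg tS rfl
    · rw [g9]; exact congrArg tS rfl
    · rw [g10]; exact congrArg tS rfl
    · rw [g11]; exact congrArg tS rfl
    · rw [g12]; exact congrArg tS rfl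
    · rw [g13]; exact tS_inv (U_c16 12) (U_c16 13) (by decide +kernel)
    · rw [g14]; exact congrArg tS rfl
    · rw [g15]; exact tS_inv (U_c16 14) (U_c16 15) (by decide +kernel)
  · rw [gy_of_ge _ _ _ h, c16_of_ge h, tS_e1]

theorem ev_eq (r : List ℕ) : ev (gy xM y1M y2M) r = tS (ec r) := by
  induction r with
  | nil => exact tS_e1.symm
  | cons l r ih =>
    rw [ev_cons, ih, gy_eq, ← tS_mul (U_c16 l) (U_ec r)]
    rfl

theorem weq {u v : List ℕ} (h : Nat.beq (ec u) (ec v) = true) :
    ev (gy xM y1M y2M) u = ev (gy xM y1M y2M) v := by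
  rw [ev_eq, ev_eq, Nat.eq_of_beq_eq_true h]

theorem rels : PresL5.Rels xM y1M y2M where
  st := by
    refine st_of_words (y1 := y1M) (y2 := y2M) ?_ ?_
    · intro n hn
      have key : ∀ n < 12, Nat.beq (ec [n, n]) (ec []) = true := by decide +kernel
      exact weq (key n hn)
    · intro r hr
      have key : ∀ r ∈ relsP, Nat.beq (ec r) (ec []) = true := by decide +kernel
      exact weq (key r hr)
  cfg :=
    { side1 := by
        refine side1_of_eqs (y2 := y2M) ?_
        intro p hp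
        have key : ∀ p ∈ eqs1 0, Nat.beq (ec p.1) (ec p.2) = true := by decide +kernel
        exact weq (key p hp)
      side2 := by
        refine side2_of_eqs (y1 := y1M) ?_
        intro p hp
        have key : ∀ p ∈ eqs2 0, Nat.beq (ec p.1) (ec p.2) = true := by decide +kernel
        exact weq (key p hp)
      comm := by
        have := weq (u := [14,12]) (v := [12,14]) (by decide +kernel)
        simp only [ev_cons, ev_nil, mul_one, g12, g14] at this
        simp only [one_mul, mul_one]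
        exact this }
  e1 := by
    have := weq (u := [13,11,13,11,13,11]) (v := []) (by decide +kernel)
    simp only [ev_cons, ev_nil, mul_one, g13, g11] at this
    rw [pow_succ, pow_succ, pow_one]
    simp only [mul_assoc]
    exact this
  e2 := by
    have := weq (u := [15,10,15,10,15,10]) (v := []) (by decide +kernel)
    simp only [ev_cons, ev_nil, mul_one, g15, g10] at this
    rw [pow_succ, pow_succ, pow_one]
    simp only [mul_assoc]
    exact this

/-! ### Generation -/

/-- words for the transvections -/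
def wT (i j : ℕ) : List ℕ :=
  ([[[], [0], [1], [2], [3]],
    [[0,14], [], [4], [5], [6]],
    [[14,10,15], [10], [], [7], [8]],
    [[11,14,10,11,10,15], [10,11,10,11], [11], [], [9]],
    [[12,11,14,10,11,10,13,15], [10,12,11,10,11,13], [12,11,13], [9,12], []]].getD i []).getD j []

theorem wT_ok : ∀ i j : Fin 5, i ≠ j → Nat.beq (ec (wT i j)) (X i j) = true := by decide +kernel

theorem coe_tS_X (i j : Fin 5) (h : i ≠ j) :
    toMat 5 (X i j) = (Matrix.transvection i j (1 : ZMod 2)) := by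
  ext k l
  rw [toMat_apply, Matrix.transvection, Matrix.add_apply, Matrix.one_apply, Matrix.single_apply]
  revert i j k l
  decide +kernel

theorem closure_eq : Subgroup.closure (gy xM y1M y2M '' {n | n < 16}) = ⊤ := by
  rw [eq_top_iff, ← Cfsg.Agent.LieClassical.SLGen.closure_transvections, Subgroup.closure_le]
  rintro A ⟨i, j, h, c, rfl⟩
  have hc : c = 0 ∨ c = 1 := by revert c; decide
  rcases hc with rfl | rfl
  · have : SpecialLinearGroup.transvection h (0 : ZMod 2) = 1 := by
      apply Subtype.ext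
      show Matrix.transvection i j (0 : ZMod 2) = 1
      rw [Matrix.transvection_zero]
    rw [this]
    exact one_mem _
  · have h1 : SpecialLinearGroup.transvection h (1 : ZMod 2) = ev (gy xM y1M y2M) (wT i j) := by
      apply Subtype.ext
      rw [ev_eq, coe_tS (U_ec _), Nat.eq_of_beq_eq_true (wT_ok i j h), coe_tS_X i j h]
      rfl
    rw [h1]
    refine ev_mem _ _ _ fun l hl => Subgroup.subset_closure ⟨l, ?_, rfl⟩
    have key : ∀ i j : Fin 5, ∀ l ∈ wT i j, l < 16 := by decide +kernel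
    exact key i j l hl

end Cfsg.Agent.Held.ModelL5
end

-- part: Held/L5Case
section
set_option linter.all false
open scoped Cfsg.Agent.FastGrp

/-!
# The configuration `(0, 0)` generates `SL(5, 2)`
-/

set_option autoImplicit false

namespace Cfsg.Agent.Held.L5Case

open Cfsg.Agent.Held.Code Cfsg.Agent.Held.Config Cfsg.Agent.Held.Letters Cfsg.Agent.Held.ModelL5
  Cfsg.Agent.Held.LetterVals

theorem card_SL : Nat.card SL = 9999360 := by
  have h := Cfsg.Agent.S0242.result (F := ZMod 2) (q := 2) (ZMod.card 2) 5 (by norm_num)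
  rw [Fin.prod_univ_five] at h
  have h1 : (2 - 1) * Nat.card SL = 9999360 := by
    rw [h]; decide
  omega

instance finite_SL : Finite SL := Subtype.finite

theorem center_SL : Subgroup.center SL = ⊥ := by
  rw [eq_bot_iff]
  intro A hA
  rw [Matrix.SpecialLinearGroup.mem_center_iff] at hA
  obtain ⟨r, hr, hA⟩ := hA
  rw [Subgroup.mem_bot]
  have h1 : r = 1 := by
    have key : ∀ r : ZMod 2, r = 0 ∨ r = 1 := by decide
    rcases key r with h0 | h0
    · rw [h0] at hr
      exact absurd hr (by decide)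
    · exact h0
  apply Subtype.ext
  rw [← hA, h1]
  simp

theorem simple_SL : IsSimpleGroup SL := by
  have h : IsSimpleGroup (Matrix.ProjectiveSpecialLinearGroup (Fin 5) (ZMod 2)) :=
    Cfsg.Agent.S0249.result 5 (by norm_num)
  have e : Matrix.ProjectiveSpecialLinearGroup (Fin 5) (ZMod 2) ≃* SL :=
    (QuotientGroup.quotientMulEquivOfEq center_SL).trans QuotientGroup.quotientBot
  exact e.symm.isSimpleGroup

/-- **The configuration `(0, 0)`**: the group generated by the root elements, `y1` and `y2` is a copy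
of `SL(5, 2)`. -/
theorem exists_embedding {G : Type*} [Group G] {x : ℕ → ℕ → G} {y1 y2 : G}
    (h : PresL5.Rels x y1 y2) (hz : x 0 4 ≠ 1) :
    ∃ f : SL →* G, Function.Injective f ∧
      (∀ n < 16, f (gy xM y1M y2M n) = gy x y1 y2 n) ∧
      f.range = Subgroup.closure (gy x y1 y2 '' {n | n < 16}) := by
  have hb := PresL5.card_le (PresL5.Rels.prod ModelL5.rels h)
  rw [gy_prod] at hb
  obtain ⟨f, hf, hr⟩ := exists_hom (gy xM y1M y2M) (gy x y1 y2) 16 closure_eq hb.1
    (by rw [card_SL]; exact hb.2)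
  refine ⟨f, ?_, hf, hr⟩
  have := simple_SL
  rw [← MonoidHom.ker_eq_bot_iff]
  rcases (inferInstance : f.ker.Normal).eq_bot_or_eq_top with h1 | h1
  · exact h1
  · exfalso
    have h2 := hf 3 (by norm_num)
    have h3 : gy xM y1M y2M 3 ∈ f.ker := by rw [h1]; trivial
    rw [MonoidHom.mem_ker] at h3
    rw [h3, g3] at h2
    exact hz h2.symm

end Cfsg.Agent.Held.L5Case
end

-- part: Held/EmbCases
section
set_option linter.all false
open scoped Cfsg.Agent.FastGrp

/-!
# The configurations `(0,0)`, `(1,0)`, `(0,1)` for an embedding of the centraliser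

`Emb z ph` : `ph` identifies the codes with the centraliser of `z`.
-/

set_option autoImplicit false

namespace Cfsg.Agent.Held.EmbCases

open Cfsg Cfsg.Agent.SporadicRecognition.CosetCert Cfsg.Agent.Held.Config
  Cfsg.Agent.Held.Letters Cfsg.Agent.Held.Code Cfsg.Agent.Held.EmbSt Cfsg.Agent.Held.GenC
  Cfsg.Agent.Held.LetterVals

/-! ### The mirror image of an embedding -/

/-- codes of the mirrored letters -/
def cm (n : ℕ) : ℕ :=
  [X 3 4, X 2 4, X 1 4, X 0 4, X 2 3, X 1 3, X 0 3, X 1 2, X 0 2, X 0 1, X 3 2, X 2 1].getD n e1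

/-- code of a mirrored word -/
def evM (r : List ℕ) : ℕ := r.foldr (fun l a => mu (cm l) a) e1

theorem cm_of_ge {n : ℕ} (h : 12 ≤ n) : cm n = e1 := by
  unfold cm
  rw [List.getD_eq_getElem?_getD, List.getElem?_eq_none (by simpa using h)]
  rfl

theorem C_cm (n : ℕ) : C (cm n) := by
  rcases Nat.lt_or_ge n 12 with h | h
  · have key : ∀ n < 12, isC (cm n) (cm n) = true := by decide +kernel
    exact C_of_isC (key n h)
  · rw [cm_of_ge h]; exact C_e1

theorem C_evM (r : List ℕ) : C (evM r) := by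
  induction r with
  | nil => exact C_e1
  | cons l r ih => exact (C_cm l).mul ih

theorem relsP_mir : ∀ r ∈ relsP, evM r = e1 := by decide +kernel

theorem cm_sq (n : ℕ) : mu (cm n) (cm n) = e1 := by
  rcases Nat.lt_or_ge n 12 with h | h
  · have key : ∀ n < 12, mu (cm n) (cm n) = e1 := by decide +kernel
    exact key n h
  · rw [cm_of_ge h]; decide +kernel

section
variable {G : Type*} [Group G] {z : G} {ph : ℕ → G}

theorem gx_mir (h : Emb z ph) (n : ℕ) : gx (mir fun i j => ph (X i j)) n = ph (cm n) := by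
  rcases Nat.lt_or_ge n 12 with hn | hn
  · interval_cases n <;> rfl
  · rw [cm_of_ge hn, gx_of_ge _ hn, ph_e1 h]

theorem ev_mir (h : Emb z ph) (r : List ℕ) :
    ev (gx (mir fun i j => ph (X i j))) r = ph (evM r) := by
  induction r with
  | nil => exact (ph_e1 h).symm
  | cons l r ih =>
    rw [ev_cons, ih, gx_mir h, ← h.mul (C_cm l) (C_evM r)]
    rfl

/-- the mirrored root elements of an embedding satisfy the Steinberg relations -/
theorem st_mir (h : Emb z ph) : St (mir fun i j => ph (X i j)) where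
  sq := by
    intro n
    rw [gx_mir h, ← h.mul (C_cm n) (C_cm n), cm_sq, ph_e1 h]
  rel := by
    intro r hr
    rw [ev_mir h, relsP_mir r hr, ph_e1 h]

end

/-! ### Mirroring a configuration -/

section
variable {G : Type*} [Group G] {x : ℕ → ℕ → G}

theorem side_mir_mir {t : ℕ} {y : G} (s : Side x t y) : Side (mir (mir x)) t y where
  cube := s.cube
  inv := s.inv
  act3 := by
    intro i hi
    interval_cases i
    · exact s.act3 0 (by norm_num)
    · exact s.act3 1 (by norm_num)
    · exact s.act3 2 (by norm_num)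
  act4 := by
    intro i hi
    interval_cases i
    · exact s.act4 0 (by norm_num)
    · exact s.act4 1 (by norm_num)
    · exact s.act4 2 (by norm_num)
  x01 := s.x01
  x02 := s.x02
  x12 := s.x12
  x21 := s.x21

theorem config_mir {y1 y2 : G} (hf : x 0 3 * x 0 3 = 1) (c : Config x 0 1 (x 0 3) y1 y2) :
    Config (mir x) 1 0 (mir x 1 4) y2 y1 where
  side1 := c.side2
  side2 := side_mir_mir c.side1
  comm := by
    show y1 * (x 0 3 * y2 * x 0 3) = x 0 3 * y2 * x 0 3 * y1
    have h := c.comm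
    have h1 : x 0 3 * (y2 * (x 0 3 * y1 * x 0 3)) * x 0 3 =
        x 0 3 * (x 0 3 * y1 * x 0 3 * y2) * x 0 3 := by rw [h]
    have h2 : x 0 3 * (y2 * (x 0 3 * y1 * x 0 3)) * x 0 3 = x 0 3 * y2 * x 0 3 * y1 := by
      simp only [mul_assoc, hf, mul_one]
    have h3 : x 0 3 * (x 0 3 * y1 * x 0 3 * y2) * x 0 3 = y1 * (x 0 3 * y2 * x 0 3) := by
      calc x 0 3 * (x 0 3 * y1 * x 0 3 * y2) * x 0 3
          = (x 0 3 * x 0 3) * (y1 * (x 0 3 * y2 * x 0 3)) := by simp only [mul_assoc]
        _ = _ := by rw [hf, one_mul]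
    rw [← h2, ← h3, h1]

/-- the letters of the mirrored configuration are the same elements -/
theorem closure_mir (y1 y2 : G) :
    Subgroup.closure (gy (mir x) y2 y1 '' {n | n < 16}) =
      Subgroup.closure (gy x y1 y2 '' {n | n < 16}) := by
  have key : ∀ n < 16, ∃ m < 16, gy (mir x) y2 y1 n = gy x y1 y2 m := by
    intro n hn
    interval_cases n
    · exact ⟨9, by norm_num, rfl⟩
    · exact ⟨8, by norm_num, rfl⟩
    · exact ⟨6, by norm_num, rfl⟩
    · exact ⟨3, by norm_num, rfl⟩
    · exact ⟨7, by norm_num, rfl⟩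
    · exact ⟨5, by norm_num, rfl⟩
    · exact ⟨2, by norm_num, rfl⟩
    · exact ⟨4, by norm_num, rfl⟩
    · exact ⟨1, by norm_num, rfl⟩
    · exact ⟨0, by norm_num, rfl⟩
    · exact ⟨11, by norm_num, rfl⟩
    · exact ⟨10, by norm_num, rfl⟩
    · exact ⟨14, by norm_num, rfl⟩
    · exact ⟨15, by norm_num, rfl⟩
    · exact ⟨12, by norm_num, rfl⟩
    · exact ⟨13, by norm_num, rfl⟩
  have key' : ∀ n < 16, ∃ m < 16, gy x y1 y2 n = gy (mir x) y2 y1 m := by
    intro n hn
    interval_cases n
    · exact ⟨9, by norm_num, rfl⟩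
    · exact ⟨8, by norm_num, rfl⟩
    · exact ⟨6, by norm_num, rfl⟩
    · exact ⟨3, by norm_num, rfl⟩
    · exact ⟨7, by norm_num, rfl⟩
    · exact ⟨5, by norm_num, rfl⟩
    · exact ⟨2, by norm_num, rfl⟩
    · exact ⟨4, by norm_num, rfl⟩
    · exact ⟨1, by norm_num, rfl⟩
    · exact ⟨0, by norm_num, rfl⟩
    · exact ⟨11, by norm_num, rfl⟩
    · exact ⟨10, by norm_num, rfl⟩
    · exact ⟨14, by norm_num, rfl⟩
    · exact ⟨15, by norm_num, rfl⟩
    · exact ⟨12, by norm_num, rfl⟩
    · exact ⟨13, by norm_num, rfl⟩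
  congr 1
  ext g
  constructor
  · rintro ⟨n, hn, rfl⟩
    obtain ⟨m, hm, e⟩ := key n hn
    exact ⟨m, hm, e.symm⟩
  · rintro ⟨n, hn, rfl⟩
    obtain ⟨m, hm, e⟩ := key' n hn
    exact ⟨m, hm, e.symm⟩

end

/-! ### The three cases -/

section
variable {G : Type*} [Group G] {z : G} {ph : ℕ → G} {y1 y2 : G}

/-- **Configuration `(0, 0)`**: `⟨C(z), y1, y2⟩` is a copy of `SL(5, 2)`. -/
theorem sl5 (h : Emb z ph) (hz : z ≠ 1) (c : Config (fun i j => ph (X i j)) 0 0 1 y1 y2)
    (e1' : (y1⁻¹ * ph (X 3 2)) ^ 3 = 1) (e2' : (y2⁻¹ * ph (X 2 1)) ^ 3 = 1) :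
    ∃ f : SL →* G, Function.Injective f ∧
      f.range = Subgroup.centralizer ({z} : Set G) ⊔ Subgroup.closure {y1, y2} ∧
      (∀ a, C a → f (ModelL5.tS a) = ph a) ∧ f ModelL5.y1M = y1 ∧ f ModelL5.y2M = y2 := by
  obtain ⟨f, h1, h2, h3⟩ := L5Case.exists_embedding (x := fun i j => ph (X i j)) (y1 := y1) (y2 := y2)
    ⟨st_of_emb h, c, e1', e2'⟩ (by
      show ph (X 0 4) ≠ 1
      rw [zc_eq, h.z_eq]
      exact hz)
  have hy1 := h2 12 (by norm_num)
  have hy2 := h2 14 (by norm_num)
  rw [g12, g12] at hy1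
  rw [g14, g14] at hy2
  refine ⟨f, h1, ?_, ?_, hy1, hy2⟩
  · rw [h3, closure_gy h]
  · have key : ∀ w : List ℕ, f (ModelL5.tS (evC w)) = ph (evC w) := by
      intro w
      induction w with
      | nil =>
        show f (ModelL5.tS e1) = ph e1
        rw [ModelL5.tS_e1, map_one, ph_e1 h]
      | cons l w ih =>
        have e : evC (l :: w) = mu (cx l) (evC w) := rfl
        have kl : f (ModelL5.tS (cx l)) = ph (cx l) := by
          rcases Nat.lt_or_ge l 12 with hl | hl
          · have h4 := h2 l (by omega)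
            rw [gy_of_lt _ _ _ hl, gy_of_lt _ _ _ hl, gx_ph h] at h4
            have kc : ∀ l < 12, ModelL5.c16 l = cx l := by decide +kernel
            rw [← h4, ← gy_of_lt ModelL5.xM ModelL5.y1M ModelL5.y2M hl, ModelL5.gy_eq, kc l hl]
          · rw [cx_of_ge hl, ModelL5.tS_e1, map_one, ph_e1 h]
        rw [e, ModelL5.tS_mul (ModelL5.U_of_C (C_cx l)) (ModelL5.U_of_C (C_evC w)), map_mul, ih,
          h.mul (C_cx l) (C_evC w), kl]
    intro a ha
    obtain ⟨w1, w2, w3, rfl⟩ := exists_word ha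
    rw [h.mul ((C_evC w1).mul (C_evC w2)) (C_evC w3), h.mul (C_evC w1) (C_evC w2),
      ModelL5.tS_mul (ModelL5.U_of_C ((C_evC w1).mul (C_evC w2))) (ModelL5.U_of_C (C_evC w3)),
      ModelL5.tS_mul (ModelL5.U_of_C (C_evC w1)) (ModelL5.U_of_C (C_evC w2)), map_mul, map_mul,
      key, key, key]

/-- **Configuration `(1, 0)`**: `⟨C(z), y1, y2⟩` is a copy of `M24`. -/
theorem m24 (h : Emb z ph) (hz : z ≠ 1)
    (c : Config (fun i j => ph (X i j)) 1 0 (ph (X 1 4)) y1 y2)
    (e1' : ((ph (X 1 4) * y1 * ph (X 1 4))⁻¹ * ph (X 2 3) * ph (X 3 2) * y2) ^ 4 = 1)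
    (e2' : ((ph (X 1 4) * y2 * ph (X 1 4))⁻¹ * ph (X 2 1) * ph (X 0 4)) ^ 3 = 1) :
    ∃ f : M24 →* G, Function.Injective f ∧
      f.range = Subgroup.centralizer ({z} : Set G) ⊔ Subgroup.closure {y1, y2} ∧
      (∀ n < 16, f (gy ModelM24.xM ModelM24.y1M ModelM24.y2M n) =
        gy (fun i j => ph (X i j)) y1 y2 n) := by
  obtain ⟨f, h1, h2, h3⟩ := M24Case.exists_embedding (x := fun i j => ph (X i j)) (y1 := y1)
    (y2 := y2) ⟨st_of_emb h, c, e1', e2'⟩ (by
      show ph (X 0 4) ≠ 1
      rw [zc_eq, h.z_eq]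
      exact hz)
  exact ⟨f, h1, by rw [h3, closure_gy h], h2⟩

/-- **Configuration `(0, 1)`**: `⟨C(z), y1, y2⟩` is a copy of `M24`. -/
theorem m24' (h : Emb z ph) (hz : z ≠ 1)
    (c : Config (fun i j => ph (X i j)) 0 1 (ph (X 0 3)) y1 y2)
    (e1' : ((ph (X 0 3) * y2 * ph (X 0 3))⁻¹ * ph (X 1 2) * ph (X 2 1) * y1) ^ 4 = 1)
    (e2' : ((ph (X 0 3) * y1 * ph (X 0 3))⁻¹ * ph (X 3 2) * ph (X 0 4)) ^ 3 = 1) :
    ∃ f : M24 →* G, Function.Injective f ∧
      f.range = Subgroup.centralizer ({z} : Set G) ⊔ Subgroup.closure {y1, y2} ∧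
      (∀ n < 16, f (gy ModelM24.xM ModelM24.y1M ModelM24.y2M n) =
        gy (mir fun i j => ph (X i j)) y2 y1 n) := by
  have hf : ph (X 0 3) * ph (X 0 3) = 1 := (st_of_emb h).sq 2
  obtain ⟨f, h1, h2, h3⟩ := M24Case.exists_embedding (x := mir fun i j => ph (X i j)) (y1 := y2)
    (y2 := y1) ⟨st_mir h, config_mir hf c, e1', e2'⟩ (by
      show ph (X 0 4) ≠ 1
      rw [zc_eq, h.z_eq]
      exact hz)
  exact ⟨f, h1, by rw [h3, closure_mir, closure_gy h], h2⟩

end

end Cfsg.Agent.Held.EmbCases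
end
end
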