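import Cfsg.Agent.Held.Letters
set_option linter.all false

/-!
# The relators of `Side` as words, and the Steinberg relators of an embedding
-/

set_option autoImplicit false

namespace Cfsg.Agent.Held.SideWords

open Cfsg.Agent.SporadicRecognition.CosetCert Cfsg.Agent.Held.Config Cfsg.Agent.Held.Letters

/-- power of a word -/
def pw (n : ℕ) (w : List ℕ) : List ℕ := (List.replicate n w).flatten

/-- letter number of the root element `x i j` -/
def LN (i j : ℕ) : ℕ :=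
  ([[16, 0, 1, 2, 3], [16, 16, 4, 5, 6], [16, 10, 16, 7, 8], [16, 16, 11, 16, 9]].getD i []).getD j 16

/-- letter number of the mirror image -/
def LM (i j : ℕ) : ℕ := LN (4 - j) (4 - i)

/-- the root elements occurring in `Side` -/
def pairs : List (ℕ × ℕ) :=
  [(0,1), (0,2), (0,3), (0,4), (1,2), (1,3), (1,4), (2,1), (2,3), (2,4), (3,4)]

/-- the relators of `Side` -/
def sideW (L : ℕ → ℕ → ℕ) (y Y t : ℕ) : List (List ℕ) :=
  [[y, y, y], [L 3 4, y, L 3 4, y],
   [Y, L 0 3, y, L 0 4], [Y, L 1 3, y, L 1 4], [Y, L 2 3, y, L 2 4],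
   [Y, L 0 4, y, L 0 4, L 0 3], [Y, L 1 4, y, L 1 4, L 1 3], [Y, L 2 4, y, L 2 4, L 2 3],
   [Y, L 0 1, y] ++ (pw t [L 2 3, L 0 3] ++ [L 0 1]),
   [Y, L 0 2, y] ++ (pw t [L 1 3, L 0 3] ++ [L 0 2]),
   [Y, L 1 2] ++ (pw t [L 0 4] ++ ([y] ++ (pw t [L 0 4] ++ [L 1 2]))),
   [Y, L 2 1] ++ (pw t [L 0 4] ++ ([y] ++ (pw t [L 0 4] ++ [L 2 1])))]

section
variable {G : Type*} [Group G]

theorem ev_pw (g : ℕ → G) (n : ℕ) (w : List ℕ) : ev g (pw n w) = ev g w ^ n := ev_flatten g n w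

theorem rel_aux {a b c y : G} (h : a * y = y * b) (hc : b * c = 1) : y⁻¹ * (a * (y * c)) = 1 := by
  rw [← mul_assoc a, h, mul_assoc, hc, mul_one, inv_mul_cancel]

theorem sideW_ok {g : ℕ → G} {x : ℕ → ℕ → G} {L : ℕ → ℕ → ℕ} {y Y t : ℕ} {w : G}
    (hL : ∀ p ∈ pairs, g (L p.1 p.2) = x p.1 p.2) (hsq : ∀ p ∈ pairs, x p.1 p.2 * x p.1 p.2 = 1)
    (hy : g y = w) (hY : g Y = w⁻¹) (s : Side x t w) : ∀ r ∈ sideW L y Y t, ev g r = 1 := by
  have L01 : g (L 0 1) = x 0 1 := hL (0,1) (by decide)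
  have L02 : g (L 0 2) = x 0 2 := hL (0,2) (by decide)
  have L03 : g (L 0 3) = x 0 3 := hL (0,3) (by decide)
  have L04 : g (L 0 4) = x 0 4 := hL (0,4) (by decide)
  have L12 : g (L 1 2) = x 1 2 := hL (1,2) (by decide)
  have L13 : g (L 1 3) = x 1 3 := hL (1,3) (by decide)
  have L14 : g (L 1 4) = x 1 4 := hL (1,4) (by decide)
  have L21 : g (L 2 1) = x 2 1 := hL (2,1) (by decide)
  have L23 : g (L 2 3) = x 2 3 := hL (2,3) (by decide)
  have L24 : g (L 2 4) = x 2 4 := hL (2,4) (by decide)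
  have L34 : g (L 3 4) = x 3 4 := hL (3,4) (by decide)
  have q01 : x 0 1 * x 0 1 = 1 := hsq (0,1) (by decide)
  have q02 : x 0 2 * x 0 2 = 1 := hsq (0,2) (by decide)
  have q03 : x 0 3 * x 0 3 = 1 := hsq (0,3) (by decide)
  have q04 : x 0 4 * x 0 4 = 1 := hsq (0,4) (by decide)
  have q12 : x 1 2 * x 1 2 = 1 := hsq (1,2) (by decide)
  have q13 : x 1 3 * x 1 3 = 1 := hsq (1,3) (by decide)
  have q14 : x 1 4 * x 1 4 = 1 := hsq (1,4) (by decide)
  have q21 : x 2 1 * x 2 1 = 1 := hsq (2,1) (by decide)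
  have q23 : x 2 3 * x 2 3 = 1 := hsq (2,3) (by decide)
  have q24 : x 2 4 * x 2 4 = 1 := hsq (2,4) (by decide)
  have q34 : x 3 4 * x 3 4 = 1 := hsq (3,4) (by decide)
  have dd : ∀ a b : G, a * a = 1 → b * b = 1 → (b * a) * (a * b) = 1 := by
    intro a b ha hb
    rw [mul_assoc, ← mul_assoc a, ha, one_mul, hb]
  have inv2 : ∀ a b : G, a * a = 1 → b * b = 1 → a * b = (b * a)⁻¹ := by
    intro a b ha hb
    rw [eq_inv_iff_mul_eq_one]
    exact dd b a hb ha
  have pp : x 0 4 ^ t * x 0 4 ^ t = 1 := by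
    rw [← (Commute.refl (x 0 4)).mul_pow, q04, one_pow]
  intro r hr
  simp only [sideW, List.mem_cons, List.not_mem_nil, or_false] at hr
  rcases hr with rfl | rfl | rfl | rfl | rfl | rfl | rfl | rfl | rfl | rfl | rfl | rfl
  · simp only [ev_cons, ev_nil, hy, mul_one]
    have := s.cube
    rw [pow_succ, pow_two, mul_assoc] at this
    exact this
  · simp only [ev_cons, ev_nil, hy, mul_one, L34]
    have := s.inv
    rw [← mul_assoc, ← mul_assoc, this, inv_mul_cancel]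
  · simp only [ev_cons, ev_nil, hy, hY, mul_one, L03, L04]
    exact rel_aux (s.act3 0 (by norm_num)) q04
  · simp only [ev_cons, ev_nil, hy, hY, mul_one, L13, L14]
    exact rel_aux (s.act3 1 (by norm_num)) q14
  · simp only [ev_cons, ev_nil, hy, hY, mul_one, L23, L24]
    exact rel_aux (s.act3 2 (by norm_num)) q24
  · simp only [ev_cons, ev_nil, hy, hY, mul_one, L03, L04]
    exact rel_aux (s.act4 0 (by norm_num)) (dd _ _ q04 q03)
  · simp only [ev_cons, ev_nil, hy, hY, mul_one, L13, L14]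
    exact rel_aux (s.act4 1 (by norm_num)) (dd _ _ q14 q13)
  · simp only [ev_cons, ev_nil, hy, hY, mul_one, L23, L24]
    exact rel_aux (s.act4 2 (by norm_num)) (dd _ _ q24 q23)
  · simp only [ev_append, ev_cons, ev_nil, hy, hY, mul_one, ev_pw, L01, L23, L03, mul_assoc]
    refine rel_aux s.x01 ?_
    rw [inv2 _ _ q23 q03, inv_pow, mul_assoc, ← mul_assoc ((x 0 3 * x 2 3) ^ t), mul_inv_cancel,
      one_mul, q01]
  · simp only [ev_append, ev_cons, ev_nil, hy, hY, mul_one, ev_pw, L02, L13, L03, mul_assoc]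
    refine rel_aux s.x02 ?_
    rw [inv2 _ _ q13 q03, inv_pow, mul_assoc, ← mul_assoc ((x 0 3 * x 1 3) ^ t), mul_inv_cancel,
      one_mul, q02]
  · simp only [ev_append, ev_cons, ev_nil, hy, hY, mul_one, ev_pw, L12, L04, mul_assoc]
    have h := rel_aux (c := x 0 4 ^ t * x 1 2) s.x12 (by
      rw [mul_assoc, ← mul_assoc (x 0 4 ^ t), pp, one_mul, q12])
    rw [mul_assoc] at h
    exact h
  · simp only [ev_append, ev_cons, ev_nil, hy, hY, mul_one, ev_pw, L21, L04, mul_assoc]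
    have h := rel_aux (c := x 0 4 ^ t * x 2 1) s.x21 (by
      rw [mul_assoc, ← mul_assoc (x 0 4 ^ t), pp, one_mul, q21])
    rw [mul_assoc] at h
    exact h

end

end Cfsg.Agent.Held.SideWords
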